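import Cfsg.Agent.S5124
import Cfsg.Agent.S5128
import Cfsg.Agent.S5132
import Cfsg.Agent.S5133
import Cfsg.Agent.S5134
import Cfsg.Agent.S5256

set_option autoImplicit false

/-!
# Definitions for S5271 (weakly embedded subgroups and nilpotency of fusion systems), helper85

`WkEmb F d`: every subgroup of `S` of order `d` is weakly embedded in `F`.
`WkNorm F d`: the normalizer system of every fully normalized subgroup of order `d` is inner.
`wk_quot`: the factor system of a saturated system modulo a strongly closed subgroup exists on `S/T`, is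
saturated, and its hyperfocal subgroup is the image of the hyperfocal subgroup.
-/

namespace Cfsg.Agent.Helper85

open Cfsg Cfsg.FusionSystem

variable {Ω : Type*} [Group Ω] {S : Subgroup Ω}

/-- Every subgroup of `S` of order `d` is weakly embedded in `F`. -/
def WkEmb (F : FusionSystem S) (d : ℕ) : Prop :=
  ∀ Q : Subgroup Ω, Q ≤ S → Nat.card ↥Q = d →
    ∃ P : Subgroup Ω, F.StronglyClosed P ∧ F.StronglyClosed (Q ⊔ P) ∧ F.StronglyClosed (Q ⊓ P)

/-- The normalizer system of every fully normalized subgroup of order `d` is the inner system. -/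
def WkNorm (F : FusionSystem S) (d : ℕ) : Prop :=
  ∀ H : Subgroup Ω, F.IsFullyNormalized H → Nat.card ↥H = d →
    ∀ N : FusionSystem (normalizerIn S H), F.IsNormalizerSystem H N →
      ∀ P : Subgroup Ω, N.Hom P = (innerFusionSystem (normalizerIn S H)).Hom P

/-- The factor system modulo a strongly closed subgroup: existence, saturation, hyperfocal subgroup. -/
theorem wk_quot [Finite S] {p : ℕ} [Fact p.Prime] (hS : IsPGroup p S) (F : FusionSystem S)
    (hF : F.IsSaturated p) (T : Subgroup Ω) (hT : F.StronglyClosed T) [(T.subgroupOf S).Normal] :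
    ∃ E : FusionSystem (⊤ : Subgroup (S ⧸ T.subgroupOf S)),
      F.IsFactorSystem T (QuotientGroup.mk' (T.subgroupOf S)) E ∧ E.IsSaturated p ∧
      E.hyperfocalSubgroup p =
        ((F.hyperfocalSubgroup p).subgroupOf S).map (QuotientGroup.mk' (T.subgroupOf S)) := by
  obtain ⟨E, hE⟩ := Cfsg.Agent.S5132.result p hS F T hT
  have hsur := Cfsg.Agent.S5134.result p hS F hF T hT (QuotientGroup.mk' (T.subgroupOf S)) E hE
  have hsat := Cfsg.Agent.S5133.result p hS F hF E (QuotientGroup.mk' (T.subgroupOf S)) hsur
  exact ⟨E, hE, hsat, Cfsg.Agent.S5256.result p hS F hF T hT (QuotientGroup.mk' (T.subgroupOf S)) E hE⟩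

end Cfsg.Agent.Helper85
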