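import Cfsg.Agent.Helper85.WkDefs
import Cfsg.Agent.Helper84.FusionAut

set_option autoImplicit false

/-!
# S5271 piece HB (helper85): a fusion system all of whose maps are conjugations by elements of `S` has trivial
hyperfocal subgroup.
-/

namespace Cfsg.Agent.Helper85

open Cfsg Cfsg.FusionSystem

variable {Ω : Type*} [Group Ω] {S : Subgroup Ω}

theorem wk_hyp_bot_of_inner [Finite S] {p : ℕ} [Fact p.Prime] (hS : IsPGroup p S) (E : FusionSystem S)
    (h : ∀ (P : Subgroup Ω) (φ : P →* Ω), φ ∈ E.Hom P → ∃ g ∈ S, ∀ x : P, φ x = g * (x : Ω) * g⁻¹) :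
    E.hyperfocalSubgroup p = ⊥ := by
  rw [eq_bot_iff]
  unfold hyperfocalSubgroup
  rw [Subgroup.closure_le]
  rintro y ⟨P, α, x, hPS, hα, rfl⟩
  have hres : pResidual p (E.autGroup P) = ⊥ := by
    rw [eq_bot_iff]
    unfold pResidual
    rw [Subgroup.closure_le]
    intro β hβ
    have hβ' : Nat.Coprime (orderOf β) p := hβ
    obtain ⟨g, hg, hgx⟩ := h P _ ((Helper84.mem_autGroup_iff E hPS (β : MulAut P)).1 β.2)
    obtain ⟨k, hk⟩ := hS ⟨g, hg⟩
    have hgk : g ^ p ^ k = 1 := by
      have := congrArg Subtype.val hk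
      simpa using this
    have hgx' : ∀ x : P, (((β : MulAut P) x : P) : Ω) = g * (x : Ω) * g⁻¹ := fun x => hgx x
    have hpow : ∀ n : ℕ, ∀ x : P, ((((β : MulAut P) ^ n) x : P) : Ω) = g ^ n * (x : Ω) * (g ^ n)⁻¹ := by
      intro n
      induction n with
      | zero => intro x; simp
      | succ n ih =>
        intro x
        rw [pow_succ, MulAut.mul_apply, ih, hgx', pow_succ]
        group
    have hβk : β ^ p ^ k = 1 := by
      apply Subtype.ext
      apply MulEquiv.ext
      intro x
      apply Subtype.ext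
      have h1 := hpow (p ^ k) x
      rw [hgk] at h1
      simpa using h1
    have hdvd : orderOf β ∣ p ^ k := orderOf_dvd_of_pow_eq_one hβk
    have hc : Nat.Coprime (orderOf β) (p ^ k) := Nat.Coprime.pow_right k hβ'
    have h1 : orderOf β = 1 := Nat.Coprime.eq_one_of_dvd hc hdvd
    have h2 : β = 1 := orderOf_eq_one_iff.1 h1
    rw [h2]
    exact Subgroup.one_mem _
  rw [hres, Subgroup.mem_bot] at hα
  subst hα
  simp

end Cfsg.Agent.Helper85
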