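import Cfsg.Agent.Helper85.Ambient
import Cfsg.Agent.Helper85.Residual
import Cfsg.Agent.Helper86.Residual
import Cfsg.Agent.Helper88.FusionF

set_option autoImplicit false

namespace Cfsg.Agent.Helper85

open Cfsg Cfsg.FusionSystem
open Cfsg.Agent.Helper88

variable {Ω : Type*} [Group Ω] {S : Subgroup Ω}

/-- Restriction of automorphisms to an invariant subgroup, as a group homomorphism. -/
theorem exists_restrictHom {R R₀ : Subgroup Ω} (A : Subgroup (MulAut R)) (hR₀ : R₀ ≤ R)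
    (h : ∀ β ∈ A, ∀ x ∈ R₀, autFun β x ∈ R₀) :
    ∃ Ψ : A →* MulAut R₀, ∀ (β : A), ∀ x ∈ R₀, autFun (Ψ β) x = autFun (β : MulAut R) x := by
  classical
  let mk : A → MulAut R₀ := fun β =>
    { toFun := fun x => ⟨autFun (β : MulAut R) x, h β β.2 x x.2⟩
      invFun := fun x => ⟨autFun ((β : MulAut R)⁻¹) x, h _ (A.inv_mem β.2) x x.2⟩
      left_inv := fun x => Subtype.ext (autFun_inv_apply (β : MulAut R) (hR₀ x.2))
      right_inv := fun x => Subtype.ext (autFun_apply_inv (β : MulAut R) (hR₀ x.2))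
      map_mul' := fun x y => Subtype.ext (autFun_map_mul (β : MulAut R) (hR₀ x.2) (hR₀ y.2)) }
  have hmk : ∀ (β : A), ∀ x ∈ R₀, autFun (mk β) x = autFun (β : MulAut R) x := by
    intro β x hx
    rw [autFun_apply' _ hx]
    rfl
  refine ⟨{ toFun := mk, map_one' := ?_, map_mul' := ?_ }, hmk⟩
  · apply autFun_ext
    intro x hx
    rw [hmk 1 x hx, autFun_one hx]
    exact autFun_one (hR₀ hx)
  · intro a b
    apply autFun_ext
    intro x hx
    rw [hmk (a * b) x hx, autFun_mul _ _ hx, hmk a _ (autFun_mem _ hx), hmk b x hx]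
    exact autFun_mul _ _ (hR₀ hx)

/-- A map of a subsystem is a map of the system. -/
theorem isMap_of_subsystem {T : Subgroup Ω} {E : FusionSystem T} {F : FusionSystem S}
    (h : E.IsSubsystemOf F) {P : Subgroup Ω} {f : Ω → Ω} (hf : IsMap E P f) : IsMap F P f := by
  obtain ⟨φ, hφ, hφf⟩ := hf
  exact ⟨φ, h P hφ, hφf⟩

/-- A subgroup normal in `S` and containing the hyperfocal subgroup is strongly closed (ambient form). -/
theorem mapsTo_of_hyperfocal_le [Finite S] {p : ℕ} [Fact p.Prime] (hS : IsPGroup p S)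
    {F : FusionSystem S} (hF : F.IsSaturated p) {T : Subgroup Ω}
    (hTn : ∀ s ∈ S, ∀ x ∈ T, s * x * s⁻¹ ∈ T) (hT : F.hyperfocalSubgroup p ≤ T)
    {P : Subgroup Ω} {f : Ω → Ω} (hf : IsMap F P f) : ∀ x ∈ P, x ∈ T → f x ∈ T := by
  refine alperin_induction hS hF (fun P f => ∀ x ∈ P, x ∈ T → f x ∈ T) ?_ ?_ ?_ hf
  · intro R hRa _ _ _ α hα P hP x hx hxT
    have hxR := hP hx
    have hRS : R ≤ S := hRa.1
    have : Finite R := finite_of_le hRS
    obtain ⟨P₀, hP₀⟩ := hRa.2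
    obtain ⟨σ, hσ, β, hβ, hαeq⟩ := exists_sylow_mul_pResidual P₀ ⟨α, hα⟩
    have hαeq' : α = (σ : MulAut R) * (β : MulAut R) := congrArg Subtype.val hαeq
    rw [hP₀, Subgroup.mem_subgroupOf] at hσ
    obtain ⟨s, hs, hsc⟩ := (Helper88.mem_autInducedBy_iff S R _).1 hσ
    have hβx : autFun (β : MulAut R) x ∈ T := by
      have h1 : x⁻¹ * autFun (β : MulAut R) x ∈ F.hyperfocalSubgroup p := by
        apply Subgroup.subset_closure
        exact ⟨R, β, ⟨x, hxR⟩, hRS, hβ, by rw [autFun_apply' _ hxR]⟩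
      have h2 := T.mul_mem hxT (hT h1)
      rwa [mul_inv_cancel_left] at h2
    have hβR : autFun (β : MulAut R) x ∈ R := autFun_mem _ hxR
    rw [hαeq', autFun_mul _ _ hxR, autFun_apply' _ hβR, hsc]
    exact hTn s hs _ hβx
  · intro P Q f g hf hg hCf hCg hPQ x hx hxT
    exact hCg _ (hPQ x hx) (hCf x hx hxT)
  · intro P f g hf hCf hfg x hx hxT
    rw [hfg x hx]; exact hCf x hx hxT

end Cfsg.Agent.Helper85
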