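import Mathlib
import Cfsg.Agent.Helper9.OrdTools
import Cfsg.Agent.Helper9.OrdTools2
import Cfsg.Agent.Helper8.SylFix

set_option autoImplicit false
set_option linter.style.haveILetI false

namespace Cfsg.Agent.Helper85

open Cfsg.Agent.Helper9 Cfsg.Agent.Helper8

variable {G : Type*} [Group G] [Finite G]

/-- an element `t ≠ 1` of `2`-power order has a power of order `2`. -/
theorem t7920_exists_pow_order_two {t : G} {k : ℕ} (ht : t ≠ 1) (hk : orderOf t ∣ 2 ^ k) :
    ∃ m : ℕ, orderOf (t ^ m) = 2 := by
  have h2 : 2 ∣ orderOf t := by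
    obtain ⟨j, _, hj⟩ := (Nat.dvd_prime_pow Nat.prime_two).mp hk
    rcases Nat.eq_zero_or_pos j with h0 | hpos
    · rw [h0, pow_zero, orderOf_eq_one_iff] at hj
      exact absurd hj ht
    · rw [hj]
      exact dvd_pow_self 2 hpos.ne'
  exact ⟨orderOf t / 2, orderOf_pow_orderOf_div (orderOf_pos t).ne' h2⟩

-- PIECE N11b
theorem o7920_n11_ne_45 [IsSimpleGroup G] (hG : Nat.card G = 7920) :
    Nat.card (Sylow 11 G) ≠ 45 := by
  classical
  intro h45
  haveI : Fact (Nat.Prime 11) := ⟨by norm_num⟩
  haveI : Fact (Nat.Prime 2) := ⟨by norm_num⟩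
  obtain ⟨P⟩ : Nonempty (Sylow 11 G) := inferInstance
  have hP : Nat.card (P : Subgroup G) = 11 := by
    have := OrdTools.sylow_card (p := 11) 1 720 (by rw [hG]; norm_num) (by norm_num) P
    simpa using this
  have hna : ∃ a b : G, a * b ≠ b * a := by
    by_contra hcon
    push Not at hcon
    have hn : (P : Subgroup G).Normal :=
      ⟨fun n hn g => by rw [hcon g n, mul_inv_cancel_right]; exact hn⟩
    rcases hn.eq_bot_or_eq_top with h | h
    · rw [h, Subgroup.card_bot] at hP; omega
    · rw [h, Subgroup.card_top, hG] at hP; omega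
  have hnum := OrdTools.sylow_num P (by rw [hP]; norm_num) (by rw [hP, hG]; norm_num)
  have hN : Nat.card (Subgroup.normalizer ((P : Subgroup G) : Set G)) = 176 := by
    have := hnum.2.2.2
    rw [h45, hG] at this
    omega
  obtain ⟨e, he10, he1, heq, h11C⟩ :=
    OrdTools.normalizer_centralizer_prime P hP (by rw [hG]; norm_num)
  have hC : Nat.card (Subgroup.centralizer ((P : Subgroup G) : Set G)) = 88 := by
    rw [hN] at heq
    obtain ⟨c', hc'⟩ := h11C
    rw [hc'] at heq ⊢
    have he : e ≤ 10 := Nat.le_of_dvd (by norm_num) he10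
    have he10' : e ∣ 10 := he10
    interval_cases e <;> omega
  -- a subgroup of order 8 in the centralizer
  obtain ⟨K, hK⟩ := Sylow.exists_subgroup_card_pow_prime (G :=
    ↥(Subgroup.centralizer ((P : Subgroup G) : Set G))) 2 (n := 3)
    (by rw [hC]; norm_num)
  set T0 : Subgroup G := K.map (Subgroup.centralizer ((P : Subgroup G) : Set G)).subtype
    with hT0
  have hT0card : Nat.card T0 = 8 := by
    rw [hT0, Subgroup.card_map_of_injective (Subgroup.subtype_injective _), hK]
    norm_num
  have hT0C : T0 ≤ Subgroup.centralizer ((P : Subgroup G) : Set G) := by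
    rintro x ⟨n, _, rfl⟩
    exact n.2
  have h1lt : 1 < Nat.card (Sylow 11 G) := by rw [h45]; norm_num
  haveI : Fintype (Sylow 11 G) := Fintype.ofFinite _
  -- every nontrivial element of T0 fixes exactly one Sylow 11-subgroup
  have hfix : ∀ t ∈ T0, t ≠ 1 → Nat.card (MulAction.fixedBy (Sylow 11 G) t) = 1 := by
    intro t ht ht1
    have hot : orderOf t ∣ 2 ^ 3 := by
      have := Subgroup.orderOf_dvd_natCard T0 ht
      rw [hT0card] at this
      exact this
    obtain ⟨m, hm⟩ := t7920_exists_pow_order_two ht1 hot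
    set s : G := t ^ m with hs
    have hsT : s ∈ T0 := pow_mem ht m
    have hsC := hT0C hsT
    have hs1 : s ≠ 1 := by
      intro h
      rw [h, orderOf_one] at hm
      omega
    have hs2 : s ^ 2 = 1 := by rw [← hm]; exact pow_orderOf_eq_one s
    have h1 : Nat.card (MulAction.fixedBy (Sylow 11 G) s) ≡ 1 [MOD 11] :=
      SylFix.card_fixedBy_modEq_one P s
        (fun x hx => Subgroup.mem_centralizer_iff.mp hsC x hx)
    have h2 : Nat.card (Sylow 11 G) ≡ Nat.card (MulAction.fixedBy (Sylow 11 G) s) [MOD 2] :=
      SylFix.card_fixedBy_modEq (p := 11) (q := 2) (k := 1) s (by rw [hm, pow_one])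
    rw [h45] at h2
    have hlt := SylFix.card_fixedBy_lt h1lt s hs1
    rw [h45] at hlt
    -- the sign argument
    have hmod4 : Nat.card (MulAction.fixedBy (Sylow 11 G) s) % 4 = 1 := by
      by_contra hcon
      have hσ2 : (MulAction.toPermHom G (Sylow 11 G) s) ^ 2 = 1 := by
        rw [← map_pow, hs2, map_one]
      have hsign : Equiv.Perm.sign (MulAction.toPermHom G (Sylow 11 G) s) = 1 :=
        OrdTools.hom_trivial hna
          (Equiv.Perm.sign.comp (MulAction.toPermHom G (Sylow 11 G))) s
      have e : Fintype.card (Function.fixedPoints (MulAction.toPermHom G (Sylow 11 G) s)) =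
          Nat.card (MulAction.fixedBy (Sylow 11 G) s) := by
        rw [← Nat.card_eq_fintype_card]
        rfl
      have := SylFix.sign_of_involution
        (MulAction.toPermHom G (Sylow 11 G) s) hσ2
        ((45 - Nat.card (MulAction.fixedBy (Sylow 11 G) s)) / 2)
        (by
          rw [e, ← Nat.card_eq_fintype_card, h45]
          unfold Nat.ModEq at h2
          omega)
        (by
          rw [Nat.odd_iff]
          unfold Nat.ModEq at h2
          omega)
      rw [hsign] at this
      exact absurd this (by decide)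
    have hs_one : Nat.card (MulAction.fixedBy (Sylow 11 G) s) = 1 := by
      unfold Nat.ModEq at h1
      omega
    -- fixedBy t ⊆ fixedBy s
    have hsub : MulAction.fixedBy (Sylow 11 G) t ⊆ MulAction.fixedBy (Sylow 11 G) s := by
      intro X hX
      rw [MulAction.mem_fixedBy] at hX ⊢
      have hpow : ∀ j : ℕ, (t ^ j) • X = X := by
        intro j
        induction j with
        | zero => simp
        | succ j ih => rw [pow_succ, mul_smul, hX, ih]
      rw [hs]
      exact hpow m
    have hle : Nat.card (MulAction.fixedBy (Sylow 11 G) t) ≤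
        Nat.card (MulAction.fixedBy (Sylow 11 G) s) :=
      Nat.card_le_card_of_injective (Set.inclusion hsub) (Set.inclusion_injective hsub)
    have htP : t • P = P :=
      Sylow.smul_eq_iff_mem_normalizer.mpr (Subgroup.centralizer_le_normalizer _ (hT0C ht))
    haveI : Nonempty (MulAction.fixedBy (Sylow 11 G) t) := ⟨⟨P, htP⟩⟩
    have hpos : 0 < Nat.card (MulAction.fixedBy (Sylow 11 G) t) := Nat.card_pos
    omega
  have hdvd := SylFix.card_dvd_of_fix_one (X := Sylow 11 G) T0 hfix
  rw [hT0card, h45] at hdvd
  norm_num at hdvd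

end Cfsg.Agent.Helper85
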