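import Mathlib
import Cfsg.Agent.Helper9.OrdTools
import Cfsg.Agent.Helper9.OrdTools2
import Cfsg.Agent.Helper8.SylFix

set_option autoImplicit false
set_option linter.style.haveILetI false

namespace Cfsg.Agent.Helper85

open Cfsg.Agent.Helper9 Cfsg.Agent.Helper8

variable {G : Type*} [Group G] [Finite G]

/-- removing a point from a finite type lowers the cardinality by one. -/
theorem t7920_card_ne_add_one {α : Type*} [Finite α] (a : α) :
    Nat.card {x : α // x ≠ a} + 1 = Nat.card α := by
  classical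
  haveI := Fintype.ofFinite α
  rw [Nat.card_eq_fintype_card, Nat.card_eq_fintype_card, Fintype.card_subtype_compl,
    Fintype.card_subtype_eq]
  have : 0 < Fintype.card α := Fintype.card_pos_iff.mpr ⟨a⟩
  omega

-- PIECE N5a
theorem o7920_fix5_le (hG : Nat.card G = 7920)
    (hC11 : ∀ P : Sylow 11 G, Nat.card ↥(Subgroup.centralizer ((P : Subgroup G) : Set G)) = 11)
    (hN11 : ∀ P : Sylow 11 G, Nat.card ↥(Subgroup.normalizer ((P : Subgroup G) : Set G)) = 55)
    (Q : Sylow 5 G) :
    Nat.card {P : Sylow 11 G //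
      (Q : Subgroup G) ≤ Subgroup.normalizer ((P : Subgroup G) : Set G)} ≤ 14 := by
  classical
  haveI : Fact (Nat.Prime 11) := ⟨by norm_num⟩
  haveI : Fact (Nat.Prime 5) := ⟨by norm_num⟩
  have h11 : ∀ P : Sylow 11 G, Nat.card (P : Subgroup G) = 11 := fun P => by
    have := OrdTools.sylow_card (p := 11) 1 720 (by rw [hG]; norm_num) (by norm_num) P
    simpa using this
  have h5 : Nat.card (Q : Subgroup G) = 5 := by
    have := OrdTools.sylow_card (p := 5) 1 1584 (by rw [hG]; norm_num) (by norm_num) Q
    simpa using this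
  by_cases hne : Nonempty {P : Sylow 11 G //
      (Q : Subgroup G) ≤ Subgroup.normalizer ((P : Subgroup G) : Set G)}
  swap
  · rw [not_nonempty_iff] at hne
    rw [Nat.card_of_isEmpty]
    norm_num
  obtain ⟨P0⟩ := hne
  -- number of Sylow 11-subgroups
  have hn : Nat.card (Sylow 11 G) = 144 := by
    have h1 : Nat.card (Sylow 11 G) =
        (Subgroup.normalizer (((P0 : Sylow 11 G) : Subgroup G) : Set G)).index :=
      Sylow.card_eq_index_normalizer (P0 : Sylow 11 G)
    have h2 := (Subgroup.normalizer (((P0 : Sylow 11 G) : Subgroup G) : Set G)).card_mul_index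
    rw [hN11, hG] at h2
    omega
  -- the injection
  let A := {P' : {P : Sylow 11 G //
      (Q : Subgroup G) ≤ Subgroup.normalizer ((P : Subgroup G) : Set G)} // P' ≠ P0}
  let B := {P : Sylow 11 G // P ≠ (P0 : Sylow 11 G)}
  have hP0n : ∀ u : G, u ∈ ((P0 : Sylow 11 G) : Subgroup G) → u • (P0 : Sylow 11 G) = P0 := by
    intro u hu
    rw [Sylow.smul_eq_iff_mem_normalizer]
    exact Subgroup.le_normalizer hu
  have hwell : ∀ (P' : A) (u : ((P0 : Sylow 11 G) : Subgroup G)),
      (u : G) • (P'.1 : Sylow 11 G) ≠ (P0 : Sylow 11 G) := by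
    intro P' u h
    apply P'.2
    apply Subtype.ext
    have h2 : (u : G)⁻¹ • ((u : G) • (P'.1 : Sylow 11 G)) = (u : G)⁻¹ • (P0 : Sylow 11 G) := by
      rw [h]
    rw [inv_smul_smul, hP0n _ (inv_mem u.2)] at h2
    exact h2
  let φ : A × ((P0 : Sylow 11 G) : Subgroup G) → B := fun x => ⟨(x.2 : G) • (x.1.1 : Sylow 11 G),
    hwell x.1 x.2⟩
  have hinj : Function.Injective φ := by
    rintro ⟨P', u⟩ ⟨P'', u'⟩ h
    have h1 : (u : G) • (P'.1 : Sylow 11 G) = (u' : G) • (P''.1 : Sylow 11 G) :=
      congrArg Subtype.val h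
    set w : G := (u' : G)⁻¹ * (u : G) with hw
    have hwP0 : w ∈ ((P0 : Sylow 11 G) : Subgroup G) := mul_mem (inv_mem u'.2) u.2
    have h2 : (P''.1 : Sylow 11 G) = w • (P'.1 : Sylow 11 G) := by
      rw [hw, mul_smul, h1, inv_smul_smul]
    -- every q in Q commutes with w
    have hcomm : ∀ q ∈ (Q : Subgroup G), q * w = w * q := by
      intro q hq
      have hq1 : q • (P'.1 : Sylow 11 G) = P'.1 :=
        Sylow.smul_eq_iff_mem_normalizer.mpr (P'.1.2 hq)
      have hq1' : q⁻¹ • (P'.1 : Sylow 11 G) = P'.1 := by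
        conv_lhs => rw [← hq1]
        rw [inv_smul_smul]
      have hq2 : q • (P''.1 : Sylow 11 G) = P''.1 :=
        Sylow.smul_eq_iff_mem_normalizer.mpr (P''.1.2 hq)
      have hq0 : q ∈ Subgroup.normalizer ((((P0 : Sylow 11 G) : Subgroup G)) : Set G) :=
        P0.2 hq
      set c : G := w⁻¹ * (q * w * q⁻¹) with hc
      have hcP0 : c ∈ ((P0 : Sylow 11 G) : Subgroup G) :=
        mul_mem (inv_mem hwP0) ((Subgroup.mem_normalizer_iff.mp hq0 w).mp hwP0)
      have hcN : c • (P'.1 : Sylow 11 G) = P'.1 := by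
        rw [hc, mul_smul, mul_smul, mul_smul, hq1', ← h2, hq2, h2, inv_smul_smul]
      have hc1 : c = 1 := by
        by_contra hc1
        have hz := OrdTools.zpowers_eq_sylow (P0 : Sylow 11 G) (h11 _) hcP0 hc1
        have hle : ((P0 : Sylow 11 G) : Subgroup G) ≤
            Subgroup.normalizer (((P'.1 : Sylow 11 G) : Subgroup G) : Set G) := by
          rw [← hz, Subgroup.zpowers_le]
          exact Sylow.smul_eq_iff_mem_normalizer.mp hcN
        have := SylFix.eq_of_le_normalizer (P0 : Sylow 11 G) (P'.1 : Sylow 11 G) hle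
        exact P'.2 (Subtype.ext this)
      have : w * c = w := by rw [hc1, mul_one]
      rw [hc, mul_inv_cancel_left] at this
      calc q * w = q * w * q⁻¹ * q := by group
        _ = w * q := by rw [this]
    have hw1 : w = 1 := by
      by_contra hw1
      have hz := OrdTools.zpowers_eq_sylow (P0 : Sylow 11 G) (h11 _) hwP0 hw1
      have hcz := OrdTools.centralizer_singleton_eq hz
      have hle : (Q : Subgroup G) ≤
          Subgroup.centralizer ((((P0 : Sylow 11 G) : Subgroup G)) : Set G) := by
        rw [← hcz]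
        intro q hq
        rw [Subgroup.mem_centralizer_iff]
        intro x hx
        rw [Set.mem_singleton_iff] at hx
        rw [hx]
        exact (hcomm q hq).symm
      have hdvd := Subgroup.card_dvd_of_le hle
      rw [h5, hC11] at hdvd
      norm_num at hdvd
    have huu : (u : G) = (u' : G) := by
      have : (u' : G) * w = (u' : G) := by rw [hw1, mul_one]
      rw [hw, mul_inv_cancel_left] at this
      exact this
    have hPP : (P'.1 : Sylow 11 G) = (P''.1 : Sylow 11 G) := by
      rw [h2, hw1, one_smul]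
    have e1 : P' = P'' := Subtype.ext (Subtype.ext hPP)
    have e2 : u = u' := Subtype.ext huu
    rw [e1, e2]
  have hcard := Nat.card_le_card_of_injective φ hinj
  rw [Nat.card_prod, h11] at hcard
  have hA := t7920_card_ne_add_one P0
  have hB := t7920_card_ne_add_one (P0 : Sylow 11 G)
  rw [hn] at hB
  change Nat.card A * 11 ≤ Nat.card B at hcard
  change Nat.card A + 1 = _ at hA
  change Nat.card B + 1 = 144 at hB
  omega

end Cfsg.Agent.Helper85
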