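import Mathlib
import Cfsg.Agent.Helper9.OrdTools
import Cfsg.Agent.Helper9.OrdTools2
import Cfsg.Agent.Helper8.SylFix

set_option autoImplicit false
set_option linter.style.haveILetI false

namespace Cfsg.Agent.Helper85

open Cfsg.Agent.Helper9 Cfsg.Agent.Helper8

variable {G : Type*} [Group G] [Finite G]

-- PIECE N5b
theorem o7920_norm5_le (hG : Nat.card G = 7920)
    (hC11 : ∀ P : Sylow 11 G, Nat.card ↥(Subgroup.centralizer ((P : Subgroup G) : Set G)) = 11)
    (hN11 : ∀ P : Sylow 11 G, Nat.card ↥(Subgroup.normalizer ((P : Subgroup G) : Set G)) = 55)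
    (Q : Sylow 5 G)
    (hfix : Nat.card {P : Sylow 11 G //
      (Q : Subgroup G) ≤ Subgroup.normalizer ((P : Subgroup G) : Set G)} ≤ 14) :
    Nat.card ↥(Subgroup.normalizer ((Q : Subgroup G) : Set G)) ≤ 70 := by
  classical
  haveI : Fact (Nat.Prime 11) := ⟨by norm_num⟩
  haveI : Fact (Nat.Prime 5) := ⟨by norm_num⟩
  have h11 : ∀ P : Sylow 11 G, Nat.card (P : Subgroup G) = 11 := fun P => by
    have := OrdTools.sylow_card (p := 11) 1 720 (by rw [hG]; norm_num) (by norm_num) P
    simpa using this
  have h5 : Nat.card (Q : Subgroup G) = 5 := by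
    have := OrdTools.sylow_card (p := 5) 1 1584 (by rw [hG]; norm_num) (by norm_num) Q
    simpa using this
  have hn : Nat.card (Sylow 11 G) = 144 := by
    obtain ⟨P1⟩ : Nonempty (Sylow 11 G) := inferInstance
    have h1 : Nat.card (Sylow 11 G) =
        (Subgroup.normalizer ((P1 : Subgroup G) : Set G)).index :=
      Sylow.card_eq_index_normalizer P1
    have h2 := (Subgroup.normalizer ((P1 : Subgroup G) : Set G)).card_mul_index
    rw [hN11, hG] at h2
    omega
  obtain ⟨P, hP⟩ : ∃ P : Sylow 11 G,
      (Q : Subgroup G) ≤ Subgroup.normalizer ((P : Subgroup G) : Set G) := by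
    have hQ : IsPGroup 5 (Q : Subgroup G) := Q.2
    have hnd : ¬ 5 ∣ Nat.card (Sylow 11 G) := by rw [hn]; norm_num
    obtain ⟨P, hP⟩ := hQ.nonempty_fixed_point_of_prime_not_dvd_card (Sylow 11 G) hnd
    refine ⟨P, fun q hq => ?_⟩
    have := hP ⟨q, hq⟩
    exact Sylow.smul_eq_iff_mem_normalizer.mp this
  set N := Subgroup.normalizer ((Q : Subgroup G) : Set G) with hN
  -- the orbit of P under N
  have horb : Nat.card (MulAction.orbit ↥N P) ≤ 14 := by
    refine le_trans ?_ hfix
    have hmem : ∀ P' ∈ MulAction.orbit ↥N P,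
        (Q : Subgroup G) ≤ Subgroup.normalizer ((P' : Subgroup G) : Set G) := by
      rintro P' ⟨n, rfl⟩ q hq
      change q ∈ Subgroup.normalizer ((((n : G) • P : Sylow 11 G) : Subgroup G) : Set G)
      apply Sylow.smul_eq_iff_mem_normalizer.mp
      have h1 : (n : G)⁻¹ * q * (n : G) ∈ (Q : Subgroup G) := by
        have := (Subgroup.mem_normalizer_iff.mp (inv_mem n.2) q).mp hq
        simpa using this
      have h2 : ((n : G)⁻¹ * q * (n : G)) • P = P :=
        Sylow.smul_eq_iff_mem_normalizer.mpr (hP h1)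
      conv_rhs => rw [← h2]
      simp [mul_smul]
    exact Nat.card_le_card_of_injective
      (fun x : MulAction.orbit ↥N P => (⟨x.1, hmem x.1 x.2⟩ : {P : Sylow 11 G //
      (Q : Subgroup G) ≤ Subgroup.normalizer ((P : Subgroup G) : Set G)}))
      (fun x y h => Subtype.ext (by have h' := congrArg Subtype.val h; exact h'))
  have hstab : Nat.card (MulAction.stabilizer ↥N P) ≤ 5 := by
    set K : Subgroup G := (MulAction.stabilizer ↥N P).map N.subtype with hK
    have hcard : Nat.card K = Nat.card (MulAction.stabilizer ↥N P) :=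
      Subgroup.card_map_of_injective (Subgroup.subtype_injective N)
    have hKP : K ≤ Subgroup.normalizer ((P : Subgroup G) : Set G) := by
      rintro x ⟨n, hn, rfl⟩
      exact Sylow.smul_eq_iff_mem_normalizer.mp (MulAction.mem_stabilizer_iff.mp hn)
    have hKN : K ≤ N := by
      rintro x ⟨n, hn, rfl⟩
      exact n.2
    have hd55 : Nat.card K ∣ 55 := (hN11 P) ▸ Subgroup.card_dvd_of_le hKP
    have h11K : ¬ 11 ∣ Nat.card K := by
      intro hdvd
      obtain ⟨x, hx⟩ := exists_prime_orderOf_dvd_card' (G := K) 11 hdvd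
      have hxo : orderOf (x : G) = 11 := by rw [Subgroup.orderOf_coe]; exact hx
      obtain ⟨P1, hP1⟩ := OrdTools.exists_sylow_of_orderOf h11 hxo
      have hle : (P1 : Subgroup G) ≤ Subgroup.normalizer ((P : Subgroup G) : Set G) := by
        rw [← hP1, Subgroup.zpowers_le]; exact hKP x.2
      have hPP := SylFix.eq_of_le_normalizer P1 P hle
      have hPN : (P : Subgroup G) ≤ N := by
        rw [hPP, ← hP1, Subgroup.zpowers_le]; exact hKN x.2
      have hbot : (P : Subgroup G) ⊓ (Q : Subgroup G) = ⊥ :=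
        disjoint_iff.mp (Subgroup.disjoint_of_coprime_natCard (by rw [h11, h5]; norm_num))
      have hle2 : (Q : Subgroup G) ≤ Subgroup.centralizer ((P : Subgroup G) : Set G) := by
        intro q hq
        rw [Subgroup.mem_centralizer_iff]
        intro u hu
        have hc : u * q * u⁻¹ * q⁻¹ ∈ (P : Subgroup G) ⊓ (Q : Subgroup G) := by
          refine Subgroup.mem_inf.mpr ⟨?_, ?_⟩
          · have h1 : q * u⁻¹ * q⁻¹ ∈ (P : Subgroup G) :=
              (Subgroup.mem_normalizer_iff.mp (hP hq) u⁻¹).mp (inv_mem hu)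
            have h2 := mul_mem hu h1
            have e : u * q * u⁻¹ * q⁻¹ = u * (q * u⁻¹ * q⁻¹) := by group
            rw [e]
            exact h2
          · have h1 : u * q * u⁻¹ ∈ (Q : Subgroup G) :=
              (Subgroup.mem_normalizer_iff.mp (hPN hu) q).mp hq
            exact mul_mem h1 (inv_mem hq)
        rw [hbot, Subgroup.mem_bot] at hc
        calc u * q = u * q * u⁻¹ * q⁻¹ * q * u := by group
          _ = q * u := by rw [hc]; group
      have hdvd2 := Subgroup.card_dvd_of_le hle2
      rw [h5, hC11] at hdvd2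
      norm_num at hdvd2
    have hcop : Nat.Coprime (Nat.card K) 11 :=
      ((Nat.Prime.coprime_iff_not_dvd (by norm_num)).mpr h11K).symm
    have hd5 : Nat.card K ∣ 5 := hcop.dvd_of_dvd_mul_right (by simpa using hd55)
    rw [← hcard]
    exact Nat.le_of_dvd (by norm_num) hd5
  have hos : Nat.card (MulAction.orbit ↥N P) * Nat.card (MulAction.stabilizer ↥N P) =
      Nat.card ↥N := by
    have h1 := (MulAction.stabilizer ↥N P).card_mul_index
    rw [MulAction.index_stabilizer] at h1
    rw [← h1, mul_comm]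
    rfl
  calc Nat.card ↥N
      = Nat.card (MulAction.orbit ↥N P) * Nat.card (MulAction.stabilizer ↥N P) := hos.symm
    _ ≤ 14 * 5 := Nat.mul_le_mul horb hstab
    _ = 70 := by norm_num

end Cfsg.Agent.Helper85
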