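import Cfsg.Agent.Helper85.PpiG
import Cfsg.Agent.Helper84.FusionNK
import Cfsg.Agent.Helper84.FusionCentric
import Cfsg.Agent.Helper88.FusionF

set_option autoImplicit false
open Cfsg

namespace Cfsg.Agent.Helper85

open Cfsg.FusionSystem
open Cfsg.Agent.Helper88

variable {Ω : Type*} [Group Ω] {S : Subgroup Ω}

/-! ### Extensions over the centralizer acting trivially modulo the subgroup -/

/-- `f` on `R` extends to a map of `F` on `C_S(R) ⊔ R` moving the elements of `C_S(R)` by elements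
of `R` -/
def CGood (F : FusionSystem S) (R : Subgroup Ω) (f : Ω → Ω) : Prop :=
  ∃ φ, IsMap F (centralizerIn S R ⊔ R) φ ∧ (∀ x ∈ R, φ x = f x) ∧
    ∀ x ∈ centralizerIn S R, x⁻¹ * φ x ∈ R

theorem CGood.congr {F : FusionSystem S} {R : Subgroup Ω} {f g : Ω → Ω} (h : CGood F R f)
    (hg : ∀ x ∈ R, g x = f x) : CGood F R g := by
  obtain ⟨φ, hφ, h1, h2⟩ := h
  exact ⟨φ, hφ, fun x hx => (h1 x hx).trans (hg x hx).symm, h2⟩

theorem cs_decomp {R : Subgroup Ω} {y : Ω} (hy : y ∈ centralizerIn S R ⊔ R) :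
    ∃ x ∈ centralizerIn S R, ∃ r ∈ R, y = x * r :=
  exists_mul_of_mem_sup (R := centralizerIn S R) (T := R)
    (fun x hx r hr => by rw [conj_eq_of_mem_centralizerIn hx hr]; exact hr) hy

/-- a map of the system on `C_S(R) ⊔ R` carrying `R` onto `R` maps `C_S(R)` into itself -/
theorem cs_cent_mem {F : FusionSystem S} {R : Subgroup Ω} {φ : Ω → Ω}
    (hφ : IsMap F (centralizerIn S R ⊔ R) φ) (hsurj : ∀ y ∈ R, ∃ r ∈ R, φ r = y) {x : Ω}
    (hx : x ∈ centralizerIn S R) : φ x ∈ centralizerIn S R := by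
  refine mem_centralizerIn_iff.2 ⟨hφ.mem (Subgroup.mem_sup_left hx), fun y hy => ?_⟩
  obtain ⟨r, hr, rfl⟩ := hsurj y hy
  rw [← hφ.map_mul (Subgroup.mem_sup_right hr) (Subgroup.mem_sup_left hx),
    ← hφ.map_mul (Subgroup.mem_sup_left hx) (Subgroup.mem_sup_right hr),
    (mem_centralizerIn_iff.1 hx).2 r hr]

theorem cs_surj_of_aut {R : Subgroup Ω} {a : MulAut R} {φ : Ω → Ω}
    (hR : ∀ x ∈ R, φ x = autFun a x) : ∀ y ∈ R, ∃ r ∈ R, φ r = y := fun y hy =>
  ⟨autFun a⁻¹ y, autFun_mem _ hy, by rw [hR _ (autFun_mem _ hy), autFun_apply_inv a hy]⟩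

theorem cs_cent_mem_aut {F : FusionSystem S} {R : Subgroup Ω} {a : MulAut R} {φ : Ω → Ω}
    (hφ : IsMap F (centralizerIn S R ⊔ R) φ) (hR : ∀ x ∈ R, φ x = autFun a x) {x : Ω}
    (hx : x ∈ centralizerIn S R) : φ x ∈ centralizerIn S R :=
  cs_cent_mem hφ (cs_surj_of_aut hR) hx

theorem cs_mapsTo {F : FusionSystem S} {R : Subgroup Ω} {a : MulAut R} {φ : Ω → Ω}
    (hφ : IsMap F (centralizerIn S R ⊔ R) φ) (hR : ∀ x ∈ R, φ x = autFun a x) :
    ∀ y ∈ centralizerIn S R ⊔ R, φ y ∈ centralizerIn S R ⊔ R :=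
  hφ.mapsTo_sup (fun _ hx => Subgroup.mem_sup_left (cs_cent_mem_aut hφ hR hx))
    (fun r hr => Subgroup.mem_sup_right (by rw [hR r hr]; exact autFun_mem a hr))

theorem cgood_one (F : FusionSystem S) {R : Subgroup Ω} (hRS : R ≤ S) :
    CGood F R (autFun (1 : MulAut R)) :=
  ⟨id, isMap_id F (sup_le inf_le_left hRS), fun _ hx => (autFun_one hx).symm,
    fun x _ => by simp⟩

theorem CGood.aut_mul {F : FusionSystem S} {R : Subgroup Ω} {a b : MulAut R}
    (ha : CGood F R (autFun a)) (hb : CGood F R (autFun b)) : CGood F R (autFun (a * b)) := by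
  obtain ⟨φ, hφ, hφR, hφC⟩ := ha
  obtain ⟨ψ, hψ, hψR, hψC⟩ := hb
  refine ⟨φ ∘ ψ, hψ.comp hφ (cs_mapsTo hψ hψR), fun x hx => ?_, fun x hx => ?_⟩
  · show φ (ψ x) = autFun (a * b) x
    rw [hψR x hx, hφR _ (autFun_mem b hx), autFun_mul a b hx]
  · show x⁻¹ * φ (ψ x) ∈ R
    have hw := hψC x hx
    have h1 : φ (ψ x) = φ (x * (x⁻¹ * ψ x)) := by congr 1; group
    rw [h1, hφ.map_mul (Subgroup.mem_sup_left hx) (Subgroup.mem_sup_right hw), hφR _ hw, ← mul_assoc]
    exact R.mul_mem (hφC x hx) (autFun_mem a hw)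

theorem CGood.aut_pow {F : FusionSystem S} {R : Subgroup Ω} (hRS : R ≤ S) {a : MulAut R}
    (h : CGood F R (autFun a)) (k : ℕ) : CGood F R (autFun (a ^ k)) := by
  induction k with
  | zero => rw [pow_zero]; exact cgood_one F hRS
  | succ k ih => rw [pow_succ]; exact CGood.aut_mul ih h

theorem CGood.aut_inv [Finite S] {F : FusionSystem S} {R : Subgroup Ω} (hRS : R ≤ S) {a : MulAut R}
    (h : CGood F R (autFun a)) : CGood F R (autFun a⁻¹) := by
  have hfin : Finite R := Helper88.finite_of_le hRS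
  have h1 := CGood.aut_pow hRS h (orderOf a - 1)
  have hpos : 0 < orderOf a := orderOf_pos a
  have h2 : a ^ (orderOf a - 1) = a⁻¹ := by
    apply eq_inv_of_mul_eq_one_left
    rw [← pow_succ, Nat.sub_add_cancel hpos, pow_orderOf_eq_one]
  rwa [h2] at h1

/-- the automorphisms in `Aut_E(R)` with a good extension over the centralizer -/
def cgSub [Finite S] (F : FusionSystem S) {T : Subgroup Ω} (E : FusionSystem T) (R : Subgroup Ω)
    (hRS : R ≤ S) : Subgroup (E.autGroup R) where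
  carrier := {a | CGood F R (autFun (a : MulAut R))}
  one_mem' := cgood_one F hRS
  mul_mem' := fun ha hb => CGood.aut_mul ha hb
  inv_mem' := fun ha => CGood.aut_inv hRS ha

theorem mem_cgSub [Finite S] {F : FusionSystem S} {T : Subgroup Ω} {E : FusionSystem T}
    {R : Subgroup Ω} (hRS : R ≤ S) {a : E.autGroup R} :
    a ∈ cgSub F E R hRS ↔ CGood F R (autFun (a : MulAut R)) := Iff.rfl

/-! ### `C_S(R) R` is centric for receptive `R` -/

theorem isCentric_cent_sup [Finite S] {F : FusionSystem S} {R : Subgroup Ω} (hrec : F.IsReceptive R) :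
    F.IsCentric (centralizerIn S R ⊔ R) := by
  have hRS := hrec.1
  have hQS : centralizerIn S R ⊔ R ≤ S := sup_le inf_le_left hRS
  refine ⟨hQS, fun Q' hQ' => ?_⟩
  obtain ⟨f, hf, rfl⟩ := (Helper88.isConj_iff F).1 hQ'
  have hfR : IsMap F R f := hf.restrict le_sup_right
  obtain ⟨g, hg, hg1, -, hgimg⟩ := hfR.exists_inv
  obtain ⟨g', hg', hg'R⟩ := receptive_extend_centralizer hrec hg hgimg
  have hR'Q' : img R f ≤ img (centralizerIn S R ⊔ R) f := hf.img_restrict_le le_sup_right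
  -- `g'` maps `C_S(f(R))` into `C_S(R)`
  have hg'C : ∀ c ∈ centralizerIn S (img R f), g' c ∈ centralizerIn S R := by
    intro c hc
    refine mem_centralizerIn_iff.2 ⟨hg'.mem (Subgroup.mem_sup_left hc), fun y hy => ?_⟩
    have hfy : f y ∈ img R f := hfR.apply_mem_img hy
    have e : y = g' (f y) := by rw [hg'R _ hfy, hg1 y hy]
    rw [e, ← hg'.map_mul (Subgroup.mem_sup_right hfy) (Subgroup.mem_sup_left hc),
      ← hg'.map_mul (Subgroup.mem_sup_left hc) (Subgroup.mem_sup_right hfy),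
      (mem_centralizerIn_iff.1 hc).2 _ hfy]
  have hfC : ∀ x ∈ centralizerIn S R, f x ∈ centralizerIn S (img R f) := fun x hx =>
    img_centralizerIn_le hf le_sup_right le_sup_left ((hf.restrict le_sup_left).apply_mem_img hx)
  have hfdom : ∀ x ∈ centralizerIn S R ⊔ R, f x ∈ centralizerIn S (img R f) ⊔ img R f :=
    hf.mapsTo_sup (fun x hx => Subgroup.mem_sup_left (hfC x hx))
      (fun x hx => Subgroup.mem_sup_right (hfR.apply_mem_img hx))
  have hcomp : IsMap F (centralizerIn S R ⊔ R) (g' ∘ f) := hf.comp hg' hfdom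
  have hmaps : ∀ x ∈ centralizerIn S R ⊔ R, (g' ∘ f) x ∈ centralizerIn S R ⊔ R :=
    hcomp.mapsTo_sup (fun x hx => Subgroup.mem_sup_left (hg'C _ (hfC x hx)))
      (fun x hx => Subgroup.mem_sup_right (by
        show g' (f x) ∈ R
        rw [hg'R _ (hfR.apply_mem_img hx), hg1 x hx]; exact hx))
  have himg := hcomp.img_eq_of_mapsTo hmaps
  intro c hc
  have hc' : c ∈ centralizerIn S (img R f) :=
    mem_centralizerIn_iff.2 ⟨(mem_centralizerIn_iff.1 hc).1, fun y hy =>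
      (mem_centralizerIn_iff.1 hc).2 y (hR'Q' hy)⟩
  have h1 : g' c ∈ img (centralizerIn S R ⊔ R) (g' ∘ f) := by
    rw [himg]; exact Subgroup.mem_sup_left (hg'C c hc')
  obtain ⟨x₀, hx₀, hx₀e⟩ := hcomp.mem_img.1 h1
  have h2 := hg'.inj (hfdom x₀ hx₀) (Subgroup.mem_sup_left hc') hx₀e
  rw [← h2]
  exact hf.apply_mem_img hx₀

/-! ### Arithmetic of powers -/

theorem exists_pprime_pow {G : Type*} [Group G] [Finite G] (p : ℕ) [Fact p.Prime] (α : G) {m : ℕ}
    (hm : m.Coprime p) :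
    ∃ N b : ℕ, b.Coprime p ∧ (α ^ N) ^ b = 1 ∧ N % m = 1 % m := by
  have hp : p.Prime := Fact.out
  have ho : orderOf α ≠ 0 := (orderOf_pos α).ne'
  obtain ⟨a, b, hb, hab⟩ := Nat.exists_eq_pow_mul_and_not_dvd ho p hp.ne_one
  have hbp : b.Coprime p := ((Nat.Prime.coprime_iff_not_dvd hp).2 hb).symm
  have hco : (p ^ a).Coprime m := Nat.Coprime.pow_left a hm.symm
  obtain ⟨N, hN1, hN2⟩ := Nat.chineseRemainder hco 0 1
  refine ⟨N, b, hbp, ?_, hN2⟩
  rw [← pow_mul]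
  apply orderOf_dvd_iff_pow_eq_one.1
  rw [hab]
  exact Nat.mul_dvd_mul_right ((Nat.modEq_zero_iff_dvd).1 hN1) b

theorem pow_eq_self_of_mod {G : Type*} [Group G] {β : G} {m N : ℕ} (hβ : β ^ m = 1)
    (hN : N % m = 1 % m) : β ^ N = β := by
  rw [pow_eq_pow_mod N hβ, hN, ← pow_eq_pow_mod 1 hβ, pow_one]

theorem eq_one_of_pow_eq_one_of_coprime {G : Type*} [Group G] {w : G} {b q : ℕ} (hb : w ^ b = 1)
    (hq : w ^ q = 1) (hcop : Nat.Coprime b q) : w = 1 := by
  have h1 : orderOf w ∣ b := orderOf_dvd_of_pow_eq_one hb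
  have h2 : orderOf w ∣ q := orderOf_dvd_of_pow_eq_one hq
  have h3 : Nat.Coprime (orderOf w) q := Nat.Coprime.coprime_dvd_left h1 hcop
  exact orderOf_eq_one_iff.1 (Nat.Coprime.eq_one_of_dvd h3 h2)

theorem mem_of_pow_mem_of_coprime {G : Type*} [Group G] (T : Subgroup G) {e : G} {b q : ℕ}
    (hb : e ^ b ∈ T) (hq : e ^ q = 1) (hcop : Nat.Coprime b q) : e ∈ T := by
  have h1 : e = (e ^ b) ^ (Nat.gcdA b q) * (e ^ q) ^ (Nat.gcdB b q) := by
    rw [← zpow_natCast e b, ← zpow_natCast e q, ← zpow_mul, ← zpow_mul, ← zpow_add,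
      ← Nat.gcd_eq_gcd_ab, hcop.gcd_eq_one]
    simp
  rw [h1, hq, one_zpow, mul_one]
  exact T.zpow_mem hb _

end Cfsg.Agent.Helper85
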