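import Cfsg.Agent.Helper85.CsA

set_option autoImplicit false
open Cfsg

namespace Cfsg.Agent.Helper85

open Cfsg.FusionSystem
open Cfsg.Agent.Helper88

variable {Ω : Type*} [Group Ω] {S : Subgroup Ω}

/-! ### Chain stabilizers in centralizer systems -/

theorem isCMap_fix {F : FusionSystem S} {Z P : Subgroup Ω} {f : Ω → Ω} (h : IsCMap F Z P f) {w : Ω}
    (hwP : w ∈ P) (hwZ : w ∈ Z) : f w = w := by
  obtain ⟨-, -, -, f', -, hf'P, hf'Z⟩ := h
  rw [← hf'P w hwP, hf'Z w hwZ]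

theorem isMap_centSys_iff (F : FusionSystem S) {Z : Subgroup Ω} (hZ : Z ≤ S) {P : Subgroup Ω}
    {f : Ω → Ω} : IsMap (centralizerSystem F Z hZ) P f ↔ IsCMap F Z P f := by
  constructor
  · rintro ⟨φ, hφ, hφf⟩
    exact ((mem_centralizerHom_iff F Z φ).1 hφ).congr
      (fun x hx => by rw [extHom_apply' φ hx]; exact (hφf ⟨x, hx⟩).symm)
  · intro h
    obtain ⟨φ, hφ, hφf⟩ := h.1
    exact ⟨φ, (mem_centralizerHom_iff F Z φ).2
      (h.congr (fun x hx => by rw [extHom_apply' φ hx]; exact hφf ⟨x, hx⟩)), hφf⟩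

theorem centSys_saturated [Finite S] {p : ℕ} [Fact p.Prime] (hS : IsPGroup p S) {F : FusionSystem S}
    (hF : F.IsSaturated p) {Z : Subgroup Ω} (hZ : F.IsReceptive Z) :
    (centralizerSystem F Z hZ.1).IsSaturated p :=
  Helper84.centralizerSystem_saturated p hS F hF Z (fullyCentralized_of_receptive hZ) _
    (isCentralizerSystem_centralizerSystem F Z hZ.1)

/-- a map of the centralizer system `C_F(Z)` carrying `P` to itself and moving its elements by
elements of `Z` is conjugation by an element of `C_S(Z)`, for `P` fully automized in `C_F(Z)` -/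
theorem cs_inner [Finite S] {p : ℕ} [Fact p.Prime] (hS : IsPGroup p S) {F : FusionSystem S}
    {Z : Subgroup Ω} (hZ : Z ≤ S) {P : Subgroup Ω}
    (hPa : (centralizerSystem F Z hZ).IsFullyAutomized p P) {b : Ω → Ω} (hb : IsCMap F Z P b)
    (hbP : ∀ y ∈ P, b y ∈ P) (hbZ : ∀ y ∈ P, y⁻¹ * b y ∈ Z) :
    ∃ k ∈ centralizerIn S Z, ∀ y ∈ P, b y = k * y * k⁻¹ := by
  have hfinC : Finite (centralizerIn S Z) := finite_of_le inf_le_left
  have hP : P ≤ centralizerIn S Z := hPa.1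
  have hPS : P ≤ S := hP.trans inf_le_left
  have hbC : IsMap (centralizerSystem F Z hZ) P b := (isMap_centSys_iff F hZ).2 hb
  obtain ⟨β, hβ, hβb⟩ := hbC.exists_aut (hbC.img_eq_of_mapsTo hbP)
  have hcm : ∀ β' ∈ (centralizerSystem F Z hZ).autGroup P, IsCMap F Z P (autFun β') := fun β' hβ' =>
    (isMap_centSys_iff F hZ).1 ((Helper88.mem_autGroup_iff _ hP β').1 hβ')
  obtain ⟨k₀, hk₀⟩ := pow_card_eq_one_of_mem hS
  let B : Subgroup ((centralizerSystem F Z hZ).autGroup P) :=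
    { carrier := {β' | ∀ y ∈ P, y⁻¹ * autFun (β' : MulAut P) y ∈ Z}
      one_mem' := by
        intro y hy
        show y⁻¹ * autFun (1 : MulAut P) y ∈ Z
        rw [autFun_one hy, inv_mul_cancel]; exact Z.one_mem
      mul_mem' := by
        intro β' β'' h' h'' y hy
        show y⁻¹ * autFun ((β' : MulAut P) * (β'' : MulAut P)) y ∈ Z
        have hw := h'' y hy
        have hwP : y⁻¹ * autFun (β'' : MulAut P) y ∈ P := P.mul_mem (P.inv_mem hy) (autFun_mem _ hy)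
        have e : autFun (β'' : MulAut P) y = y * (y⁻¹ * autFun (β'' : MulAut P) y) := by group
        rw [autFun_mul _ _ hy, e, autFun_map_mul _ hy hwP, isCMap_fix (hcm _ β'.2) hwP hw, ← mul_assoc]
        exact Z.mul_mem (h' y hy) hw
      inv_mem' := by
        intro β' h' y hy
        show y⁻¹ * autFun (β' : MulAut P)⁻¹ y ∈ Z
        have hy' : autFun (β' : MulAut P)⁻¹ y ∈ P := autFun_mem _ hy
        have h1 := h' _ hy'
        rw [autFun_apply_inv _ hy] at h1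
        have e : y⁻¹ * autFun (β' : MulAut P)⁻¹ y = ((autFun (β' : MulAut P)⁻¹ y)⁻¹ * y)⁻¹ := by group
        rw [e]; exact Z.inv_mem h1 }
  have hBn : B.Normal := by
    refine ⟨fun β' h' δ y hy => ?_⟩
    show y⁻¹ * autFun ((δ : MulAut P) * (β' : MulAut P) * (δ : MulAut P)⁻¹) y ∈ Z
    have hy' : autFun (δ : MulAut P)⁻¹ y ∈ P := autFun_mem _ hy
    have hw := h' _ hy'
    have hwP : (autFun (δ : MulAut P)⁻¹ y)⁻¹ * autFun (β' : MulAut P) (autFun (δ : MulAut P)⁻¹ y) ∈ P :=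
      P.mul_mem (P.inv_mem hy') (autFun_mem _ hy')
    have e : autFun (β' : MulAut P) (autFun (δ : MulAut P)⁻¹ y) = autFun (δ : MulAut P)⁻¹ y *
        ((autFun (δ : MulAut P)⁻¹ y)⁻¹ * autFun (β' : MulAut P) (autFun (δ : MulAut P)⁻¹ y)) := by
      group
    rw [autFun_mul _ _ hy, autFun_mul _ _ hy', e, autFun_map_mul _ hy' hwP, autFun_apply_inv _ hy,
      isCMap_fix (hcm _ δ.2) hwP hw, inv_mul_cancel_left]
    exact hw
  have hBp : IsPGroup p B := by
    rintro ⟨β', h'⟩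
    refine ⟨k₀, Subtype.ext (Subtype.ext ?_)⟩
    show (β' : MulAut P) ^ p ^ k₀ = 1
    refine aut_pow_eq_one_of (β' : MulAut P) (inf_le_left : P ⊓ Z ≤ P)
      (fun y hy => isCMap_fix (hcm _ β'.2) hy.1 hy.2)
      (fun w hw => ⟨P.mul_mem (P.inv_mem hw) (autFun_mem _ hw), h' w hw⟩) (p ^ k₀)
      (fun y hy => hk₀ y (hPS hy.1))
  have hle := normal_pSubgroup_le_autInducedBy hPa B hBn hBp
  have hβB : β ∈ B.map ((centralizerSystem F Z hZ).autGroup P).subtype := by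
    refine ⟨⟨β, hβ⟩, ?_, rfl⟩
    intro y hy
    show y⁻¹ * autFun β y ∈ Z
    rw [hβb y hy]; exact hbZ y hy
  obtain ⟨k, hk, hkβ⟩ := (Helper88.mem_autInducedBy_iff _ P β).1 (hle hβB)
  refine ⟨k, hk, fun y hy => ?_⟩
  rw [← hβb y hy, autFun_apply' β hy]
  exact hkβ ⟨y, hy⟩

/-- the top group of a saturated system is fully automized -/
theorem top_fullyAutomized [Finite S] {p : ℕ} {F : FusionSystem S} (hF : F.IsSaturated p) :
    F.IsFullyAutomized p S := by
  obtain ⟨Q, hconj, hQa, -⟩ := hF S le_rfl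
  obtain ⟨f, hf, rfl⟩ := (Helper88.isConj_iff F).1 hconj
  have h1 : img S f = S := Subgroup.eq_of_le_of_card_ge hf.img_le (le_of_eq hf.card_img.symm)
  rwa [h1] at hQa

/-- a map of `C_F(Z)` carrying `P` to itself and moving its elements by elements of `Z` moves them
by commutators of elements of `C_S(Z)` -/
theorem cs_comm [Finite S] {p : ℕ} [Fact p.Prime] (hS : IsPGroup p S) {F : FusionSystem S}
    (hF : F.IsSaturated p) {Z : Subgroup Ω} (hZ : F.IsReceptive Z) {P : Subgroup Ω} {b : Ω → Ω}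
    (hb : IsCMap F Z P b) (hbP : ∀ y ∈ P, b y ∈ P) (hbZ : ∀ y ∈ P, y⁻¹ * b y ∈ Z) :
    ∀ y ∈ P, ∃ u ∈ centralizerIn S Z, ∃ k ∈ centralizerIn S Z, y⁻¹ * b y = u * k * u⁻¹ * k⁻¹ := by
  have hfinC : Finite (centralizerIn S Z) := finite_of_le inf_le_left
  have hsat := centSys_saturated hS hF hZ
  obtain ⟨P₂, hconj, hPa, -⟩ := hsat P hb.2.1
  obtain ⟨l, hl, rfl⟩ := (Helper88.isConj_iff _).1 hconj
  have hlC : IsCMap F Z P l := (isMap_centSys_iff F hZ.1).1 hl
  obtain ⟨g, hg, hgl⟩ := hlC.exists_inv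
  have hgP : ∀ y ∈ img P l, g y ∈ P := by
    intro y hy
    obtain ⟨x, hx, rfl⟩ := hlC.1.mem_img.1 hy
    rw [hgl x hx]; exact hx
  have hb₂ : IsCMap F Z (img P l) (l ∘ (b ∘ g)) :=
    hg.comp (hb.comp hlC hbP) (fun y hy => hgP y hy)
  have hwP : ∀ x ∈ P, x⁻¹ * b x ∈ P := fun x hx => P.mul_mem (P.inv_mem hx) (hbP x hx)
  have key : ∀ x ∈ P, l (b x) = l x * (x⁻¹ * b x) := by
    intro x hx
    have e : b x = x * (x⁻¹ * b x) := by group
    have h1 : l (b x) = l (x * (x⁻¹ * b x)) := by rw [← e]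
    rw [h1, hlC.1.map_mul hx (hwP x hx), isCMap_fix hlC (hwP x hx) (hbZ x hx)]
  have hb₂v : ∀ x ∈ P, (l ∘ (b ∘ g)) (l x) = l (b x) := fun x hx => by
    show l (b (g (l x))) = l (b x)
    rw [hgl x hx]
  obtain ⟨k, hk, hkb⟩ := cs_inner hS hZ.1 hPa hb₂
    (fun y hy => by
      obtain ⟨x, hx, rfl⟩ := hlC.1.mem_img.1 hy
      rw [hb₂v x hx]; exact hlC.1.apply_mem_img (hbP x hx))
    (fun y hy => by
      obtain ⟨x, hx, rfl⟩ := hlC.1.mem_img.1 hy
      rw [hb₂v x hx, key x hx, inv_mul_cancel_left]; exact hbZ x hx)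
  intro y hy
  have h1 := hkb (l y) (hlC.1.apply_mem_img hy)
  rw [hb₂v y hy, key y hy] at h1
  refine ⟨(l y)⁻¹, Subgroup.inv_mem _ (hlC.2.2.1 y hy), k, hk, ?_⟩
  have h2 : y⁻¹ * b y = (l y)⁻¹ * (l y * (y⁻¹ * b y)) := by group
  rw [h2, h1]; group

end Cfsg.Agent.Helper85
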