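import Cfsg.Agent.Helper85.CsB

set_option autoImplicit false
set_option maxHeartbeats 1000000
open Cfsg

namespace Cfsg.Agent.Helper85

open Cfsg.FusionSystem
open Cfsg.Agent.Helper88

variable {Ω : Type*} [Group Ω] {S : Subgroup Ω}

theorem comm_central_aux {G : Type*} [Group G] {u k a c : G} (h1 : Commute a u) (h2 : Commute a k)
    (h3 : Commute c u) (h4 : Commute c k) (h5 : Commute a c) :
    (u * a) * (k * c) * (u * a)⁻¹ * (k * c)⁻¹ = u * k * u⁻¹ * k⁻¹ := by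
  have e1 : (u * a) * (k * c) = u * k * (a * c) := by
    calc (u * a) * (k * c) = u * (a * k) * c := by group
      _ = u * (k * a) * c := by rw [h2.eq]
      _ = u * k * (a * c) := by group
  have e2 : (u * a)⁻¹ = a⁻¹ * u⁻¹ := mul_inv_rev u a
  have e3 : (k * c)⁻¹ = c⁻¹ * k⁻¹ := mul_inv_rev k c
  have e4 : c * u⁻¹ = u⁻¹ * c := (h3.inv_right).eq
  rw [e1, e2, e3]
  calc u * k * (a * c) * (a⁻¹ * u⁻¹) * (c⁻¹ * k⁻¹)
      = u * k * (c * a) * (a⁻¹ * u⁻¹) * (c⁻¹ * k⁻¹) := by rw [h5.eq]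
    _ = u * k * (c * u⁻¹) * (c⁻¹ * k⁻¹) := by group
    _ = u * k * (u⁻¹ * c) * (c⁻¹ * k⁻¹) := by rw [e4]
    _ = u * k * u⁻¹ * k⁻¹ := by group

theorem comm_aux2 {G : Type*} [Group G] {g w₁ w₂ : G} (h1 : Commute w₁ g) (h2 : Commute w₂ w₁) :
    w₁⁻¹ * g * w₂ = g * (w₂ * w₁⁻¹) := by
  have e1 : w₁⁻¹ * g = g * w₁⁻¹ := (h1.inv_left).eq
  have e2 : w₂ * w₁⁻¹ = w₁⁻¹ * w₂ := (h2.inv_right).eq
  rw [e1, e2, mul_assoc]

/-- powers of an automorphism of `C_S(R) R` restricting to `a` on `R` and moving `C_S(R)` by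
elements of `R` -/
theorem cs_pow_facts {R : Subgroup Ω} {a : MulAut R} {αQ : MulAut ↥(centralizerIn S R ⊔ R)}
    (hαR : ∀ r ∈ R, autFun αQ r = autFun a r)
    (hαC : ∀ x ∈ centralizerIn S R, x⁻¹ * autFun αQ x ∈ R) (j : ℕ) :
    (∀ r ∈ R, autFun (αQ ^ j) r = autFun (a ^ j) r) ∧
      ∀ x ∈ centralizerIn S R, x⁻¹ * autFun (αQ ^ j) x ∈ R := by
  induction j with
  | zero =>
    refine ⟨fun r hr => ?_, fun x hx => ?_⟩
    · rw [pow_zero, pow_zero, autFun_one hr, autFun_one (Subgroup.mem_sup_right hr)]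
    · rw [pow_zero, autFun_one (Subgroup.mem_sup_left hx), inv_mul_cancel]; exact R.one_mem
  | succ j ih =>
    obtain ⟨ih1, ih2⟩ := ih
    refine ⟨fun r hr => ?_, fun x hx => ?_⟩
    · rw [pow_succ, pow_succ, autFun_mul _ _ (Subgroup.mem_sup_right hr), hαR r hr,
        ih1 _ (autFun_mem a hr), autFun_mul _ _ hr]
    · have hxQ : x ∈ centralizerIn S R ⊔ R := Subgroup.mem_sup_left hx
      have hw := ih2 x hx
      have e : autFun (αQ ^ j) x = x * (x⁻¹ * autFun (αQ ^ j) x) := by group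
      rw [pow_succ', autFun_mul _ _ hxQ, e, autFun_map_mul _ hxQ (Subgroup.mem_sup_right hw),
        hαR _ hw, ← mul_assoc]
      exact R.mul_mem (hαC x hx) (autFun_mem a hw)


theorem cgood_fix_focal_aux [Finite S] {p : ℕ} [Fact p.Prime] (hS : IsPGroup p S)
    {F : FusionSystem S} (hF : F.IsSaturated p) {R : Subgroup Ω} (hrec : F.IsReceptive R)
    {a : MulAut R} {β : MulAut ↥(centralizerIn S R ⊔ R)}
    (hβ : β ∈ F.autGroup (centralizerIn S R ⊔ R))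
    (hβR : ∀ r ∈ R, autFun β r = autFun a r)
    (hβC : ∀ x ∈ centralizerIn S R, x⁻¹ * autFun β x ∈ R) {b : ℕ} (hbp : b.Coprime p)
    (hβb : β ^ b = 1) {P : Subgroup Ω} {f : Ω → Ω} (hf : IsCMap F R P f) {y : Ω} (hy : y ∈ P) :
    autFun β (y⁻¹ * f y) = y⁻¹ * f y := by
  have hp : p.Prime := Fact.out
  have hRS : R ≤ S := hrec.1
  have hCS : centralizerIn S R ≤ S := inf_le_left
  have hQS : centralizerIn S R ⊔ R ≤ S := sup_le hCS hRS
  have hβmap : IsMap F (centralizerIn S R ⊔ R) (autFun β) := IsMap.of_mem_autGroup hQS hβ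
  have hCQ : ∀ {x : Ω}, x ∈ centralizerIn S R → x ∈ centralizerIn S R ⊔ R := fun hx =>
    Subgroup.mem_sup_left hx
  have hRQ : ∀ {x : Ω}, x ∈ R → x ∈ centralizerIn S R ⊔ R := fun hx => Subgroup.mem_sup_right hx
  have hcomm : ∀ {r c : Ω}, r ∈ R → c ∈ centralizerIn S R → Commute r c := fun hr hc =>
    (mem_centralizerIn_iff.1 hc).2 _ hr
  have hβCC : ∀ {x : Ω}, x ∈ centralizerIn S R → autFun β x ∈ centralizerIn S R := fun hx =>
    cs_cent_mem_aut hβmap hβR hx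
  have hwC : ∀ {x : Ω}, x ∈ centralizerIn S R → x⁻¹ * autFun β x ∈ centralizerIn S R := fun hx =>
    Subgroup.mul_mem _ (Subgroup.inv_mem _ hx) (hβCC hx)
  have hβx : ∀ x : Ω, autFun β x = x * (x⁻¹ * autFun β x) := fun x => by group
  -- `β` fixes commutators of elements of `C_S(R)`
  have hcommfix : ∀ u ∈ centralizerIn S R, ∀ k ∈ centralizerIn S R,
      autFun β (u * k * u⁻¹ * k⁻¹) = u * k * u⁻¹ * k⁻¹ := by
    intro u hu k hk
    have hu' := hCQ hu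
    have hk' := hCQ hk
    rw [hβmap.map_mul ((Subgroup.mul_mem _ (Subgroup.mul_mem _ hu' hk') (Subgroup.inv_mem _ hu')))
      (Subgroup.inv_mem _ hk'), hβmap.map_mul (Subgroup.mul_mem _ hu' hk') (Subgroup.inv_mem _ hu'),
      hβmap.map_mul hu' hk', hβmap.map_inv hu', hβmap.map_inv hk', hβx u, hβx k]
    exact comm_central_aux (hcomm (hβC u hu) hu) (hcomm (hβC u hu) hk) (hcomm (hβC k hk) hu)
      (hcomm (hβC k hk) hk) (hcomm (hβC u hu) (hwC hk))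
  have hPC : P ≤ centralizerIn S R := hf.2.1
  have hyC : y ∈ centralizerIn S R := hPC hy
  have hfyC : f y ∈ centralizerIn S R := hf.2.2.1 y hy
  obtain ⟨f', hf', hf'P, hf'R⟩ := hf.2.2.2
  -- the inverse of `β` as a power
  have hbpos : 0 < b := by
    rcases Nat.eq_zero_or_pos b with h0 | h0
    · rw [h0] at hbp
      exact absurd ((Nat.coprime_zero_left p).1 hbp) hp.ne_one
    · exact h0
  obtain ⟨hβiR, hβiC⟩ := cs_pow_facts hβR hβC (b - 1)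
  have hββi : β * β ^ (b - 1) = 1 := by rw [← pow_succ', Nat.sub_add_cancel hbpos, hβb]
  have hβi : β ^ (b - 1) ∈ F.autGroup (centralizerIn S R ⊔ R) := Subgroup.pow_mem _ hβ _
  have hβimap : IsMap F (centralizerIn S R ⊔ R) (autFun (β ^ (b - 1))) :=
    IsMap.of_mem_autGroup hQS hβi
  have hββi' : ∀ x ∈ centralizerIn S R ⊔ R, autFun β (autFun (β ^ (b - 1)) x) = x := fun x hx => by
    rw [← autFun_mul _ _ hx, hββi, autFun_one hx]
  have hDQ : P ⊔ R ≤ centralizerIn S R ⊔ R := sup_le_sup_right hPC R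
  have hβiD : ∀ x ∈ P ⊔ R, autFun (β ^ (b - 1)) x ∈ P ⊔ R :=
    (hβimap.restrict hDQ).mapsTo_sup
      (fun x hx => by
        have e : autFun (β ^ (b - 1)) x = x * (x⁻¹ * autFun (β ^ (b - 1)) x) := by group
        rw [e]
        exact Subgroup.mul_mem _ (Subgroup.mem_sup_left hx)
          (Subgroup.mem_sup_right (hβiC x (hPC hx))))
      (fun r hr => by rw [hβiR r hr]; exact Subgroup.mem_sup_right (autFun_mem _ hr))
  have h1 : IsMap F (P ⊔ R) (f' ∘ autFun (β ^ (b - 1))) := (hβimap.restrict hDQ).comp hf' hβiD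
  have hD' : img (P ⊔ R) f' = img P f ⊔ R := by
    rw [hf'.img_sup, img_congr hf'P, img_id_of_fix hf'R]
  have hfimgC : img P f ≤ centralizerIn S R := by
    intro z hz
    obtain ⟨x, hx, rfl⟩ := hf.1.mem_img.1 hz
    exact hf.2.2.1 x hx
  have hD'Q : img (P ⊔ R) f' ≤ centralizerIn S R ⊔ R := by
    rw [hD']; exact sup_le_sup_right hfimgC R
  have hβD' : ∀ z ∈ img (P ⊔ R) f', autFun β z ∈ img (P ⊔ R) f' := by
    have h := hβmap.restrict hD'Q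
    rw [hD'] at h ⊢
    exact h.mapsTo_sup
      (fun z hz => by
        rw [hβx z]
        exact Subgroup.mul_mem _ (Subgroup.mem_sup_left hz)
          (Subgroup.mem_sup_right (hβC z (hfimgC hz))))
      (fun r hr => by rw [hβR r hr]; exact Subgroup.mem_sup_right (autFun_mem _ hr))
  have h2 : IsMap F (P ⊔ R) (autFun β ∘ (f' ∘ autFun (β ^ (b - 1)))) :=
    h1.comp (hβmap.restrict hD'Q) (fun x hx => hf'.apply_mem_img (hβiD x hx))
  obtain ⟨f'i, hf'i, hf'i1, hf'i2, -⟩ := hf'.exists_inv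
  have hψ : IsMap F (P ⊔ R) (f'i ∘ (autFun β ∘ (f' ∘ autFun (β ^ (b - 1))))) :=
    h2.comp hf'i (fun x hx => hβD' _ (hf'.apply_mem_img (hβiD x hx)))
  have hψR : ∀ r ∈ R, (f'i ∘ (autFun β ∘ (f' ∘ autFun (β ^ (b - 1))))) r = r := by
    intro r hr
    show f'i (autFun β (f' (autFun (β ^ (b - 1)) r))) = r
    have hr' : autFun (β ^ (b - 1)) r ∈ R := by rw [hβiR r hr]; exact autFun_mem _ hr
    rw [hf'R _ hr', hββi' r (hRQ hr)]
    have := hf'i1 r (Subgroup.mem_sup_right hr)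
    rwa [hf'R r hr] at this
  have hψP : ∀ x ∈ P, (f'i ∘ (autFun β ∘ (f' ∘ autFun (β ^ (b - 1))))) x =
      x * (((f x)⁻¹ * autFun β (f x)) * (x⁻¹ * autFun β x)⁻¹) := by
    intro x hx
    show f'i (autFun β (f' (autFun (β ^ (b - 1)) x))) = _
    have hxC := hPC hx
    have hxQ := hCQ hxC
    have hfxC : f x ∈ centralizerIn S R := hf.2.2.1 x hx
    obtain ⟨ρ, hρdef⟩ : ∃ ρ, ρ = x⁻¹ * autFun (β ^ (b - 1)) x := ⟨_, rfl⟩
    have hρ : ρ ∈ R := by rw [hρdef]; exact hβiC x hxC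
    have e1 : autFun (β ^ (b - 1)) x = x * ρ := by rw [hρdef]; group
    obtain ⟨w₁, hw₁def⟩ : ∃ w₁, w₁ = x⁻¹ * autFun β x := ⟨_, rfl⟩
    obtain ⟨w₂, hw₂def⟩ : ∃ w₂, w₂ = (f x)⁻¹ * autFun β (f x) := ⟨_, rfl⟩
    have hw₁ : w₁ ∈ R := by rw [hw₁def]; exact hβC x hxC
    have hw₂ : w₂ ∈ R := by rw [hw₂def]; exact hβC _ hfxC
    have e2 : autFun β ρ = w₁⁻¹ := by
      have h := hββi' x hxQ
      rw [e1, hβmap.map_mul hxQ (hRQ hρ)] at h
      rw [hw₁def, eq_inv_mul_of_mul_eq h]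
      group
    have e4 : autFun β (f x) = f x * w₂ := by rw [hw₂def]; group
    have hwR : w₂ * w₁⁻¹ ∈ R := R.mul_mem hw₂ (R.inv_mem hw₁)
    rw [← hw₁def, ← hw₂def, e1, hf'.map_mul (Subgroup.mem_sup_left hx) (Subgroup.mem_sup_right hρ),
      hf'P x hx, hf'R ρ hρ, hβmap.map_mul (hCQ hfxC) (hRQ hρ), e2, e4]
    have e5 : f x * w₂ * w₁⁻¹ = f' (x * (w₂ * w₁⁻¹)) := by
      rw [hf'.map_mul (Subgroup.mem_sup_left hx) (Subgroup.mem_sup_right hwR), hf'P x hx,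
        hf'R _ hwR, mul_assoc]
    rw [e5]
    exact hf'i1 _ (Subgroup.mul_mem _ (Subgroup.mem_sup_left hx) (Subgroup.mem_sup_right hwR))
  obtain ⟨ψ, hψdef⟩ : ∃ ψ, ψ = f'i ∘ (autFun β ∘ (f' ∘ autFun (β ^ (b - 1)))) := ⟨_, rfl⟩
  rw [← hψdef] at hψ hψR hψP
  have hwRC : ∀ x ∈ P, ((f x)⁻¹ * autFun β (f x)) * (x⁻¹ * autFun β x)⁻¹ ∈
      R ⊓ centralizerIn S R := by
    intro x hx
    have hxC := hPC hx
    have hfxC : f x ∈ centralizerIn S R := hf.2.2.1 x hx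
    exact ⟨R.mul_mem (hβC _ hfxC) (R.inv_mem (hβC x hxC)),
      Subgroup.mul_mem _ (hwC hfxC) (Subgroup.inv_mem _ (hwC hxC))⟩
  have hP₁le : P ⊔ (R ⊓ centralizerIn S R) ≤ P ⊔ R := sup_le_sup_left inf_le_left P
  have hP₁C : P ⊔ (R ⊓ centralizerIn S R) ≤ centralizerIn S R := sup_le hPC inf_le_right
  have hψ₁ : IsMap F (P ⊔ (R ⊓ centralizerIn S R)) ψ := hψ.restrict hP₁le
  have hψP₁ : ∀ q ∈ P ⊔ (R ⊓ centralizerIn S R), ψ q ∈ P ⊔ (R ⊓ centralizerIn S R) :=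
    hψ₁.mapsTo_sup
      (fun x hx => by
        rw [hψP x hx]
        exact Subgroup.mul_mem _ (Subgroup.mem_sup_left hx) (Subgroup.mem_sup_right (hwRC x hx)))
      (fun z hz => by rw [hψR z hz.1]; exact Subgroup.mem_sup_right hz)
  have hψZ : ∀ q ∈ P ⊔ (R ⊓ centralizerIn S R), q⁻¹ * ψ q ∈ R := by
    intro q hq
    obtain ⟨x, hx, z, hz, rfl⟩ := exists_mul_of_mem_sup (R := P) (T := R ⊓ centralizerIn S R)
      (fun x hx r hr => by rw [conj_eq_of_mem_centralizerIn (hPC hx) hr.1]; exact hr) hq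
    rw [hψ₁.map_mul (Subgroup.mem_sup_left hx) (Subgroup.mem_sup_right hz), hψP x hx, hψR z hz.1]
    have e : (x * z)⁻¹ * (x * ((f x)⁻¹ * autFun β (f x) * (x⁻¹ * autFun β x)⁻¹) * z) =
        z⁻¹ * ((f x)⁻¹ * autFun β (f x) * (x⁻¹ * autFun β x)⁻¹) * z := by group
    rw [e]
    exact R.mul_mem (R.mul_mem (R.inv_mem hz.1) (hwRC x hx).1) hz.1
  have hψC : IsCMap F R (P ⊔ (R ⊓ centralizerIn S R)) ψ :=
    ⟨hψ₁, hP₁C, fun x hx => hP₁C (hψP₁ x hx), ψ, hψ.restrict (sup_le hP₁le le_sup_right),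
      fun _ _ => rfl, hψR⟩
  obtain ⟨u, hu, k, hk, huk⟩ := cs_comm hS hF hrec hψC hψP₁ hψZ y (Subgroup.mem_sup_left hy)
  rw [hψP y hy, inv_mul_cancel_left] at huk
  obtain ⟨w₁, hw₁def⟩ : ∃ w₁, w₁ = y⁻¹ * autFun β y := ⟨_, rfl⟩
  obtain ⟨w₂, hw₂def⟩ : ∃ w₂, w₂ = (f y)⁻¹ * autFun β (f y) := ⟨_, rfl⟩
  rw [← hw₁def, ← hw₂def] at huk
  have hw₁R : w₁ ∈ R := by rw [hw₁def]; exact hβC y hyC
  have hw₁C : w₁ ∈ centralizerIn S R := by rw [hw₁def]; exact hwC hyC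
  have hw₂R : w₂ ∈ R := by rw [hw₂def]; exact hβC _ hfyC
  have hgC : y⁻¹ * f y ∈ centralizerIn S R := Subgroup.mul_mem _ (Subgroup.inv_mem _ hyC) hfyC
  have hgQ := hCQ hgC
  have hwQ : w₂ * w₁⁻¹ ∈ centralizerIn S R ⊔ R := hRQ (R.mul_mem hw₂R (R.inv_mem hw₁R))
  have hβw : autFun β (w₂ * w₁⁻¹) = w₂ * w₁⁻¹ := by rw [huk]; exact hcommfix u hu k hk
  have hβg : autFun β (y⁻¹ * f y) = y⁻¹ * f y * (w₂ * w₁⁻¹) := by
    have e1 : autFun β y = y * w₁ := by rw [hw₁def]; group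
    have e2 : autFun β (f y) = f y * w₂ := by rw [hw₂def]; group
    rw [hβmap.map_mul (Subgroup.inv_mem _ (hCQ hyC)) (hCQ hfyC), hβmap.map_inv (hCQ hyC), e1, e2]
    have e3 : (y * w₁)⁻¹ * (f y * w₂) = w₁⁻¹ * (y⁻¹ * f y) * w₂ := by group
    rw [e3]
    exact comm_aux2 (hcomm hw₁R hgC) (hcomm hw₂R hw₁C)
  have hpw : ∀ j : ℕ, autFun (β ^ j) (w₂ * w₁⁻¹) = w₂ * w₁⁻¹ := by
    intro j
    induction j with
    | zero => rw [pow_zero, autFun_one hwQ]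
    | succ j ih => rw [pow_succ, autFun_mul _ _ hwQ, hβw, ih]
  have hpg : ∀ j : ℕ, autFun (β ^ j) (y⁻¹ * f y) = y⁻¹ * f y * (w₂ * w₁⁻¹) ^ j := by
    intro j
    induction j with
    | zero => rw [pow_zero, autFun_one hgQ, pow_zero, mul_one]
    | succ j ih =>
      rw [pow_succ, autFun_mul _ _ hgQ, hβg, autFun_map_mul _ hgQ hwQ, ih, hpw j, pow_succ,
        mul_assoc]
  have hwb : (w₂ * w₁⁻¹) ^ b = 1 := by
    have h := hpg b
    rw [hβb, autFun_one hgQ] at h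
    exact mul_left_cancel (a := y⁻¹ * f y) (by rw [mul_one]; exact h.symm)
  obtain ⟨k₀, hk₀⟩ := pow_card_eq_one_of_mem hS
  have hw1 : w₂ * w₁⁻¹ = 1 :=
    eq_one_of_pow_eq_one_of_coprime hwb (hk₀ _ (hQS hwQ)) (Nat.Coprime.pow_right k₀ hbp)
  rw [hβg, hw1, mul_one]

/-- a `p'`-automorphism of a receptive `R` with a good extension over the centralizer has one
fixing the focal elements of the centralizer system `C_F(R)` -/
theorem cgood_fix_focal [Finite S] {p : ℕ} [Fact p.Prime] (hS : IsPGroup p S) {F : FusionSystem S}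
    (hF : F.IsSaturated p) {R : Subgroup Ω} (hrec : F.IsReceptive R) {a : MulAut R}
    (ha : CGood F R (autFun a)) {m : ℕ} (ham : a ^ m = 1) (hmp : m.Coprime p) :
    ∃ φ, IsMap F (centralizerIn S R ⊔ R) φ ∧ (∀ x ∈ R, φ x = autFun a x) ∧
      (∀ x ∈ centralizerIn S R, x⁻¹ * φ x ∈ R) ∧
      ∀ P f, IsCMap F R P f → ∀ y ∈ P, φ (y⁻¹ * f y) = y⁻¹ * f y := by
  have hRS : R ≤ S := hrec.1
  have hQS : centralizerIn S R ⊔ R ≤ S := sup_le inf_le_left hRS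
  have hfinQ : Finite ↥(centralizerIn S R ⊔ R) := finite_of_le hQS
  obtain ⟨φ₀, hφ₀, hφ₀R, hφ₀C⟩ := ha
  have hmaps := cs_mapsTo hφ₀ hφ₀R
  obtain ⟨αQ, hαQ, hαQφ⟩ := hφ₀.exists_aut (hφ₀.img_eq_of_mapsTo hmaps)
  have hαR : ∀ r ∈ R, autFun αQ r = autFun a r := fun r hr =>
    (hαQφ r (Subgroup.mem_sup_right hr)).trans (hφ₀R r hr)
  have hαC : ∀ x ∈ centralizerIn S R, x⁻¹ * autFun αQ x ∈ R := fun x hx => by
    rw [hαQφ x (Subgroup.mem_sup_left hx)]; exact hφ₀C x hx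
  obtain ⟨N, b, hbp, hNb, hNm⟩ := exists_pprime_pow p αQ hmp
  obtain ⟨hβR, hβC⟩ := cs_pow_facts hαR hαC N
  rw [pow_eq_self_of_mod ham hNm] at hβR
  have hβ : αQ ^ N ∈ F.autGroup (centralizerIn S R ⊔ R) := Subgroup.pow_mem _ hαQ N
  exact ⟨autFun (αQ ^ N), IsMap.of_mem_autGroup hQS hβ, hβR, hβC, fun P f hf y hy =>
    cgood_fix_focal_aux hS hF hrec hβ hβR hβC hbp hNb hf hy⟩

end Cfsg.Agent.Helper85
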