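import Cfsg.Agent.Helper85.CsC

set_option autoImplicit false
set_option maxHeartbeats 1000000
open Cfsg

namespace Cfsg.Agent.Helper85

open Cfsg.FusionSystem
open Cfsg.Agent.Helper88

variable {Ω : Type*} [Group Ω] {S : Subgroup Ω}

theorem isMap_map_pow {F : FusionSystem S} {P : Subgroup Ω} {f : Ω → Ω} (h : IsMap F P f) {x : Ω}
    (hx : x ∈ P) (j : ℕ) : f (x ^ j) = f x ^ j := by
  induction j with
  | zero => rw [pow_zero, pow_zero, h.map_one]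
  | succ j ih => rw [pow_succ, pow_succ, h.map_mul (P.pow_mem hx j) hx, ih]

/-- conjugation by an element of `S` normalizing `W` preserves `C_S(W)` -/
theorem conj_mem_centralizerIn {W : Subgroup Ω} {g : Ω} (hgS : g ∈ S)
    (hgN : g ∈ Subgroup.normalizer (W : Set Ω)) {c : Ω} (hc : c ∈ centralizerIn S W) :
    g * c * g⁻¹ ∈ centralizerIn S W := by
  refine mem_centralizerIn_iff.2
    ⟨S.mul_mem (S.mul_mem hgS (inf_le_left (a := S) hc)) (S.inv_mem hgS), fun y hy => ?_⟩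
  have hy' : g⁻¹ * y * g ∈ W := by
    have h0 := conj_mem_of_mem_normalizer (Subgroup.inv_mem _ hgN) hy
    simpa using h0
  have h1 := (mem_centralizerIn_iff.1 hc).2 _ hy'
  calc y * (g * c * g⁻¹) = g * ((g⁻¹ * y * g) * c) * g⁻¹ := by group
    _ = g * (c * (g⁻¹ * y * g)) * g⁻¹ := by rw [h1]
    _ = g * c * g⁻¹ * y := by group

theorem conj_mem_cent_sup {F : FusionSystem S} {W : Subgroup Ω} (hWS : W ≤ S) {g : Ω} (hgS : g ∈ S)
    (hgN : g ∈ Subgroup.normalizer (W : Set Ω)) :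
    ∀ q ∈ centralizerIn S W ⊔ W, g * q * g⁻¹ ∈ centralizerIn S W ⊔ W :=
  (isMap_conj F (sup_le inf_le_left hWS) hgS).mapsTo_sup
    (fun _ hc => Subgroup.mem_sup_left (conj_mem_centralizerIn hgS hgN hc))
    (fun _ hw => Subgroup.mem_sup_right (conj_mem_of_mem_normalizer hgN hw))

/-- an automorphism in `E` of an `E`-centric `R` normalizing `Aut_T(R)` extends in `E` to `N_T(R)` -/
theorem ext_over_normalizerIn {T : Subgroup Ω} [Finite T] {p : ℕ} [Fact p.Prime] (hT : IsPGroup p T)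
    {E : FusionSystem T} (hEs : E.IsSaturated p) {R : Subgroup Ω} (hRc : E.IsCentric R)
    {ν : MulAut R} (hν : ν ∈ E.autGroup R)
    (hnorm : ∀ t ∈ normalizerIn T R, ∃ t' ∈ T, ∀ x ∈ R,
      autFun ν (t * x * t⁻¹) = t' * autFun ν x * t'⁻¹) :
    ∃ f', IsMap E (normalizerIn T R) f' ∧ (∀ x ∈ R, f' x = autFun ν x) ∧
      ∀ t ∈ normalizerIn T R, f' t ∈ normalizerIn T R := by
  have hRT : R ≤ T := hRc.1
  have hrecE : E.IsReceptive R := receptive_of_centric hT hEs hRc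
  have hνm : IsMap E R (autFun ν) := IsMap.of_mem_autGroup hRT hν
  obtain ⟨f₁, hf₁, hf₁R⟩ := receptive_extend hrecE hνm (img_autFun ν) (N := normalizerIn T R)
    (fun g hg => ⟨(mem_normalizerIn_iff.1 hg).1, (mem_normalizerIn_iff.1 hg).2, hnorm g hg⟩)
  have hRN : R ≤ normalizerIn T R := le_normalizerIn hRT
  have hf' : IsMap E (normalizerIn T R) f₁ := hf₁.restrict le_sup_left
  refine ⟨f₁, hf', hf₁R, fun t ht => ?_⟩
  refine mem_normalizerIn_iff.2 ⟨hf'.mem ht, ?_⟩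
  obtain ⟨κ, -, -, hκ⟩ := exists_aut_conj E hRT ht
  refine mem_normalizer_of_autFun (ν * κ * ν⁻¹) (fun x hx => ?_)
  have hx₀ : autFun ν⁻¹ x ∈ R := autFun_mem _ hx
  have hc : t * autFun ν⁻¹ x * t⁻¹ ∈ R :=
    conj_mem_of_mem_normalizer (mem_normalizerIn_iff.1 ht).2 hx₀
  rw [autFun_mul _ _ hx, autFun_mul _ _ hx₀, hκ _ hx₀, ← hf₁R _ hc, hf'.map_conj ht (hRN hx₀),
    hf₁R _ hx₀, autFun_apply_inv ν hx]

/-- compatibility of a good extension `n` of `a₁ ∈ Aut_E(W)` with conjugation by an element of `S`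
normalizing `W` and centralizing an `E`-centric subgroup `V` of `W` stable under `a₁` -/
theorem cs_conj_compat [Finite S] {p : ℕ} [Fact p.Prime] (hS : IsPGroup p S) {F : FusionSystem S}
    (hF : F.IsSaturated p) {T : Subgroup Ω} {E : FusionSystem T} (hEs : E.IsSaturated p)
    (hinv : E.IsInvariantIn F) {W V : Subgroup Ω} (hWT : W ≤ T) (hWrec : F.IsReceptive W)
    (hVW : V ≤ W) (hVc : E.IsCentric V) (hWV : W ≤ Subgroup.normalizer (V : Set Ω))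
    {a₁ : MulAut W} (ha₁ : a₁ ∈ E.autGroup W) (haV : ∀ v ∈ V, autFun a₁ v ∈ V) {n : Ω → Ω}
    (hn : IsMap F (centralizerIn S W ⊔ W) n) (hnW : ∀ q ∈ W, n q = autFun a₁ q)
    (hnC : ∀ c ∈ centralizerIn S W, c⁻¹ * n c ∈ W) {x : Ω} (hxS : x ∈ S)
    (hxW : x ∈ Subgroup.normalizer (W : Set Ω)) (hxV : ∀ v ∈ V, x * v * x⁻¹ = v) :
    ∃ z ∈ V, ∃ k ∈ centralizerIn S W, ∀ q ∈ centralizerIn S W ⊔ W,
      n (x * q * x⁻¹) = (z * x * k) * n q * (z * x * k)⁻¹ := by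
  have hT := hinv.2.1
  have hTS : T ≤ S := hT.1
  have hfinT : Finite T := finite_of_le hTS
  have hTp : IsPGroup p T := hS.to_le hTS
  have hWS : W ≤ S := hWT.trans hTS
  have hCS : centralizerIn S W ≤ S := inf_le_left
  have hQS : centralizerIn S W ⊔ W ≤ S := sup_le hCS hWS
  have hfinC : Finite (centralizerIn S W) := finite_of_le hCS
  obtain ⟨κ, hκ, -, hκx⟩ := exists_aut_conj F hWS (mem_normalizerIn_iff.2 ⟨hxS, hxW⟩)
  have hψ : a₁ * (κ * a₁⁻¹ * κ⁻¹) ∈ E.autGroup W :=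
    Subgroup.mul_mem _ ha₁ (autGroup_conj_mem_of_invariant hS F hF E hinv hWT hκ
      (Subgroup.inv_mem _ ha₁))
  have ha₁m : IsMap E W (autFun a₁) := IsMap.of_mem_autGroup hWT ha₁
  have hV_img : img V (autFun a₁) = V := (ha₁m.restrict hVW).img_eq_of_mapsTo haV
  have haVinv : ∀ v ∈ V, autFun a₁⁻¹ v ∈ V := by
    intro v hv
    have hv' : v ∈ img V (autFun a₁) := by rw [hV_img]; exact hv
    obtain ⟨v₀, hv₀, rfl⟩ := (ha₁m.restrict hVW).mem_img.1 hv'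
    rw [autFun_inv_apply a₁ (hVW hv₀)]; exact hv₀
  have hκV : ∀ v ∈ V, autFun κ v = v := fun v hv => by rw [hκx v (hVW hv), hxV v hv]
  have hκiV : ∀ v ∈ V, autFun κ⁻¹ v = v := fun v hv => by
    have h := autFun_inv_apply κ (hVW hv)
    rwa [hκV v hv] at h
  have hfix : ∀ y : W, (y : Ω) ∈ V → (a₁ * (κ * a₁⁻¹ * κ⁻¹)) y = y := by
    intro y hy
    apply Subtype.ext
    rw [← autFun_apply, autFun_mul _ _ y.2, autFun_mul _ _ y.2, hκiV _ hy,
      autFun_mul _ _ y.2, hκV _ (haVinv _ hy), autFun_apply_inv a₁ y.2]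
  obtain ⟨⟨z, hzW⟩, hzV', -, hzψ⟩ :=
    Helper84.aut_eq_conj_of_fix hTp E hEs hVW hWT hWV hVc _ hψ hfix
  have hzV : z ∈ V := hzV'
  have hzx : z * x = x * z := by
    have h := hxV z hzV
    calc z * x = (x * z * x⁻¹) * x := by rw [h]
      _ = x * z := by group
  have hcompat : ∀ q ∈ W, autFun a₁ (x * q * x⁻¹) = (x * z) * autFun a₁ q * (x * z)⁻¹ := by
    intro q hq
    have hq' : autFun a₁ q ∈ W := autFun_mem a₁ hq
    have hy : autFun κ (autFun a₁ q) ∈ W := autFun_mem κ hq'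
    have h'' : autFun (a₁ * (κ * a₁⁻¹ * κ⁻¹)) (autFun κ (autFun a₁ q)) =
        z * autFun κ (autFun a₁ q) * z⁻¹ := by
      rw [autFun_apply' _ hy]
      exact congrArg Subtype.val (hzψ ⟨autFun κ (autFun a₁ q), hy⟩)
    rw [autFun_mul _ _ hy, autFun_mul _ _ hy, autFun_inv_apply κ hq', autFun_mul _ _ hq',
      autFun_inv_apply a₁ hq, hκx q hq, hκx _ hq'] at h''
    rw [h'', ← hzx]; group
  -- `n` as an automorphism of `C_S(W) W`
  have hnmaps := cs_mapsTo hn hnW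
  obtain ⟨αn, hαn, hαnv⟩ := hn.exists_aut (hn.img_eq_of_mapsTo hnmaps)
  have hαni : IsMap F (centralizerIn S W ⊔ W) (autFun αn⁻¹) :=
    IsMap.of_mem_autGroup hQS (Subgroup.inv_mem _ hαn)
  have hαniW : ∀ q ∈ W, autFun αn⁻¹ q = autFun a₁⁻¹ q := by
    intro q hq
    have hq₀ : autFun a₁⁻¹ q ∈ W := autFun_mem _ hq
    have h := autFun_inv_apply αn
      (Subgroup.mem_sup_right hq₀ : autFun a₁⁻¹ q ∈ centralizerIn S W ⊔ W)
    rwa [hαnv _ (Subgroup.mem_sup_right hq₀), hnW _ hq₀, autFun_apply_inv a₁ hq] at h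
  have hαniC : ∀ c ∈ centralizerIn S W, autFun αn⁻¹ c ∈ centralizerIn S W := fun c hc =>
    cs_cent_mem hαni (fun y hy => ⟨autFun a₁ y, autFun_mem a₁ hy, by
      rw [hαniW _ (autFun_mem a₁ hy), autFun_inv_apply a₁ hy]⟩) hc
  have hαniCW : ∀ c ∈ centralizerIn S W, c⁻¹ * autFun αn⁻¹ c ∈ W := by
    intro c hc
    have hc₁ := hαniC c hc
    have h := hnC _ hc₁
    rw [← hαnv _ (Subgroup.mem_sup_left hc₁), autFun_apply_inv αn (Subgroup.mem_sup_left hc)] at h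
    have e : c⁻¹ * autFun αn⁻¹ c = ((autFun αn⁻¹ c)⁻¹ * c)⁻¹ := by group
    rw [e]; exact W.inv_mem h
  have hxzS : x * z ∈ S := S.mul_mem hxS (hWS hzW)
  have hxzN : x * z ∈ Subgroup.normalizer (W : Set Ω) :=
    Subgroup.mul_mem _ hxW (Subgroup.le_normalizer hzW)
  obtain ⟨g, hgdef⟩ : ∃ g, g = (x * z)⁻¹ := ⟨_, rfl⟩
  have hgS : g ∈ S := by rw [hgdef]; exact S.inv_mem hxzS
  have hgN : g ∈ Subgroup.normalizer (W : Set Ω) := by rw [hgdef]; exact Subgroup.inv_mem _ hxzN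
  have m2 : IsMap F (centralizerIn S W ⊔ W) (fun y => x * y * x⁻¹) := isMap_conj F hQS hxS
  have m4 : IsMap F (centralizerIn S W ⊔ W) (fun y => g * y * g⁻¹) := isMap_conj F hQS hgS
  have hu : IsMap F (centralizerIn S W ⊔ W)
      ((fun y => g * y * g⁻¹) ∘ (n ∘ ((fun y => x * y * x⁻¹) ∘ autFun αn⁻¹))) :=
    ((hαni.comp m2 (fun y hy => autFun_mem _ hy)).comp hn
      (fun y hy => conj_mem_cent_sup (F := F) hWS hxS hxW _ (autFun_mem _ hy))).comp m4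
      (fun y hy => hnmaps _ (conj_mem_cent_sup (F := F) hWS hxS hxW _ (autFun_mem _ hy)))
  obtain ⟨u, hudef⟩ : ∃ u, u = (fun y => g * y * g⁻¹) ∘ (n ∘ ((fun y => x * y * x⁻¹) ∘ autFun αn⁻¹)) :=
    ⟨_, rfl⟩
  have huv : ∀ y, u y = g * n (x * autFun αn⁻¹ y * x⁻¹) * g⁻¹ := fun y => by rw [hudef]; rfl
  rw [← hudef] at hu
  have huW : ∀ q ∈ W, u q = q := by
    intro q hq
    have hq₀ : autFun a₁⁻¹ q ∈ W := autFun_mem _ hq
    rw [huv, hαniW q hq, hnW _ (conj_mem_of_mem_normalizer hxW hq₀), hcompat _ hq₀,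
      autFun_apply_inv a₁ hq, hgdef]
    group
  have huC : ∀ c ∈ centralizerIn S W, u c ∈ centralizerIn S W := by
    intro c hc
    rw [huv]
    exact conj_mem_centralizerIn hgS hgN
      (cs_cent_mem_aut hn hnW (conj_mem_centralizerIn hxS hxW (hαniC c hc)))
  have huCW : ∀ c ∈ centralizerIn S W, c⁻¹ * u c ∈ W := by
    intro c hc
    obtain ⟨w₁, hw₁def⟩ : ∃ w₁, w₁ = c⁻¹ * autFun αn⁻¹ c := ⟨_, rfl⟩
    have hw₁ : w₁ ∈ W := by rw [hw₁def]; exact hαniCW c hc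
    have e1 : autFun αn⁻¹ c = c * w₁ := by rw [hw₁def]; group
    have hc₂ : x * (c * w₁) * x⁻¹ ∈ centralizerIn S W := by
      rw [← e1]; exact conj_mem_centralizerIn hxS hxW (hαniC c hc)
    obtain ⟨w₃, hw₃def⟩ : ∃ w₃, w₃ = (x * (c * w₁) * x⁻¹)⁻¹ * n (x * (c * w₁) * x⁻¹) := ⟨_, rfl⟩
    have hw₃ : w₃ ∈ W := by rw [hw₃def]; exact hnC _ hc₂
    have e2 : n (x * (c * w₁) * x⁻¹) = x * (c * w₁) * x⁻¹ * w₃ := by rw [hw₃def]; group
    have hcz : c⁻¹ * z⁻¹ * c = z⁻¹ := by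
      have h := conj_eq_of_mem_centralizerIn (Subgroup.inv_mem _ hc) (W.inv_mem hzW)
      rwa [inv_inv] at h
    have e3 : c⁻¹ * ((x * z)⁻¹ * (x * (c * w₁) * x⁻¹ * w₃) * (x * z)⁻¹⁻¹) =
        (c⁻¹ * z⁻¹ * c) * w₁ * (x⁻¹ * w₃ * x⁻¹⁻¹) * z := by group
    rw [huv, e1, e2, hgdef, e3, hcz]
    exact W.mul_mem (W.mul_mem (W.mul_mem (W.inv_mem hzW) hw₁)
      (conj_mem_of_mem_normalizer (Subgroup.inv_mem _ hxW) hw₃)) hzW
  have huCM : IsCMap F W (centralizerIn S W) u :=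
    ⟨hu.restrict le_sup_left, le_rfl, huC, u, hu, fun _ _ => rfl, huW⟩
  have hPa : (centralizerSystem F W hWS).IsFullyAutomized p (centralizerIn S W) :=
    top_fullyAutomized (centSys_saturated hS hF hWrec)
  obtain ⟨k, hk, hku⟩ := cs_inner hS hWS hPa huCM huC huCW
  refine ⟨z, hzV, k, hk, ?_⟩
  have hhS : z * x * k ∈ S := S.mul_mem (S.mul_mem (hWS hzW) hxS) (hCS hk)
  have lhsmap : IsMap F (centralizerIn S W ⊔ W) (n ∘ (fun y => x * y * x⁻¹)) :=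
    m2.comp hn (conj_mem_cent_sup (F := F) hWS hxS hxW)
  have rhsmap : IsMap F (centralizerIn S W ⊔ W)
      ((fun y => (z * x * k) * y * (z * x * k)⁻¹) ∘ n) :=
    hn.comp (isMap_conj F le_rfl hhS) (fun q hq => hn.mem hq)
  refine lhsmap.eqOn_sup rhsmap (fun c hc => ?_) (fun w hw => ?_)
  · show n (x * c * x⁻¹) = (z * x * k) * n c * (z * x * k)⁻¹
    have hcQ : c ∈ centralizerIn S W ⊔ W := Subgroup.mem_sup_left hc
    have h := hku (n c) (cs_cent_mem_aut hn hnW hc)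
    rw [huv, ← hαnv c hcQ, autFun_inv_apply αn hcQ, hαnv c hcQ, hgdef] at h
    have e : n (x * c * x⁻¹) = (x * z) * ((x * z)⁻¹ * n (x * c * x⁻¹) * (x * z)⁻¹⁻¹) * (x * z)⁻¹ := by
      group
    rw [e, h, hzx]; group
  · show n (x * w * x⁻¹) = (z * x * k) * n w * (z * x * k)⁻¹
    have hkw := conj_eq_of_mem_centralizerIn hk (autFun_mem a₁ hw)
    rw [hnW _ (conj_mem_of_mem_normalizer hxW hw), hcompat w hw, hnW w hw, hzx]
    have e : x * z * k * autFun a₁ w * (x * z * k)⁻¹ =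
        x * z * (k * autFun a₁ w * k⁻¹) * (x * z)⁻¹ := by group
    rw [e, hkw]

end Cfsg.Agent.Helper85
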