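import Cfsg.Agent.Helper85.CsD

set_option autoImplicit false
set_option maxHeartbeats 1000000
open Cfsg

namespace Cfsg.Agent.Helper85

open Cfsg.FusionSystem
open Cfsg.Agent.Helper88

variable {Ω : Type*} [Group Ω] {S : Subgroup Ω}

/-- a good extension `n` on `C_S(W) W` compatible with the conjugations by the elements of `Y`
extends over `Y` -/
theorem cs_ext_over [Finite S] {p : ℕ} [Fact p.Prime] (hS : IsPGroup p S) {F : FusionSystem S}
    (hF : F.IsSaturated p) {W V Y : Subgroup Ω} (hWrec : F.IsReceptive W) (hVW : V ≤ W)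
    {a₁ : MulAut W} {n : Ω → Ω}
    (hn : IsMap F (centralizerIn S W ⊔ W) n) (hnW : ∀ q ∈ W, n q = autFun a₁ q)
    (hY : ∀ x ∈ Y, x ∈ S ∧ x ∈ Subgroup.normalizer (W : Set Ω) ∧ (∀ v ∈ V, x * v * x⁻¹ = v) ∧
      ∃ z ∈ V, ∃ k ∈ centralizerIn S W, ∀ q ∈ centralizerIn S W ⊔ W,
        n (x * q * x⁻¹) = (z * x * k) * n q * (z * x * k)⁻¹) :
    ∃ n', IsMap F (Y ⊔ (centralizerIn S W ⊔ W)) n' ∧ (∀ q ∈ centralizerIn S W ⊔ W, n' q = n q) ∧
      ∀ x ∈ Y, ∃ z ∈ V, ∃ c₀ ∈ centralizerIn S W, n' x = x * z * c₀ := by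
  have hWS : W ≤ S := hWrec.1
  have hCS : centralizerIn S W ≤ S := inf_le_left
  have hQS : centralizerIn S W ⊔ W ≤ S := sup_le hCS hWS
  have hQc : F.IsCentric (centralizerIn S W ⊔ W) := isCentric_cent_sup hWrec
  have hQrec : F.IsReceptive (centralizerIn S W ⊔ W) := receptive_of_centric hS hF hQc
  have hnmaps := cs_mapsTo hn hnW
  have himg : img (centralizerIn S W ⊔ W) n = centralizerIn S W ⊔ W := hn.img_eq_of_mapsTo hnmaps
  obtain ⟨n', hn', hn'Q⟩ := receptive_extend hQrec hn himg (N := Y) (fun g hg => by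
    obtain ⟨hgS, hgN, -, z, hzV, k, hk, hzk⟩ := hY g hg
    have h1 : IsMap F (centralizerIn S W ⊔ W) (fun y => g * y * g⁻¹) := isMap_conj F hQS hgS
    obtain ⟨β, -, hβv⟩ := h1.exists_aut
      (h1.img_eq_of_mapsTo (conj_mem_cent_sup (F := F) hWS hgS hgN))
    exact ⟨hgS, mem_normalizer_of_autFun β hβv, z * g * k,
      S.mul_mem (S.mul_mem (hWS (hVW hzV)) hgS) (hCS hk), hzk⟩)
  refine ⟨n', hn', hn'Q, fun x hx => ?_⟩
  obtain ⟨hxS, hxN, hxV, z, hzV, k, hk, hzk⟩ := hY x hx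
  have hhS : z * x * k ∈ S := S.mul_mem (S.mul_mem (hWS (hVW hzV)) hxS) (hCS hk)
  have hxM : x ∈ Y ⊔ (centralizerIn S W ⊔ W) := Subgroup.mem_sup_left hx
  have hWM : W ≤ Y ⊔ (centralizerIn S W ⊔ W) := le_sup_right.trans le_sup_right
  refine ⟨z, hzV, k * ((z * x * k)⁻¹ * n' x), ?_, ?_⟩
  · refine Subgroup.mul_mem _ hk (mem_centralizerIn_iff.2 ⟨?_, fun w hw => ?_⟩)
    · exact S.mul_mem (S.inv_mem hhS) (hn'.mem hxM)
    · have hq₀ : autFun a₁⁻¹ w ∈ W := autFun_mem _ hw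
      have hq₀Q : autFun a₁⁻¹ w ∈ centralizerIn S W ⊔ W := Subgroup.mem_sup_right hq₀
      have hnq₀ : n (autFun a₁⁻¹ w) = w := by rw [hnW _ hq₀, autFun_apply_inv a₁ hw]
      have hcq : x * autFun a₁⁻¹ w * x⁻¹ ∈ W := conj_mem_of_mem_normalizer hxN hq₀
      have key : n' x * w * (n' x)⁻¹ = (z * x * k) * w * (z * x * k)⁻¹ := by
        have h1 := hn'.map_conj hxM (hWM hq₀)
        rw [hn'Q _ (Subgroup.mem_sup_right hcq), hzk _ hq₀Q, hn'Q _ hq₀Q, hnq₀] at h1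
        exact h1.symm
      calc w * ((z * x * k)⁻¹ * n' x)
          = (z * x * k)⁻¹ * ((z * x * k) * w * (z * x * k)⁻¹) * n' x := by group
        _ = (z * x * k)⁻¹ * (n' x * w * (n' x)⁻¹) * n' x := by rw [key]
        _ = (z * x * k)⁻¹ * n' x * w := by group
  · have hzx : z * x = x * z := by
      have h := hxV z hzV
      calc z * x = (x * z * x⁻¹) * x := by rw [h]
        _ = x * z := by group
    rw [← hzx]; group

/-- the `p'`-part of the extension: it moves the elements of `Y` by elements of the strongly closed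
subgroup `T` -/
theorem cs_pprime_part [Finite S] {p : ℕ} [Fact p.Prime] (hS : IsPGroup p S) {F : FusionSystem S}
    {T : Subgroup Ω} (hT : F.StronglyClosed T) {W V Y : Subgroup Ω} (hWT : W ≤ T) (hVW : V ≤ W)
    (hYS : Y ≤ S) {n' : Ω → Ω} (hn' : IsMap F (Y ⊔ (centralizerIn S W ⊔ W)) n')
    (hn'W : ∀ w ∈ W, n' w ∈ W)
    (hn'C : ∀ c ∈ centralizerIn S W, n' c ∈ centralizerIn S W ∧ c⁻¹ * n' c ∈ W)
    (hn'Y : ∀ x ∈ Y, ∃ z ∈ V, ∃ c₀ ∈ centralizerIn S W, n' x = x * z * c₀)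
    {ν' : MulAut V} {m : ℕ} (hν'm : ν' ^ m = 1) (hmp : m.Coprime p)
    (hn'V : ∀ v ∈ V, n' v = autFun ν' v) :
    ∃ β', IsMap F (Y ⊔ (centralizerIn S W ⊔ W)) β' ∧ (∀ v ∈ V, β' v = autFun ν' v) ∧
      ∀ x ∈ Y, x⁻¹ * β' x ∈ T := by
  have hTS : T ≤ S := hT.1
  have hWS : W ≤ S := hWT.trans hTS
  have hCS : centralizerIn S W ≤ S := inf_le_left
  have hQS : centralizerIn S W ⊔ W ≤ S := sup_le hCS hWS
  have hMS : Y ⊔ (centralizerIn S W ⊔ W) ≤ S := sup_le hYS hQS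
  have hfinM : Finite ↥(Y ⊔ (centralizerIn S W ⊔ W)) := finite_of_le hMS
  have hCM : centralizerIn S W ≤ Y ⊔ (centralizerIn S W ⊔ W) := le_sup_left.trans le_sup_right
  have hWM : W ≤ Y ⊔ (centralizerIn S W ⊔ W) := le_sup_right.trans le_sup_right
  have hYM : Y ≤ Y ⊔ (centralizerIn S W ⊔ W) := le_sup_left
  have hVM : V ≤ Y ⊔ (centralizerIn S W ⊔ W) := hVW.trans hWM
  have hmaps : ∀ y ∈ Y ⊔ (centralizerIn S W ⊔ W), n' y ∈ Y ⊔ (centralizerIn S W ⊔ W) :=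
    hn'.mapsTo_sup
      (fun x hx => by
        obtain ⟨z, hz, c₀, hc₀, e⟩ := hn'Y x hx
        rw [e]
        exact Subgroup.mul_mem _ (Subgroup.mul_mem _ (hYM hx) (hVM hz)) (hCM hc₀))
      ((hn'.restrict le_sup_right).mapsTo_sup (fun c hc => hCM (hn'C c hc).1)
        (fun w hw => hWM (hn'W w hw)))
  obtain ⟨αM, hαM, hαMv⟩ := hn'.exists_aut (hn'.img_eq_of_mapsTo hmaps)
  obtain ⟨N, b, hbp, hNb, hNm⟩ := exists_pprime_pow p αM hmp
  have hpowV : ∀ j : ℕ, ∀ v ∈ V, autFun (αM ^ j) v = autFun (ν' ^ j) v := by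
    intro j
    induction j with
    | zero => intro v hv; rw [pow_zero, pow_zero, autFun_one hv, autFun_one (hVM hv)]
    | succ j ih =>
      intro v hv
      rw [pow_succ, pow_succ, autFun_mul _ _ (hVM hv), hαMv v (hVM hv), hn'V v hv,
        ih _ (autFun_mem ν' hv), autFun_mul _ _ hv]
  obtain ⟨k₀, hk₀⟩ := pow_card_eq_one_of_mem hS
  refine ⟨autFun (αM ^ N), IsMap.of_mem_autGroup hMS (Subgroup.pow_mem _ hαM N),
    fun v hv => ?_, fun x hx => ?_⟩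
  · rw [hpowV N v hv, pow_eq_self_of_mod hν'm hNm]
  · obtain ⟨z, hz, c₀, hc₀, e⟩ := hn'Y x hx
    have hxM := hYM hx
    have hc₀M := hCM hc₀
    have hzW := hVW hz
    obtain ⟨ω, hωdef⟩ : ∃ ω, ω = c₀⁻¹ * n' c₀ := ⟨_, rfl⟩
    have hωW : ω ∈ W := by rw [hωdef]; exact (hn'C c₀ hc₀).2
    have hnc₀ : n' c₀ = c₀ * ω := by rw [hωdef]; group
    have hcω : Commute c₀ ω := ((mem_centralizerIn_iff.1 hc₀).2 ω hωW).symm
    have hcz : Commute z c₀ := (mem_centralizerIn_iff.1 hc₀).2 z hzW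
    have key : ∀ j : ℕ, (x * c₀ ^ j)⁻¹ * autFun (αM ^ j) x ∈ T := by
      intro j
      induction j with
      | zero =>
        rw [pow_zero, pow_zero, autFun_one hxM, mul_one, inv_mul_cancel]; exact T.one_mem
      | succ j ih =>
        obtain ⟨τ, hτdef⟩ : ∃ τ, τ = (x * c₀ ^ j)⁻¹ * autFun (αM ^ j) x := ⟨_, rfl⟩
        rw [← hτdef] at ih
        have hxcM : x * c₀ ^ j ∈ Y ⊔ (centralizerIn S W ⊔ W) :=
          Subgroup.mul_mem _ hxM (Subgroup.pow_mem _ hc₀M j)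
        have hτM : τ ∈ Y ⊔ (centralizerIn S W ⊔ W) := by
          rw [hτdef]
          exact Subgroup.mul_mem _ (Subgroup.inv_mem _ hxcM) (autFun_mem _ hxM)
        have e1 : autFun (αM ^ j) x = x * c₀ ^ j * τ := by rw [hτdef]; group
        have hτ' : n' τ ∈ T := sc_apply_mem hT hn' hτM ih
        have e2 : autFun (αM ^ (j + 1)) x = x * z * c₀ * (c₀ * ω) ^ j * n' τ := by
          rw [pow_succ', autFun_mul _ _ hxM, e1, hαMv _ (Subgroup.mul_mem _ hxcM hτM),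
            hn'.map_mul hxcM hτM, hn'.map_mul hxM (Subgroup.pow_mem _ hc₀M j),
            isMap_map_pow hn' hc₀M j, e, hnc₀]
        rw [e2, hcω.mul_pow]
        have e3 : (x * c₀ ^ (j + 1))⁻¹ * (x * z * c₀ * (c₀ ^ j * ω ^ j) * n' τ) =
            (c₀ ^ (j + 1))⁻¹ * (z * c₀ ^ (j + 1)) * (ω ^ j * n' τ) := by
          rw [pow_succ' c₀ j]; group
        rw [e3, (hcz.pow_right (j + 1)).eq, inv_mul_cancel_left]
        exact T.mul_mem (hWT hzW) (T.mul_mem (T.pow_mem (hWT hωW) j) hτ')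
    have h1 := key (N * b)
    rw [pow_mul αM N b, hNb, autFun_one hxM] at h1
    have h2 : (c₀ ^ N) ^ b ∈ T := by
      have e4 : (c₀ ^ N) ^ b = ((x * c₀ ^ (N * b))⁻¹ * x)⁻¹ := by rw [← pow_mul]; group
      rw [e4]; exact T.inv_mem h1
    have h3 : c₀ ^ N ∈ T := mem_of_pow_mem_of_coprime T h2
      (by rw [← pow_mul, mul_comm N, pow_mul, hk₀ c₀ (hCS hc₀), one_pow])
      (Nat.Coprime.pow_right k₀ hbp)
    have h4 := key N
    have e5 : x⁻¹ * autFun (αM ^ N) x = c₀ ^ N * ((x * c₀ ^ N)⁻¹ * autFun (αM ^ N) x) := by group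
    rw [e5]; exact T.mul_mem h3 h4

end Cfsg.Agent.Helper85
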