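import Cfsg.Agent.Helper85.CsE

set_option autoImplicit false
set_option maxHeartbeats 1000000
open Cfsg

namespace Cfsg.Agent.Helper85

open Cfsg.FusionSystem
open Cfsg.Agent.Helper88

variable {Ω : Type*} [Group Ω] {S : Subgroup Ω}

theorem mem_normalizer_normalizerIn {F : FusionSystem S} {T : Subgroup Ω} (hT : F.StronglyClosed T)
    {R : Subgroup Ω} {c : Ω} (hcS : c ∈ S) (hcN : c ∈ Subgroup.normalizer (R : Set Ω)) :
    c ∈ Subgroup.normalizer (normalizerIn T R : Set Ω) := by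
  have key : ∀ g ∈ S, g ∈ Subgroup.normalizer (R : Set Ω) → ∀ t ∈ normalizerIn T R,
      g * t * g⁻¹ ∈ normalizerIn T R := by
    intro g hgS hgN t ht
    obtain ⟨htT, htN⟩ := mem_normalizerIn_iff.1 ht
    exact mem_normalizerIn_iff.2 ⟨stronglyClosed_conj_mem hT hgS htT,
      Subgroup.mul_mem _ (Subgroup.mul_mem _ hgN htN) (Subgroup.inv_mem _ hgN)⟩
  rw [Subgroup.mem_normalizer_iff]
  intro t
  constructor
  · exact key c hcS hcN t
  · intro h
    have h2 := key c⁻¹ (S.inv_mem hcS) (Subgroup.inv_mem _ hcN) _ h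
    have e : c⁻¹ * (c * t * c⁻¹) * c⁻¹⁻¹ = t := by group
    rwa [e] at h2

/-- a `p'`-automorphism in `E` of the `E`-centric subgroup `R ≠ T` normalizing `Aut_T(R)` has a
good extension over the centralizer, if this is so for all automorphisms in `E` of the larger
`E`-centric subgroups fully automized and receptive in `F` -/
theorem cgood_of_normalizes [Finite S] {p : ℕ} [Fact p.Prime] (hS : IsPGroup p S)
    {F : FusionSystem S} (hF : F.IsSaturated p) {T : Subgroup Ω} {E : FusionSystem T}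
    (hEs : E.IsSaturated p) (hinv : E.IsInvariantIn F) {R : Subgroup Ω} (hRc : E.IsCentric R)
    (hRne : R ≠ T) {ν : MulAut R} (hν : ν ∈ E.autGroup R) {m : ℕ} (hνm : ν ^ m = 1)
    (hmp : m.Coprime p)
    (hnorm : ∀ t ∈ normalizerIn T R, ∃ t' ∈ T, ∀ x ∈ R,
      autFun ν (t * x * t⁻¹) = t' * autFun ν x * t'⁻¹)
    (IH : ∀ R₂ : Subgroup Ω, E.IsCentric R₂ → F.IsFullyAutomized p R₂ → F.IsReceptive R₂ →
      Nat.card R < Nat.card R₂ → ∀ a ∈ E.autGroup R₂, CGood F R₂ (autFun a)) :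
    CGood F R (autFun ν) := by
  have hT := hinv.2.1
  have hTS : T ≤ S := hT.1
  have hfinT : Finite T := finite_of_le hTS
  have hTp : IsPGroup p T := hS.to_le hTS
  have hRT : R ≤ T := hRc.1
  have hRS : R ≤ S := hRT.trans hTS
  have hRR₁ : R ≤ normalizerIn T R := le_normalizerIn hRT
  have hR₁T : normalizerIn T R ≤ T := inf_le_left
  have hR₁S : normalizerIn T R ≤ S := hR₁T.trans hTS
  have hcard : Nat.card R < Nat.card (normalizerIn T R) := card_lt_normalizerIn hTp hRT hRne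
  have hR₁c : E.IsCentric (normalizerIn T R) := isCentric_of_le hRc hRR₁ hR₁T
  obtain ⟨f', hf', hf'R, hf'N⟩ := ext_over_normalizerIn hTp hEs hRc hν hnorm
  obtain ⟨W, hconj, hfa'', hrec''⟩ := hF (normalizerIn T R) hR₁S
  obtain ⟨χ, hχ, hχimg⟩ := Helper88.exists_normalizer_map hS hfa'' hrec'' hconj
  subst hχimg
  have hR₁D : normalizerIn T R ≤ normalizerIn S (normalizerIn T R) := le_normalizerIn hR₁S
  have hRD : R ≤ normalizerIn S (normalizerIn T R) := hRR₁.trans hR₁D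
  have hCD : centralizerIn S R ≤ normalizerIn S (normalizerIn T R) := fun c hc =>
    mem_normalizerIn_iff.2 ⟨(mem_centralizerIn_iff.1 hc).1,
      mem_normalizer_normalizerIn hT (mem_centralizerIn_iff.1 hc).1
        (centralizerIn_le_normalizer S R hc)⟩
  obtain ⟨χi, hχi, hχi1, hχi2, -⟩ := hχ.exists_inv
  have hχR₁ : IsMap F (normalizerIn T R) χ := hχ.restrict hR₁D
  have hχR : IsMap F R χ := hχ.restrict hRD
  have hχC : IsMap F (centralizerIn S R) χ := hχ.restrict hCD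
  have hWT : img (normalizerIn T R) χ ≤ T := by
    intro y hy
    obtain ⟨t, ht, rfl⟩ := hχR₁.mem_img.1 hy
    exact sc_apply_mem hT hχR₁ ht (hR₁T ht)
  have hWc : E.IsCentric (img (normalizerIn T R) χ) := isCentric_img_of_invariant hinv hR₁c hχR₁
  have hVc : E.IsCentric (img R χ) := isCentric_img_of_invariant hinv hRc hχR
  have hVW : img R χ ≤ img (normalizerIn T R) χ := hχR₁.img_restrict_le hRR₁
  have hWV : img (normalizerIn T R) χ ≤ Subgroup.normalizer (img R χ : Set Ω) := by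
    intro y hy
    obtain ⟨t, ht, rfl⟩ := hχR₁.mem_img.1 hy
    exact hχ.map_mem_normalizer hRD (hR₁D ht) (mem_normalizerIn_iff.1 ht).2
  have hgv : ∀ t ∈ normalizerIn T R, (χ ∘ (f' ∘ χi)) (χ t) = χ (f' t) := fun t ht => by
    show χ (f' (χi (χ t))) = χ (f' t)
    rw [hχi1 t (hR₁D ht)]
  have hg : IsMap E (img (normalizerIn T R) χ) (χ ∘ (f' ∘ χi)) :=
    invariant_isMap hS hF hinv le_rfl hR₁T hf' hf'N hχR₁ hgv
  have hgW : ∀ y ∈ img (normalizerIn T R) χ, (χ ∘ (f' ∘ χi)) y ∈ img (normalizerIn T R) χ := by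
    intro y hy
    obtain ⟨t, ht, rfl⟩ := hχR₁.mem_img.1 hy
    rw [hgv t ht]; exact hχR₁.apply_mem_img (hf'N t ht)
  obtain ⟨a₁, ha₁, ha₁v⟩ := hg.exists_aut (hg.img_eq_of_mapsTo hgW)
  have hcardW : Nat.card R < Nat.card (img (normalizerIn T R) χ) := by
    rw [hχR₁.card_img]; exact hcard
  obtain ⟨n, hn, hnW, hnC⟩ := IH _ hWc hfa'' hrec'' hcardW a₁ ha₁
  have ha₁χ : ∀ r ∈ R, autFun a₁ (χ r) = χ (autFun ν r) := by
    intro r hr
    rw [ha₁v _ (hχR₁.apply_mem_img (hRR₁ hr)), hgv r (hRR₁ hr), hf'R r hr]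
  have haV : ∀ v ∈ img R χ, autFun a₁ v ∈ img R χ := by
    intro v hv
    obtain ⟨r, hr, rfl⟩ := hχR.mem_img.1 hv
    rw [ha₁χ r hr]; exact hχR.apply_mem_img (autFun_mem ν hr)
  have hYfacts : ∀ y ∈ img (centralizerIn S R) χ, y ∈ S ∧
      y ∈ Subgroup.normalizer (img (normalizerIn T R) χ : Set Ω) ∧
        ∀ v ∈ img R χ, y * v * y⁻¹ = v := by
    intro y hy
    obtain ⟨x, hx, rfl⟩ := hχC.mem_img.1 hy
    refine ⟨hχ.mem (hCD hx),
      hχ.map_mem_normalizer hR₁D (hCD hx) (mem_normalizerIn_iff.1 (hCD hx)).2, fun v hv => ?_⟩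
    obtain ⟨r, hr, rfl⟩ := hχR.mem_img.1 hv
    rw [← hχ.map_conj (hCD hx) (hRD hr), conj_eq_of_mem_centralizerIn hx hr]
  obtain ⟨n', hn', hn'Q, hn'Y⟩ := cs_ext_over hS hF hrec'' hVW hn hnW
    (Y := img (centralizerIn S R) χ) (fun y hy => by
      obtain ⟨hyS, hyN, hyV⟩ := hYfacts y hy
      exact ⟨hyS, hyN, hyV,
        cs_conj_compat hS hF hEs hinv hWT hrec'' hVW hVc hWV ha₁ haV hn hnW hnC hyS hyN hyV⟩)
  -- the transported automorphism of `V`
  have hgV : IsMap E (img R χ) (χ ∘ (f' ∘ χi)) := hg.restrict hVW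
  have hgVmaps : ∀ v ∈ img R χ, (χ ∘ (f' ∘ χi)) v ∈ img R χ := by
    intro v hv
    obtain ⟨r, hr, rfl⟩ := hχR.mem_img.1 hv
    rw [hgv r (hRR₁ hr), hf'R r hr]; exact hχR.apply_mem_img (autFun_mem ν hr)
  obtain ⟨ν', -, hν'v⟩ := hgV.exists_aut (hgV.img_eq_of_mapsTo hgVmaps)
  have hν'χ : ∀ r ∈ R, autFun ν' (χ r) = χ (autFun ν r) := fun r hr => by
    rw [hν'v _ (hχR.apply_mem_img hr), hgv r (hRR₁ hr), hf'R r hr]
  have hν'pow : ∀ j : ℕ, ∀ r ∈ R, autFun (ν' ^ j) (χ r) = χ (autFun (ν ^ j) r) := by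
    intro j
    induction j with
    | zero =>
      intro r hr
      rw [pow_zero, pow_zero, autFun_one hr, autFun_one (hχR.apply_mem_img hr)]
    | succ j ih =>
      intro r hr
      rw [pow_succ, pow_succ, autFun_mul _ _ (hχR.apply_mem_img hr), hν'χ r hr,
        ih _ (autFun_mem ν hr), autFun_mul _ _ hr]
  have hν'm : ν' ^ m = 1 := by
    apply autFun_ext
    intro v hv
    obtain ⟨r, hr, rfl⟩ := hχR.mem_img.1 hv
    rw [hν'pow m r hr, hνm, autFun_one hr, autFun_one (hχR.apply_mem_img hr)]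
  obtain ⟨β', hβ', hβ'V, hβ'Y⟩ := cs_pprime_part hS hT hWT hVW hχC.img_le hn'
    (fun w hw => by rw [hn'Q w (Subgroup.mem_sup_right hw), hnW w hw]; exact autFun_mem a₁ hw)
    (fun c hc => by
      rw [hn'Q c (Subgroup.mem_sup_left hc)]
      exact ⟨cs_cent_mem_aut hn hnW hc, hnC c hc⟩)
    hn'Y hν'm hmp
    (fun v hv => by
      rw [hn'Q v (Subgroup.mem_sup_right (hVW hv)), hnW v (hVW hv), ha₁v v (hVW hv), hν'v v hv])
  have hVM : img R χ ≤ img (centralizerIn S R) χ ⊔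
      (centralizerIn S (img (normalizerIn T R) χ) ⊔ img (normalizerIn T R) χ) :=
    hVW.trans (le_sup_right.trans le_sup_right)
  have hYM : img (centralizerIn S R) χ ≤ img (centralizerIn S R) χ ⊔
      (centralizerIn S (img (normalizerIn T R) χ) ⊔ img (normalizerIn T R) χ) := le_sup_left
  have hβ'YV : ∀ y ∈ img (centralizerIn S R) χ, y⁻¹ * β' y ∈ img R χ := by
    intro y hy
    obtain ⟨hyS, -, hyV⟩ := hYfacts y hy
    apply centralizerIn_le_of_isCentric hVc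
    refine mem_centralizerIn_iff.2 ⟨hβ'Y y hy, fun v hv => ?_⟩
    have hv₀ : autFun ν'⁻¹ v ∈ img R χ := autFun_mem _ hv
    have hβv₀ : β' (autFun ν'⁻¹ v) = v := by rw [hβ'V _ hv₀, autFun_apply_inv ν' hv]
    have h1 : y * autFun ν'⁻¹ v = autFun ν'⁻¹ v * y := by
      have h := hyV _ hv₀
      calc y * autFun ν'⁻¹ v = (y * autFun ν'⁻¹ v * y⁻¹) * y := by group
        _ = autFun ν'⁻¹ v * y := by rw [h]
    have h2 : β' y * v = v * β' y := by
      rw [← hβv₀, ← hβ'.map_mul (hYM hy) (hVM hv₀), ← hβ'.map_mul (hVM hv₀) (hYM hy), h1]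
    have h3 : y * v = v * y := by
      have h := hyV v hv
      calc y * v = (y * v * y⁻¹) * y := by group
        _ = v * y := by rw [h]
    calc v * (y⁻¹ * β' y) = y⁻¹ * (y * v) * y⁻¹ * β' y := by group
      _ = y⁻¹ * (v * y) * y⁻¹ * β' y := by rw [h3]
      _ = y⁻¹ * (v * β' y) := by group
      _ = y⁻¹ * (β' y * v) := by rw [h2]
      _ = y⁻¹ * β' y * v := by group
  -- the final map
  have hQ₀D : centralizerIn S R ⊔ R ≤ normalizerIn S (normalizerIn T R) := sup_le hCD hRD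
  have hχQ₀ : IsMap F (centralizerIn S R ⊔ R) χ := hχ.restrict hQ₀D
  have hχmaps : ∀ q ∈ centralizerIn S R ⊔ R, χ q ∈ img (centralizerIn S R) χ ⊔ img R χ :=
    hχQ₀.mapsTo_sup (fun x hx => Subgroup.mem_sup_left (hχC.apply_mem_img hx))
      (fun r hr => Subgroup.mem_sup_right (hχR.apply_mem_img hr))
  have hβ'YVm : IsMap F (img (centralizerIn S R) χ ⊔ img R χ) β' :=
    hβ'.restrict (sup_le hYM hVM)
  have hβ'maps : ∀ q ∈ img (centralizerIn S R) χ ⊔ img R χ,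
      β' q ∈ img (centralizerIn S R) χ ⊔ img R χ :=
    hβ'YVm.mapsTo_sup
      (fun y hy => by
        have e : β' y = y * (y⁻¹ * β' y) := by group
        rw [e]
        exact Subgroup.mul_mem _ (Subgroup.mem_sup_left hy)
          (Subgroup.mem_sup_right (hβ'YV y hy)))
      (fun v hv => by rw [hβ'V v hv]; exact Subgroup.mem_sup_right (autFun_mem ν' hv))
  have hYVD : img (centralizerIn S R) χ ⊔ img R χ ≤ img (normalizerIn S (normalizerIn T R)) χ :=
    sup_le (hχ.img_restrict_le hCD) (hχ.img_restrict_le hRD)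
  have hfinal : IsMap F (centralizerIn S R ⊔ R) (χi ∘ (β' ∘ χ)) :=
    (hχQ₀.comp hβ'YVm hχmaps).comp (hχi.restrict hYVD) (fun q hq => hβ'maps _ (hχmaps q hq))
  refine ⟨χi ∘ (β' ∘ χ), hfinal, fun r hr => ?_, fun x hx => ?_⟩
  · show χi (β' (χ r)) = autFun ν r
    rw [hβ'V _ (hχR.apply_mem_img hr), hν'χ r hr, hχi1 _ (hRD (autFun_mem ν hr))]
  · show x⁻¹ * χi (β' (χ x)) ∈ R
    have hy := hχC.apply_mem_img hx
    obtain ⟨ρ, hρ, hρe⟩ := hχR.mem_img.1 (hβ'YV _ hy)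
    have e : β' (χ x) = χ (x * ρ) := by
      rw [hχ.map_mul (hCD hx) (hRD hρ), hρe]; group
    rw [e, hχi1 _ (Subgroup.mul_mem _ (hCD hx) (hRD hρ)), inv_mul_cancel_left]
    exact hρ

end Cfsg.Agent.Helper85
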