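import Cfsg.Agent.Helper85.CsF

set_option autoImplicit false
set_option maxHeartbeats 1000000
open Cfsg

namespace Cfsg.Agent.Helper85

open Cfsg.FusionSystem
open Cfsg.Agent.Helper88

variable {Ω : Type*} [Group Ω] {S : Subgroup Ω}

/-- splitting an element of a finite group into its `p'`-part and its `p`-part -/
theorem pow_split {G : Type*} [Group G] [Finite G] (p : ℕ) [Fact p.Prime] (ν : G) :
    ∃ k m : ℕ, m.Coprime p ∧ (ν ^ p ^ k) ^ m = 1 ∧ (ν ^ m) ^ p ^ k = 1 ∧
      ∃ u v : ℤ, ν = (ν ^ p ^ k) ^ u * (ν ^ m) ^ v := by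
  have hp : p.Prime := Fact.out
  have ho : orderOf ν ≠ 0 := (orderOf_pos ν).ne'
  obtain ⟨k, m, hm, hkm⟩ := Nat.exists_eq_pow_mul_and_not_dvd ho p hp.ne_one
  have hmp : m.Coprime p := ((Nat.Prime.coprime_iff_not_dvd hp).2 hm).symm
  have hco : Nat.Coprime (p ^ k) m := Nat.Coprime.pow_left k hmp.symm
  refine ⟨k, m, hmp, ?_, ?_, Nat.gcdA (p ^ k) m, Nat.gcdB (p ^ k) m, ?_⟩
  · rw [← pow_mul, ← hkm, pow_orderOf_eq_one]
  · rw [← pow_mul, mul_comm, ← hkm, pow_orderOf_eq_one]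
  · rw [← zpow_natCast ν (p ^ k), ← zpow_natCast ν m, ← zpow_mul, ← zpow_mul, ← zpow_add,
      ← Nat.gcd_eq_gcd_ab, hco.gcd_eq_one]
    simp

/-- the extension condition of a normal subsystem, for the top group -/
theorem cgood_top [Finite S] {p : ℕ} {F : FusionSystem S} {T : Subgroup Ω} {E : FusionSystem T}
    (hE : E.IsNormalIn F p) {a : MulAut T} (ha : a ∈ E.autGroup T) : CGood F T (autFun a) := by
  obtain ⟨β, hβ, hβT, hβC⟩ := hE.2 a ha
  have hTS : T ≤ S := hE.1.2.2.2.1.1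
  have hle : T ⊔ centralizerIn S T ≤ S := sup_le hTS inf_le_left
  have hm : IsMap F (T ⊔ centralizerIn S T) (autFun β) := IsMap.of_mem_autGroup hle hβ
  refine ⟨autFun β, hm.restrict (le_of_eq (sup_comm _ _)), fun x hx => ?_, fun x hx => ?_⟩
  · rw [autFun_apply' β (Subgroup.mem_sup_left hx), autFun_apply' a hx]
    exact hβT ⟨x, hx⟩
  · rw [autFun_apply' β (Subgroup.mem_sup_right hx)]
    exact (hβC ⟨x, Subgroup.mem_sup_right hx⟩ hx).1

theorem cgood_top' [Finite S] {p : ℕ} {F : FusionSystem S} {T : Subgroup Ω} {E : FusionSystem T}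
    (hE : E.IsNormalIn F p) {R : Subgroup Ω} (hRT : R = T) {a : MulAut R}
    (ha : a ∈ E.autGroup R) : CGood F R (autFun a) := by
  subst hRT
  exact cgood_top hE ha

/-- the inductive step: all automorphisms in `E` of `R` have good extensions -/
theorem cgood_step [Finite S] {p : ℕ} [Fact p.Prime] (hS : IsPGroup p S) {F : FusionSystem S}
    (hF : F.IsSaturated p) {T : Subgroup Ω} {E : FusionSystem T} (hEs : E.IsSaturated p)
    (hinv : E.IsInvariantIn F) {R : Subgroup Ω} (hRc : E.IsCentric R)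
    (hfa : F.IsFullyAutomized p R) (hrec : F.IsReceptive R) (hRne : R ≠ T)
    (IH : ∀ R₂ : Subgroup Ω, E.IsCentric R₂ → F.IsFullyAutomized p R₂ → F.IsReceptive R₂ →
      Nat.card R < Nat.card R₂ → ∀ a ∈ E.autGroup R₂, CGood F R₂ (autFun a)) :
    ∀ a ∈ E.autGroup R, CGood F R (autFun a) := by
  have hp : p.Prime := Fact.out
  have hT := hinv.2.1
  have hTS : T ≤ S := hT.1
  have hfinT : Finite T := finite_of_le hTS
  have hRT : R ≤ T := hRc.1
  have hRS : R ≤ S := hRT.trans hTS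
  have hfinR : Finite R := finite_of_le hRS
  have hpel : ∀ b : E.autGroup R, (∃ k : ℕ, b ^ p ^ k = 1) → b ∈ cgSub F E R hRS := by
    rintro b ⟨k, hk⟩
    have hk' : (b : MulAut R) ^ p ^ k = 1 := by
      have := congrArg Subtype.val hk
      simpa using this
    exact exists_ext_pElement hS hF hEs hinv hRc hfa hrec b.2 hk'
  have hEfa : E.IsFullyAutomized p R := fullyAutomized_of_invariant hS hF hEs hinv hRT hfa hrec
  obtain ⟨P₀, hP₀⟩ := hEfa.2
  have hYle : Subgroup.normalClosure {b : E.autGroup R | ∃ k : ℕ, b ^ p ^ k = 1} ≤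
      cgSub F E R hRS := by
    unfold Subgroup.normalClosure
    rw [Subgroup.closure_le]
    intro b hb
    obtain ⟨b', ⟨k, hk⟩, hconj⟩ := Group.mem_conjugatesOfSet_iff.1 hb
    obtain ⟨c, hc⟩ := _root_.isConj_iff.1 hconj
    refine hpel b ⟨k, ?_⟩
    rw [← hc, conj_pow, hk]; simp
  have hP₀Y : (P₀ : Subgroup (E.autGroup R)) ≤
      Subgroup.normalClosure {b : E.autGroup R | ∃ k : ℕ, b ^ p ^ k = 1} := by
    intro b hb
    apply Subgroup.subset_normalClosure
    obtain ⟨k, hk⟩ := P₀.isPGroup' ⟨b, hb⟩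
    exact ⟨k, by simpa using congrArg Subtype.val hk⟩
  have hNle : Subgroup.normalizer ((P₀ : Subgroup (E.autGroup R)) : Set (E.autGroup R)) ≤
      cgSub F E R hRS := by
    intro ν hν
    obtain ⟨k, m, hmp, h1, h2, u, v, huv⟩ := pow_split p ν
    rw [huv]
    refine Subgroup.mul_mem _ (Subgroup.zpow_mem _ ?_ u) (Subgroup.zpow_mem _ (hpel _ ⟨k, h2⟩) v)
    have hν₁N : ν ^ p ^ k ∈
        Subgroup.normalizer ((P₀ : Subgroup (E.autGroup R)) : Set (E.autGroup R)) :=
      Subgroup.pow_mem _ hν _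
    obtain ⟨ν₁, hν₁def⟩ : ∃ ν₁ : E.autGroup R, ν₁ = ν ^ p ^ k := ⟨_, rfl⟩
    rw [← hν₁def] at h1 hν₁N ⊢
    have hν₁m : (ν₁ : MulAut R) ^ m = 1 := by
      have := congrArg Subtype.val h1
      simpa using this
    refine cgood_of_normalizes hS hF hEs hinv hRc hRne ν₁.2 hν₁m hmp (fun t ht => ?_) IH
    obtain ⟨κ, hκE, hκT, hκv⟩ := exists_aut_conj E hRT ht
    have hκP : (⟨κ, hκE⟩ : E.autGroup R) ∈ (P₀ : Subgroup (E.autGroup R)) := by
      rw [hP₀]; exact Subgroup.mem_subgroupOf.2 hκT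
    have h3 := (Subgroup.mem_normalizer_iff.1 hν₁N ⟨κ, hκE⟩).1 hκP
    rw [hP₀, Subgroup.mem_subgroupOf] at h3
    have h3' : (ν₁ : MulAut R) * κ * (ν₁ : MulAut R)⁻¹ ∈ autInducedBy T R := h3
    obtain ⟨t', ht', h4⟩ := (Helper88.mem_autInducedBy_iff T R _).1 h3'
    refine ⟨t', ht', fun x hx => ?_⟩
    have hy : autFun (ν₁ : MulAut R) x ∈ R := autFun_mem _ hx
    have h5 : autFun ((ν₁ : MulAut R) * κ * (ν₁ : MulAut R)⁻¹) (autFun (ν₁ : MulAut R) x) =
        t' * autFun (ν₁ : MulAut R) x * t'⁻¹ := by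
      rw [autFun_apply' _ hy]; exact h4 ⟨_, hy⟩
    rw [autFun_mul _ _ hy, autFun_inv_apply (ν₁ : MulAut R) hx, autFun_mul _ _ hx, hκv x hx] at h5
    exact h5
  have htop : cgSub F E R hRS = ⊤ := by
    apply top_le_iff.1
    rw [← Sylow.normalizer_sup_eq_top' P₀ hP₀Y]
    exact sup_le hNle hYle
  intro a ha
  have h : (⟨a, ha⟩ : E.autGroup R) ∈ cgSub F E R hRS := by rw [htop]; exact Subgroup.mem_top _
  exact h

/-- for a normal subsystem `E` of `F`: every automorphism in `E` of an `E`-centric subgroup `R`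
fully automized and receptive in `F` extends to a map of `F` on `C_S(R) R` moving the elements of
`C_S(R)` by elements of `R` -/
theorem cgood_all [Finite S] {p : ℕ} [Fact p.Prime] (hS : IsPGroup p S) {F : FusionSystem S}
    {T : Subgroup Ω} {E : FusionSystem T} (hE : E.IsNormalIn F p) (R : Subgroup Ω)
    (hRc : E.IsCentric R) (hfa : F.IsFullyAutomized p R) (hrec : F.IsReceptive R) :
    ∀ a ∈ E.autGroup R, CGood F R (autFun a) := by
  have hEs := hE.1.1
  have hF := hE.1.2.1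
  have hinv := hE.1.2.2
  have hTS : T ≤ S := hinv.2.1.1
  have hfinT : Finite T := finite_of_le hTS
  have key : ∀ d : ℕ, ∀ R : Subgroup Ω, Nat.card T - Nat.card R ≤ d → E.IsCentric R →
      F.IsFullyAutomized p R → F.IsReceptive R → ∀ a ∈ E.autGroup R, CGood F R (autFun a) := by
    intro d
    induction d with
    | zero =>
      intro R hd hRc hfa hrec a ha
      have hRT : R = T := Subgroup.eq_of_le_of_card_ge hRc.1 (by omega)
      exact cgood_top' hE hRT ha
    | succ d ih =>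
      intro R hd hRc hfa hrec
      by_cases hRT : R = T
      · intro a ha
        exact cgood_top' hE hRT ha
      · refine cgood_step hS hF hEs hinv hRc hfa hrec hRT (fun R₂ hR₂c hfa₂ hrec₂ hcard => ?_)
        have hle : Nat.card R₂ ≤ Nat.card T := Subgroup.card_le_of_le hR₂c.1
        exact ih R₂ (by omega) hR₂c hfa₂ hrec₂
  exact key _ R le_rfl hRc hfa hrec

end Cfsg.Agent.Helper85
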