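import Cfsg.Agent.Helper85.CsG
import Cfsg.Agent.Helper88.FusionCenter
import Cfsg.Agent.Helper88.FusionAlperin

set_option autoImplicit false
set_option maxHeartbeats 1000000
open Cfsg

namespace Cfsg.Agent.Helper85

open Cfsg.FusionSystem
open Cfsg.Agent.Helper88

variable {Ω : Type*} [Group Ω] {S : Subgroup Ω}

theorem isMap_map_zpow {F : FusionSystem S} {P : Subgroup Ω} {f : Ω → Ω} (hf : IsMap F P f) {x : Ω}
    (hx : x ∈ P) (n : ℤ) : f (x ^ n) = f x ^ n := by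
  obtain ⟨φ, -, hφf⟩ := hf
  have h1 : φ (⟨x, hx⟩ ^ n) = (φ ⟨x, hx⟩) ^ n := map_zpow φ _ n
  have h2 := hφf (⟨x, hx⟩ ^ n)
  rw [h1, hφf ⟨x, hx⟩] at h2
  have h3 : (((⟨x, hx⟩ : P) ^ n : P) : Ω) = x ^ n := Subgroup.coe_zpow _ _ _
  rw [h3] at h2
  exact h2.symm

theorem isMap_eqOn_zpowers {F : FusionSystem S} {P : Subgroup Ω} {f h : Ω → Ω} (hf : IsMap F P f)
    (hh : IsMap F P h) {g : Ω} (hg : g ∈ P) (hfg : f g = h g) :
    ∀ w ∈ Subgroup.zpowers g, f w = h w := by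
  intro w hw
  obtain ⟨n, rfl⟩ := Subgroup.mem_zpowers_iff.1 hw
  rw [isMap_map_zpow hf hg n, isMap_map_zpow hh hg n, hfg]

/-- a subgroup of a finite group containing a Sylow `p`-subgroup and all `p'`-elements is the
whole group -/
theorem sup_pprime_sylow_eq_top {A : Type*} [Group A] [Finite A] (p : ℕ) [Fact p.Prime]
    (P₀ : Sylow p A) (H : Subgroup A) (hP : (P₀ : Subgroup A) ≤ H)
    (hH : ∀ b : A, ∀ m : ℕ, m.Coprime p → b ^ m = 1 → b ∈ H) : H = ⊤ := by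
  have hp : p.Prime := Fact.out
  rw [← Subgroup.index_eq_one, Nat.eq_one_iff_not_exists_prime_dvd]
  intro q hq hdvd
  by_cases hqp : q = p
  · rw [hqp] at hdvd
    exact P₀.not_dvd_index (dvd_trans hdvd (Subgroup.index_dvd_of_le hP))
  · haveI : Fact q.Prime := ⟨hq⟩
    obtain ⟨Q⟩ : Nonempty (Sylow q A) := inferInstance
    have hQ : (Q : Subgroup A) ≤ H := by
      intro b hb
      obtain ⟨j, hj⟩ := Q.isPGroup' ⟨b, hb⟩
      have hj' : b ^ q ^ j = 1 := by simpa using congrArg Subtype.val hj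
      exact hH b (q ^ j) (Nat.Coprime.pow_left j ((Nat.coprime_primes hq hp).2 hqp)) hj'
    exact Q.not_dvd_index (dvd_trans hdvd (Subgroup.index_dvd_of_le hQ))

/-! ### Extensions fixing a focal element of the centralizer system -/

/-- `g` is a generator of the focal subgroup of `C_F(T)` -/
def IsFocalGen (F : FusionSystem S) (T : Subgroup Ω) (g : Ω) : Prop :=
  ∃ (P₀ : Subgroup Ω) (f₀ : Ω → Ω) (y₀ : Ω), IsCMap F T P₀ f₀ ∧ y₀ ∈ P₀ ∧ g = y₀⁻¹ * f₀ y₀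

theorem IsFocalGen.mem_centralizerIn {F : FusionSystem S} {T : Subgroup Ω} {g : Ω}
    (h : IsFocalGen F T g) : g ∈ centralizerIn S T := by
  obtain ⟨P₀, f₀, y₀, hf₀, hy₀, rfl⟩ := h
  exact Subgroup.mul_mem _ (Subgroup.inv_mem _ (hf₀.2.1 hy₀)) (hf₀.2.2.1 y₀ hy₀)

/-- `f` on `P` extends to a map of `F` on `P ⊔ ⟨g⟩` fixing `g` -/
def FixG (F : FusionSystem S) (g : Ω) (P : Subgroup Ω) (f : Ω → Ω) : Prop :=
  ∃ f', IsMap F (P ⊔ Subgroup.zpowers g) f' ∧ (∀ x ∈ P, f' x = f x) ∧ f' g = g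

theorem FixG.congr {F : FusionSystem S} {g : Ω} {P : Subgroup Ω} {f h : Ω → Ω}
    (hf : FixG F g P f) (hh : ∀ x ∈ P, h x = f x) : FixG F g P h := by
  obtain ⟨f', hf', h1, h2⟩ := hf
  exact ⟨f', hf', fun x hx => (h1 x hx).trans (hh x hx).symm, h2⟩

theorem FixG.restrict {F : FusionSystem S} {g : Ω} {P Q : Subgroup Ω} {f : Ω → Ω}
    (hf : FixG F g Q f) (hPQ : P ≤ Q) : FixG F g P f := by
  obtain ⟨f', hf', h1, h2⟩ := hf
  exact ⟨f', hf'.restrict (sup_le_sup_right hPQ _), fun x hx => h1 x (hPQ hx), h2⟩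

theorem FixG.comp {F : FusionSystem S} {g : Ω} {P Q : Subgroup Ω} {f h : Ω → Ω}
    (hf : FixG F g P f) (hh : FixG F g Q h) (hPQ : ∀ x ∈ P, f x ∈ Q) : FixG F g P (h ∘ f) := by
  obtain ⟨f', hf', hf1, hf2⟩ := hf
  obtain ⟨h', hh', hh1, hh2⟩ := hh
  have hfix := hf'.fix_zpowers (Subgroup.mem_sup_right (Subgroup.mem_zpowers g)) hf2
  have hmaps : ∀ x ∈ P ⊔ Subgroup.zpowers g, f' x ∈ Q ⊔ Subgroup.zpowers g :=
    hf'.mapsTo_sup (fun x hx => by rw [hf1 x hx]; exact Subgroup.mem_sup_left (hPQ x hx))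
      (fun w hw => by rw [hfix w hw]; exact Subgroup.mem_sup_right hw)
  refine ⟨h' ∘ f', hf'.comp hh' hmaps, fun x hx => ?_, ?_⟩
  · show h' (f' x) = h (f x)
    rw [hf1 x hx, hh1 _ (hPQ x hx)]
  · show h' (f' g) = g
    rw [hf2, hh2]

theorem fixG_one (F : FusionSystem S) {g : Ω} (hg : g ∈ S) {R : Subgroup Ω} (hRS : R ≤ S) :
    FixG F g R (autFun (1 : MulAut R)) :=
  ⟨id, isMap_id F (sup_le hRS (Subgroup.zpowers_le.2 hg)), fun _ hx => (autFun_one hx).symm, rfl⟩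

theorem FixG.aut_mul {F : FusionSystem S} {g : Ω} {R : Subgroup Ω} {a b : MulAut R}
    (ha : FixG F g R (autFun a)) (hb : FixG F g R (autFun b)) : FixG F g R (autFun (a * b)) :=
  FixG.congr (FixG.comp hb ha (fun x hx => autFun_mem b hx)) (fun x hx => autFun_mul a b hx)

theorem FixG.aut_pow {F : FusionSystem S} {g : Ω} (hg : g ∈ S) {R : Subgroup Ω} (hRS : R ≤ S)
    {a : MulAut R} (h : FixG F g R (autFun a)) (k : ℕ) : FixG F g R (autFun (a ^ k)) := by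
  induction k with
  | zero => rw [pow_zero]; exact fixG_one F hg hRS
  | succ k ih => rw [pow_succ]; exact FixG.aut_mul ih h

theorem FixG.aut_inv [Finite S] {F : FusionSystem S} {g : Ω} (hg : g ∈ S) {R : Subgroup Ω}
    (hRS : R ≤ S) {a : MulAut R} (h : FixG F g R (autFun a)) : FixG F g R (autFun a⁻¹) := by
  have hfin : Finite R := Helper88.finite_of_le hRS
  have h1 := FixG.aut_pow hg hRS h (orderOf a - 1)
  have hpos : 0 < orderOf a := orderOf_pos a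
  have h2 : a ^ (orderOf a - 1) = a⁻¹ := by
    apply eq_inv_of_mul_eq_one_left
    rw [← pow_succ, Nat.sub_add_cancel hpos, pow_orderOf_eq_one]
  rwa [h2] at h1

/-- the automorphisms in `Aut_E(R)` with an extension fixing `g` -/
def fixSub [Finite S] (F : FusionSystem S) {T : Subgroup Ω} (E : FusionSystem T) (g : Ω)
    (hg : g ∈ S) (R : Subgroup Ω) (hRS : R ≤ S) : Subgroup (E.autGroup R) where
  carrier := {a | FixG F g R (autFun (a : MulAut R))}
  one_mem' := fixG_one F hg hRS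
  mul_mem' := fun ha hb => FixG.aut_mul ha hb
  inv_mem' := fun ha => FixG.aut_inv hg hRS ha

/-- `p'`-automorphisms in `E` of `E`-centric subgroups have extensions fixing the focal generator -/
theorem fixG_pprime [Finite S] {p : ℕ} [Fact p.Prime] (hS : IsPGroup p S) {F : FusionSystem S}
    {T : Subgroup Ω} {E : FusionSystem T} (hE : E.IsNormalIn F p) {g : Ω} (hg : IsFocalGen F T g)
    {R : Subgroup Ω} (hRc : E.IsCentric R) {a : MulAut R} (ha : a ∈ E.autGroup R) {m : ℕ}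
    (ham : a ^ m = 1) (hmp : m.Coprime p) : FixG F g R (autFun a) := by
  have hEs := hE.1.1
  have hF := hE.1.2.1
  have hinv := hE.1.2.2
  have hT := hinv.2.1
  have hTS : T ≤ S := hT.1
  have hfinT : Finite T := finite_of_le hTS
  have hRT : R ≤ T := hRc.1
  have hRS : R ≤ S := hRT.trans hTS
  have hgC := hg.mem_centralizerIn
  obtain ⟨P₀, f₀, y₀, hf₀, hy₀, rfl⟩ := hg
  obtain ⟨hf₀m, hP₀C, hf₀C, f₀', hf₀', hf₀'P, hf₀'T⟩ := hf₀
  have hCTR : centralizerIn S T ≤ centralizerIn S R := fun c hc =>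
    mem_centralizerIn_iff.2 ⟨(mem_centralizerIn_iff.1 hc).1, fun y hy =>
      (mem_centralizerIn_iff.1 hc).2 y (hRT hy)⟩
  have hCD : centralizerIn S R ≤ normalizerIn S R := centralizerIn_le_normalizerIn S R
  have hRD : R ≤ normalizerIn S R := le_normalizerIn hRS
  obtain ⟨R', hconj, hfa', hrec'⟩ := hF R hRS
  obtain ⟨χ, hχ, hχimg⟩ := Helper88.exists_normalizer_map hS hfa' hrec' hconj
  subst hχimg
  obtain ⟨χi, hχi, hχi1, hχi2, -⟩ := hχ.exists_inv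
  have hχR : IsMap F R χ := hχ.restrict hRD
  have hR'c : E.IsCentric (img R χ) := isCentric_img_of_invariant hinv hRc hχR
  have hgv : ∀ r ∈ R, (χ ∘ (autFun a ∘ χi)) (χ r) = χ (autFun a r) := fun r hr => by
    show χ (autFun a (χi (χ r))) = χ (autFun a r)
    rw [hχi1 r (hRD hr)]
  have ham' : IsMap E R (autFun a) := IsMap.of_mem_autGroup hRT ha
  have hga : IsMap E (img R χ) (χ ∘ (autFun a ∘ χi)) :=
    invariant_isMap hS hF hinv le_rfl hRT ham' (fun x hx => autFun_mem a hx) hχR hgv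
  have hgamaps : ∀ v ∈ img R χ, (χ ∘ (autFun a ∘ χi)) v ∈ img R χ := by
    intro v hv
    obtain ⟨r, hr, rfl⟩ := hχR.mem_img.1 hv
    rw [hgv r hr]; exact hχR.apply_mem_img (autFun_mem a hr)
  obtain ⟨a', ha', ha'v⟩ := hga.exists_aut (hga.img_eq_of_mapsTo hgamaps)
  have ha'χ : ∀ r ∈ R, autFun a' (χ r) = χ (autFun a r) := fun r hr => by
    rw [ha'v _ (hχR.apply_mem_img hr), hgv r hr]
  have ha'pow : ∀ j : ℕ, ∀ r ∈ R, autFun (a' ^ j) (χ r) = χ (autFun (a ^ j) r) := by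
    intro j
    induction j with
    | zero =>
      intro r hr
      rw [pow_zero, pow_zero, autFun_one hr, autFun_one (hχR.apply_mem_img hr)]
    | succ j ih =>
      intro r hr
      rw [pow_succ, pow_succ, autFun_mul _ _ (hχR.apply_mem_img hr), ha'χ r hr,
        ih _ (autFun_mem a hr), autFun_mul _ _ hr]
  have ha'm : a' ^ m = 1 := by
    apply autFun_ext
    intro v hv
    obtain ⟨r, hr, rfl⟩ := hχR.mem_img.1 hv
    rw [ha'pow m r hr, ham, autFun_one hr, autFun_one (hχR.apply_mem_img hr)]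
  have hgood : CGood F (img R χ) (autFun a') := cgood_all hS hE _ hR'c hfa' hrec' a' ha'
  obtain ⟨φ', hφ', hφ'R, -, hφ'fix⟩ := cgood_fix_focal hS hF hrec' hgood ha'm hmp
  -- the transported focal data
  have hP₀D : P₀ ≤ normalizerIn S R := hP₀C.trans (hCTR.trans hCD)
  have hP₀RD : P₀ ⊔ R ≤ normalizerIn S R := sup_le hP₀D hRD
  have hχP₀ : IsMap F P₀ χ := hχ.restrict hP₀D
  have hf₀'R : IsMap F (P₀ ⊔ R) f₀' := hf₀'.restrict (sup_le_sup_left hRT P₀)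
  have hf₀'maps : ∀ q ∈ P₀ ⊔ R, f₀' q ∈ normalizerIn S R :=
    hf₀'R.mapsTo_sup (fun q hq => by rw [hf₀'P q hq]; exact hCD (hCTR (hf₀C q hq)))
      (fun r hr => by rw [hf₀'T r (hRT hr)]; exact hRD hr)
  have hχPR : IsMap F (P₀ ⊔ R) χ := hχ.restrict hP₀RD
  have himgPR : img (P₀ ⊔ R) χ = img P₀ χ ⊔ img R χ := hχPR.img_sup
  have h1maps : ∀ y ∈ img (P₀ ⊔ R) χ, χi y ∈ P₀ ⊔ R := by
    intro y hy
    obtain ⟨q, hq, rfl⟩ := hχPR.mem_img.1 hy
    rw [hχi1 q (hP₀RD hq)]; exact hq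
  have hext : IsMap F (img (P₀ ⊔ R) χ) (χ ∘ (f₀' ∘ χi)) :=
    ((hχi.restrict (hχ.img_restrict_le hP₀RD)).comp hf₀'R h1maps).comp hχ
      (fun y hy => hf₀'maps _ (h1maps y hy))
  have hextv : ∀ q ∈ P₀ ⊔ R, (χ ∘ (f₀' ∘ χi)) (χ q) = χ (f₀' q) := fun q hq => by
    show χ (f₀' (χi (χ q))) = χ (f₀' q)
    rw [hχi1 q (hP₀RD hq)]
  have hval : ∀ q ∈ P₀, (χ ∘ (f₀ ∘ χi)) (χ q) = χ (f₀ q) := fun q hq => by
    show χ (f₀ (χi (χ q))) = χ (f₀ q)
    rw [hχi1 q (hP₀D hq)]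
  have hCimg : img (centralizerIn S R) χ ≤ centralizerIn S (img R χ) :=
    img_centralizerIn_le hχ hRD hCD
  have hχCR : IsMap F (centralizerIn S R) χ := hχ.restrict hCD
  have hcm : IsCMap F (img R χ) (img P₀ χ) (χ ∘ (f₀ ∘ χi)) := by
    have hle : img P₀ χ ≤ img (P₀ ⊔ R) χ := hχPR.img_restrict_le le_sup_left
    refine ⟨?_, ?_, ?_, χ ∘ (f₀' ∘ χi), ?_, ?_, ?_⟩
    · refine (hext.restrict hle).congr (fun y hy => ?_)
      obtain ⟨q, hq, rfl⟩ := hχP₀.mem_img.1 hy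
      rw [hval q hq, hextv q (Subgroup.mem_sup_left hq), hf₀'P q hq]
    · intro y hy
      obtain ⟨q, hq, rfl⟩ := hχP₀.mem_img.1 hy
      exact hCimg (hχCR.apply_mem_img (hCTR (hP₀C hq)))
    · intro y hy
      obtain ⟨q, hq, rfl⟩ := hχP₀.mem_img.1 hy
      rw [hval q hq]
      exact hCimg (hχCR.apply_mem_img (hCTR (hf₀C q hq)))
    · rw [← himgPR]; exact hext
    · intro y hy
      obtain ⟨q, hq, rfl⟩ := hχP₀.mem_img.1 hy
      rw [hval q hq, hextv q (Subgroup.mem_sup_left hq), hf₀'P q hq]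
    · intro z hz
      obtain ⟨r, hr, rfl⟩ := hχR.mem_img.1 hz
      rw [hextv r (Subgroup.mem_sup_right hr), hf₀'T r (hRT hr)]
  have hfixχg : φ' (χ (y₀⁻¹ * f₀ y₀)) = χ (y₀⁻¹ * f₀ y₀) := by
    have h := hφ'fix _ _ hcm (χ y₀) (hχP₀.apply_mem_img hy₀)
    have e : (χ y₀)⁻¹ * (χ ∘ (f₀ ∘ χi)) (χ y₀) = χ (y₀⁻¹ * f₀ y₀) := by
      rw [hval y₀ hy₀, hχ.map_mul (Subgroup.inv_mem _ (hP₀D hy₀)) (hCD (hCTR (hf₀C y₀ hy₀))),
        hχ.map_inv (hP₀D hy₀)]
    rwa [e] at h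
  have hgD : y₀⁻¹ * f₀ y₀ ∈ normalizerIn S R := hCD (hCTR hgC)
  have hZD : R ⊔ Subgroup.zpowers (y₀⁻¹ * f₀ y₀) ≤ normalizerIn S R :=
    sup_le hRD (Subgroup.zpowers_le.2 hgD)
  have hχZ : IsMap F (R ⊔ Subgroup.zpowers (y₀⁻¹ * f₀ y₀)) χ := hχ.restrict hZD
  have hχZmaps : ∀ q ∈ R ⊔ Subgroup.zpowers (y₀⁻¹ * f₀ y₀),
      χ q ∈ centralizerIn S (img R χ) ⊔ img R χ :=
    hχZ.mapsTo_sup (fun r hr => Subgroup.mem_sup_right (hχR.apply_mem_img hr))
      (fun w hw => Subgroup.mem_sup_left (hCimg (hχCR.apply_mem_img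
        ((Subgroup.zpowers_le.2 (hCTR hgC)) hw))))
  have h1 : IsMap F (R ⊔ Subgroup.zpowers (y₀⁻¹ * f₀ y₀)) (φ' ∘ χ) := hχZ.comp hφ' hχZmaps
  have hgZ : y₀⁻¹ * f₀ y₀ ∈ R ⊔ Subgroup.zpowers (y₀⁻¹ * f₀ y₀) :=
    Subgroup.mem_sup_right (Subgroup.mem_zpowers _)
  have heq : ∀ w ∈ Subgroup.zpowers (y₀⁻¹ * f₀ y₀), (φ' ∘ χ) w = χ w :=
    isMap_eqOn_zpowers h1 hχZ hgZ hfixχg
  have h1maps' : ∀ q ∈ R ⊔ Subgroup.zpowers (y₀⁻¹ * f₀ y₀),
      (φ' ∘ χ) q ∈ img (normalizerIn S R) χ :=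
    h1.mapsTo_sup
      (fun r hr => by
        show φ' (χ r) ∈ _
        rw [hφ'R _ (hχR.apply_mem_img hr), ha'χ r hr]
        exact hχ.apply_mem_img (hRD (autFun_mem a hr)))
      (fun w hw => by
        rw [heq w hw]; exact hχ.apply_mem_img (hZD (Subgroup.mem_sup_right hw)))
  refine ⟨χi ∘ (φ' ∘ χ), h1.comp hχi h1maps', fun r hr => ?_, ?_⟩
  · show χi (φ' (χ r)) = autFun a r
    rw [hφ'R _ (hχR.apply_mem_img hr), ha'χ r hr, hχi1 _ (hRD (autFun_mem a hr))]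
  · show χi (φ' (χ (y₀⁻¹ * f₀ y₀))) = y₀⁻¹ * f₀ y₀
    rw [hfixχg, hχi1 _ hgD]

/-- automorphisms in `E` of `E`-centric subgroups fully automized in `E` have extensions fixing
the focal generator -/
theorem fixG_aut [Finite S] {p : ℕ} [Fact p.Prime] (hS : IsPGroup p S) {F : FusionSystem S}
    {T : Subgroup Ω} {E : FusionSystem T} (hE : E.IsNormalIn F p) {g : Ω} (hg : IsFocalGen F T g)
    {R : Subgroup Ω} (hRc : E.IsCentric R) (hRa : E.IsFullyAutomized p R) :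
    ∀ a ∈ E.autGroup R, FixG F g R (autFun a) := by
  have hinv := hE.1.2.2
  have hTS : T ≤ S := hinv.2.1.1
  have hfinT : Finite T := finite_of_le hTS
  have hRT : R ≤ T := hRc.1
  have hRS : R ≤ S := hRT.trans hTS
  have hfinR : Finite R := finite_of_le hRS
  have hgC : g ∈ centralizerIn S T := hg.mem_centralizerIn
  have hgS : g ∈ S := (mem_centralizerIn_iff.1 hgC).1
  obtain ⟨P₀, hP₀⟩ := hRa.2
  have htop : fixSub F E g hgS R hRS = ⊤ := by
    refine sup_pprime_sylow_eq_top p P₀ _ ?_ ?_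
    · intro b hb
      rw [hP₀, Subgroup.mem_subgroupOf] at hb
      obtain ⟨t, ht, hbt⟩ := (Helper88.mem_autInducedBy_iff T R _).1 hb
      show FixG F g R (autFun (b : MulAut R))
      refine ⟨fun x => t * x * t⁻¹, isMap_conj F (sup_le hRS (Subgroup.zpowers_le.2 hgS)) (hTS ht),
        fun x hx => ?_, ?_⟩
      · rw [autFun_apply' _ hx]; exact (hbt ⟨x, hx⟩).symm
      · have h := (mem_centralizerIn_iff.1 hgC).2 t ht
        show t * g * t⁻¹ = g
        rw [h]; group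
    · intro b m hmp hbm
      have hbm' : (b : MulAut R) ^ m = 1 := by simpa using congrArg Subtype.val hbm
      exact fixG_pprime hS hE hg hRc b.2 hbm' hmp
  intro a ha
  have h : (⟨a, ha⟩ : E.autGroup R) ∈ fixSub F E g hgS R hRS := by
    rw [htop]; exact Subgroup.mem_top _
  exact h

/-- every map of the normal subsystem `E` extends to a map of `F` fixing the focal generator `g`
of the centralizer system `C_F(T)` -/
theorem fixG_all [Finite S] {p : ℕ} [Fact p.Prime] (hS : IsPGroup p S) {F : FusionSystem S}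
    {T : Subgroup Ω} {E : FusionSystem T} (hE : E.IsNormalIn F p) {g : Ω} (hg : IsFocalGen F T g)
    {P : Subgroup Ω} {f : Ω → Ω} (hf : IsMap E P f) : FixG F g P f := by
  have hEs := hE.1.1
  have hinv := hE.1.2.2
  have hTS : T ≤ S := hinv.2.1.1
  have hfinT : Finite T := finite_of_le hTS
  have hTp : IsPGroup p T := hS.to_le hTS
  exact alperin_induction hTp hEs (fun P f => FixG F g P f)
    (fun R hRa _ hRc _ α hα P hPR => FixG.restrict (fixG_aut hS hE hg hRc hRa α hα) hPR)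
    (fun P Q f h _ _ hf hh hPQ => FixG.comp hf hh hPQ)
    (fun P f h _ hf hh => FixG.congr hf hh) hf

end Cfsg.Agent.Helper85
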