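import Mathlib
import Cfsg.Prelude.Def_GeometricClasses
import Cfsg.Prelude.Def_Classical
import Cfsg.Agent.Helper98.ELPDefs

set_option autoImplicit false

/-!
# Sub-CALL ELP (helper98), piece GEN (double, self-contained): every Siegel element lies in `Ω`
when `card n ≥ 3`.  The dependencies (APP, SIEGISO, LEVIISO, CONJ, COMM, SINGLE) are proved inline
under the names `elpgen_*`.
-/

namespace Cfsg.Agent.Helper85.ELPGEN

open Matrix Cfsg.Agent.Helper98.ELP
open scoped MatrixGroups
open scoped commutatorElement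

variable {n : Type} [Fintype n] [DecidableEq n] {F : Type*} [Field F]

theorem elpgen_app_inl (T : Matrix n n F) (v : n ⊕ n → F) (i : n) :
    (siegM T *ᵥ v) (.inl i) = v (.inl i) + ((T - Tᵀ) *ᵥ (fun j => v (.inr j))) i := by
  have hv : v = Sum.elim (fun j => v (.inl j)) (fun j => v (.inr j)) := by
    funext x; cases x <;> rfl
  rw [siegM]
  conv_lhs => rw [hv]
  rw [Matrix.fromBlocks_mulVec]
  simp

theorem elpgen_app_inr (T : Matrix n n F) (v : n ⊕ n → F) (i : n) :
    (siegM T *ᵥ v) (.inr i) = v (.inr i) := by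
  have hv : v = Sum.elim (fun j => v (.inl j)) (fun j => v (.inr j)) := by
    funext x; cases x <;> rfl
  rw [siegM]
  conv_lhs => rw [hv]
  rw [Matrix.fromBlocks_mulVec]
  simp

theorem elpgen_sieg_iso (T : Matrix n n F) : sieg T ∈ Cfsg.isometryGroup F (qp n F) := by
  refine fun u v => ?_
  show qp n F (siegM T *ᵥ u) = qp n F u
  unfold qp
  simp only [elpgen_app_inl, elpgen_app_inr]
  set u' : n → F := fun j => u (.inr j) with hu'
  have key : ((T - Tᵀ) *ᵥ u') ⬝ᵥ u' = 0 := by
    rw [Matrix.sub_mulVec, sub_dotProduct, Matrix.mulVec_transpose, ← Matrix.dotProduct_mulVec,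
      dotProduct_comm u' (T *ᵥ u'), sub_self]
  have : ∑ i, (u (.inl i) + ((T - Tᵀ) *ᵥ u') i) * u (.inr i)
      = ∑ i, u (.inl i) * u (.inr i) + ((T - Tᵀ) *ᵥ u') ⬝ᵥ u' := by
    rw [dotProduct, ← Finset.sum_add_distrib]
    exact Finset.sum_congr rfl (fun i _ => by rw [add_mul])
  rw [this, key, add_zero]

theorem elpgen_levi_iso (A : GL n F) : levi A ∈ Cfsg.isometryGroup F (qp n F) := by
  refine fun u v => ?_
  show qp n F ((levi A : Matrix (n ⊕ n) (n ⊕ n) F) *ᵥ u) = qp n F u
  rw [levi_coe]
  have hv : u = Sum.elim (fun j => u (.inl j)) (fun j => u (.inr j)) := by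
    funext x; cases x <;> rfl
  set a : n → F := fun j => u (.inl j) with ha
  set b : n → F := fun j => u (.inr j) with hb
  have e1 : qp n F u = a ⬝ᵥ b := rfl
  have e2 : qp n F (Matrix.fromBlocks (A : Matrix n n F) 0 0
      ((A⁻¹ : GL n F) : Matrix n n F)ᵀ *ᵥ u)
      = ((A : Matrix n n F) *ᵥ a) ⬝ᵥ ((((A⁻¹ : GL n F) : Matrix n n F))ᵀ *ᵥ b) := by
    conv_lhs => rw [hv]
    rw [Matrix.fromBlocks_mulVec]
    unfold qp
    simp [dotProduct]
  rw [e1, e2, Matrix.mulVec_transpose, dotProduct_comm, ← Matrix.dotProduct_mulVec,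
    Matrix.mulVec_mulVec, ← Units.val_mul, inv_mul_cancel, Units.val_one, Matrix.one_mulVec,
    dotProduct_comm]

theorem elpgen_conj (A : GL n F) (T : Matrix n n F) :
    levi A * sieg T * (levi A)⁻¹ = sieg ((A : Matrix n n F) * T * (A : Matrix n n F)ᵀ) := by
  apply Units.ext
  rw [Units.val_mul, Units.val_mul, levi_coe, levi_inv_coe, sieg_coe, sieg_coe]
  have h1 : (A : Matrix n n F) * ((A⁻¹ : GL n F) : Matrix n n F) = 1 := by
    rw [← Units.val_mul, mul_inv_cancel, Units.val_one]
  have h2 : (((A⁻¹ : GL n F) : Matrix n n F))ᵀ * (A : Matrix n n F)ᵀ = 1 := by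
    rw [← Matrix.transpose_mul, h1, Matrix.transpose_one]
  simp only [siegM, Matrix.fromBlocks_multiply, Matrix.mul_zero, Matrix.zero_mul, add_zero,
    zero_add, Matrix.mul_one, h1, h2]
  congr 1
  simp only [Matrix.transpose_mul, Matrix.transpose_transpose, Matrix.mul_sub, Matrix.sub_mul,
    Matrix.mul_assoc]

theorem elpgen_comm (A : GL n F) (T : Matrix n n F) :
    sieg ((A : Matrix n n F) * T * (A : Matrix n n F)ᵀ - T) ∈ Cfsg.Geo.omegaGL (qp n F) := by
  refine ⟨⁅(⟨levi A, elpgen_levi_iso A⟩ : Cfsg.isometryGroup F (qp n F)),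
    (⟨sieg T, elpgen_sieg_iso T⟩ : Cfsg.isometryGroup F (qp n F))⁆, ?_, ?_⟩
  · exact Subgroup.commutator_mem_commutator (Subgroup.mem_top _) (Subgroup.mem_top _)
  · show ((⁅(⟨levi A, elpgen_levi_iso A⟩ : Cfsg.isometryGroup F (qp n F)),
      (⟨sieg T, elpgen_sieg_iso T⟩ : Cfsg.isometryGroup F (qp n F))⁆ :
        Cfsg.isometryGroup F (qp n F)) : GL (n ⊕ n) F) = _
    rw [commutatorElement_def]
    show levi A * sieg T * (levi A)⁻¹ * (sieg T)⁻¹ = _
    rw [elpgen_conj, sieg_inv, sieg_mul, sub_eq_add_neg]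

theorem elpgen_single (a b c : n) (hab : a ≠ b) (hbc : b ≠ c) (l : F) :
    ∃ A : GL n F, (A : Matrix n n F) * Matrix.single b c (1 : F) * (A : Matrix n n F)ᵀ
      - Matrix.single b c (1 : F) = Matrix.single a c l := by
  have hsq : Matrix.single a b l * Matrix.single a b l = (0 : Matrix n n F) :=
    Matrix.single_mul_single_of_ne l a b a (Ne.symm hab) l
  refine ⟨⟨1 + Matrix.single a b l, 1 - Matrix.single a b l, ?_, ?_⟩, ?_⟩
  · rw [add_mul, mul_sub, mul_sub, mul_one, one_mul, mul_one, hsq]; abel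
  · rw [sub_mul, mul_add, mul_add, mul_one, one_mul, mul_one, hsq]; abel
  · show (1 + Matrix.single a b l) * Matrix.single b c (1 : F) * (1 + Matrix.single a b l)ᵀ
      - Matrix.single b c (1 : F) = Matrix.single a c l
    have e1 : Matrix.single b c (1 : F) * Matrix.single b a l = (0 : Matrix n n F) :=
      Matrix.single_mul_single_of_ne (1 : F) b c b (Ne.symm hbc) l
    have e2 : Matrix.single a c l * Matrix.single b a l = (0 : Matrix n n F) :=
      Matrix.single_mul_single_of_ne l a c b (Ne.symm hbc) l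
    rw [Matrix.transpose_add, Matrix.transpose_one, Matrix.transpose_single, add_mul, one_mul,
      Matrix.single_mul_single_same, mul_one, mul_add, mul_one, add_mul, e1, e2]
    abel

/-- GEN [M]: every Siegel element lies in `Ω` when `card n ≥ 3`: `T = ∑ a, ∑ c, single a c (T a c)`
(`Matrix.matrix_eq_sum_single`); `sieg (single a a l) = 1` (`single a a l - (single a a l)ᵀ = 0`);
for `a ≠ c` pick `b ∉ {a, c}` and use SINGLE + COMM; sums by `sieg_mul` + `mul_mem`
(Finset induction, or the additive subgroup `{T | sieg T ∈ Ω}`). -/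
theorem sieg_mem_omega (h3 : 3 ≤ Fintype.card n) (T : Matrix n n F) :
    sieg T ∈ Cfsg.Geo.omegaGL (qp n F) := by
  -- the additive subgroup of all `T` with `sieg T ∈ Ω`
  let S : AddSubmonoid (Matrix n n F) :=
    { carrier := {T | sieg T ∈ Cfsg.Geo.omegaGL (qp n F)}
      add_mem' := by
        intro a b ha hb
        show sieg (a + b) ∈ Cfsg.Geo.omegaGL (qp n F)
        rw [← sieg_mul]
        exact mul_mem ha hb
      zero_mem' := by
        show sieg (0 : Matrix n n F) ∈ Cfsg.Geo.omegaGL (qp n F)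
        rw [sieg_zero]
        exact one_mem _ }
  have hsingle : ∀ (a c : n) (l : F), Matrix.single a c l ∈ S := by
    intro a c l
    show sieg (Matrix.single a c l) ∈ Cfsg.Geo.omegaGL (qp n F)
    by_cases hac : a = c
    · subst hac
      have : sieg (Matrix.single a a l) = (1 : GL (n ⊕ n) F) := by
        apply Units.ext
        rw [sieg_coe, siegM, Matrix.transpose_single, sub_self, Units.val_one,
          Matrix.fromBlocks_one]
      rw [this]
      exact one_mem _
    · obtain ⟨b, hb⟩ : ∃ b, b ∉ ({a, c} : Finset n) := by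
        by_contra h
        simp only [not_exists, not_not] at h
        have hsub : (Finset.univ : Finset n) ⊆ {a, c} := fun x _ => h x
        have h1 := Finset.card_le_card hsub
        have h2 : ({a, c} : Finset n).card ≤ 2 := Finset.card_le_two
        rw [Finset.card_univ] at h1
        omega
      have hba : a ≠ b := by
        intro h; apply hb; simp [h]
      have hbc : b ≠ c := by
        intro h; apply hb; simp [h]
      obtain ⟨A, hA⟩ := elpgen_single a b c hba hbc l
      have := elpgen_comm A (Matrix.single b c (1 : F))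
      rw [hA] at this
      exact this
  have hT : T ∈ S := by
    rw [Matrix.matrix_eq_sum_single T]
    refine AddSubmonoid.sum_mem _ (fun a _ => AddSubmonoid.sum_mem _ (fun c _ => hsingle a c _))
  exact hT

end Cfsg.Agent.Helper85.ELPGEN
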