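import Mathlib

set_option autoImplicit false

/-! CALL LM (helper21, row S4067), piece COUNT (double by helper85). -/

namespace Cfsg.Agent.Helper85.LM

/-- A non-central element has at least `p` conjugates, `p` the least prime divisor of `|G|`. -/
theorem lmcount_class_card {G : Type*} [Group G] [Finite G] (g : G)
    (hg : g ∉ Subgroup.center G) :
    (Nat.card G).minFac ≤ Set.ncard {h : G | IsConj g h} := by
  have hA : {h : G | IsConj g h} = MulAction.orbit (ConjAct G) g := by
    ext h
    rw [ConjAct.mem_orbit_conjAct]
    exact isConj_comm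
  rw [hA, ← MulAction.index_stabilizer]
  have hdvd : (MulAction.stabilizer (ConjAct G) g).index ∣ Nat.card (ConjAct G) :=
    Subgroup.index_dvd_card (MulAction.stabilizer (ConjAct G) g)
  have hne1 : (MulAction.stabilizer (ConjAct G) g).index ≠ 1 := by
    intro h
    rw [Subgroup.index_eq_one] at h
    apply hg
    rw [Subgroup.mem_center_iff]
    intro k
    have hk : ConjAct.toConjAct k ∈ MulAction.stabilizer (ConjAct G) g := by rw [h]; trivial
    rw [MulAction.mem_stabilizer_iff, ConjAct.toConjAct_smul] at hk
    calc k * g = k * g * k⁻¹ * k := by group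
      _ = g * k := by rw [hk]
  have hfin : Finite (ConjAct G) := inferInstanceAs (Finite G)
  have hne0 : (MulAction.stabilizer (ConjAct G) g).index ≠ 0 := Subgroup.index_ne_zero_of_finite
  exact Nat.minFac_le_of_dvd (by omega) hdvd

/-- An automorphism preserves non-centrality. -/
theorem lmcount_not_center {G : Type*} [Group G] (τ : MulAut G) (g : G)
    (hg : g ∉ Subgroup.center G) : τ g ∉ Subgroup.center G := by
  intro h
  apply hg
  rw [Subgroup.mem_center_iff] at h ⊢
  intro k
  apply τ.injective
  rw [map_mul, map_mul]
  exact h (τ k)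

theorem lm_count {G : Type*} [Group G] [Finite G] (hna : ¬ IsMulCommutative G)
    (σ : MulAut G) (M : Subgroup G) (hM : M.index = (Nat.card G).minFac)
    (hZM : Subgroup.center G ≤ M) (hσ : ∀ g : G, g ∉ M → ¬ IsConj g (σ g)) :
    Nat.card (MulAction.orbitRel.Quotient (MulAut G) G) ≤ Nat.card G / (Nat.card G).minFac := by
  classical
  let _ : Fintype G := Fintype.ofFinite G
  let _ : Fintype (MulAction.orbitRel.Quotient (MulAut G) G) := Fintype.ofFinite _
  have hn1 : Nat.card G ≠ 1 := by
    intro h
    apply hna
    have hs : Subsingleton G := (Nat.card_eq_one_iff_unique.mp h).1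
    exact ⟨⟨fun a b => Subsingleton.elim _ _⟩⟩
  have hp : (Nat.card G).minFac.Prime := Nat.minFac_prime hn1
  have hcls : ∀ g : G, g ∉ Subgroup.center G →
      (Nat.card G).minFac ≤ (Finset.univ.filter (fun h => IsConj g h)).card := by
    intro g hg
    have h1 := lmcount_class_card g hg
    have e : ((Finset.univ.filter (fun h => IsConj g h) : Finset G) : Set G)
        = {h : G | IsConj g h} := by ext; simp
    rw [← Set.ncard_coe_finset, e]
    exact h1
  set p := (Nat.card G).minFac with hpdef
  obtain ⟨k, hk⟩ : ∃ k, p = k + 1 := ⟨p - 1, by have := hp.pos; omega⟩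
  have hZne : Subgroup.center G ≠ M := by
    intro h
    apply hna
    have hidx : Nat.card (G ⧸ Subgroup.center G) = p := by
      have h2 : (Subgroup.center G).index = p := by rw [h]; exact hM
      exact h2
    have : Fact p.Prime := ⟨hp⟩
    have : IsCyclic (G ⧸ Subgroup.center G) := isCyclic_of_prime_card hidx
    exact MonoidHom.isMulCommutative_of_isCyclic_of_ker_le_center
      (QuotientGroup.mk' (Subgroup.center G)) (by rw [QuotientGroup.ker_mk'])
  have hnm : Nat.card G = Nat.card M * p := by
    rw [← hM]; exact (Subgroup.card_mul_index M).symm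
  have hzm : 2 * Nat.card (Subgroup.center G) ≤ Nat.card M := by
    obtain ⟨t, ht⟩ := Subgroup.card_dvd_of_le hZM
    have hmpos : 0 < Nat.card M := Nat.card_pos
    have ht1 : t ≠ 1 := by
      intro h1
      apply hZne
      apply Subgroup.eq_of_le_of_card_ge hZM
      rw [ht, h1, mul_one]
    have ht0 : t ≠ 0 := by
      intro h0; rw [h0, mul_zero] at ht; omega
    have h2 : 2 ≤ t := by omega
    calc 2 * Nat.card (Subgroup.center G) = Nat.card (Subgroup.center G) * 2 := by ring
      _ ≤ Nat.card (Subgroup.center G) * t := Nat.mul_le_mul_left _ h2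
      _ = Nat.card M := ht.symm
  obtain ⟨c, hc⟩ : ∃ c : G → ℕ, ∀ g, c g = 1 + (if g ∈ M then 1 else 0)
      + (if g ∈ Subgroup.center G then 2 * k else 0) := ⟨_, fun _ => rfl⟩
  have hMc : (Finset.univ.filter (fun g => g ∈ M)).card = Nat.card M :=
    (Nat.subtype_card _ (by simp)).symm
  have hZc : (Finset.univ.filter (fun g => g ∈ Subgroup.center G)).card
      = Nat.card (Subgroup.center G) :=
    (Nat.subtype_card _ (by simp)).symm
  have hsum : ∑ g : G, c g = Nat.card G + Nat.card M + Nat.card (Subgroup.center G) * (2 * k) := by
    have e1 : ∑ g : G, (1 : ℕ) = Nat.card G := by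
      rw [Finset.sum_const, Finset.card_univ, smul_eq_mul, mul_one, Nat.card_eq_fintype_card]
    have e2 : ∑ g : G, (if g ∈ M then 1 else 0) = Nat.card M := by
      rw [← Finset.card_filter]; exact hMc
    have e3 : ∑ g : G, (if g ∈ Subgroup.center G then 2 * k else 0)
        = Nat.card (Subgroup.center G) * (2 * k) := by
      rw [← Finset.sum_filter, Finset.sum_const, smul_eq_mul, hZc]
    rw [Finset.sum_congr rfl (fun g _ => hc g), Finset.sum_add_distrib, Finset.sum_add_distrib,
      e1, e2, e3]
  have hQ : Nat.card (MulAction.orbitRel.Quotient (MulAut G) G) * (2 * (k + 1))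
      ≤ ∑ g : G, c g := by
    rw [← Finset.sum_fiberwise (s := Finset.univ)
      (g := fun g => (Quotient.mk'' g : MulAction.orbitRel.Quotient (MulAut G) G)) (f := c)]
    have e0 : Nat.card (MulAction.orbitRel.Quotient (MulAut G) G) * (2 * (k + 1))
        = ∑ _q : MulAction.orbitRel.Quotient (MulAut G) G, 2 * (k + 1) := by
      rw [Finset.sum_const, Finset.card_univ, smul_eq_mul, Nat.card_eq_fintype_card]
    rw [e0]
    apply Finset.sum_le_sum
    intro q _
    induction q using Quotient.inductionOn' with
    | h g₀ =>
      have hmem : ∀ g : G, (Quotient.mk'' g : MulAction.orbitRel.Quotient (MulAut G) G)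
          = Quotient.mk'' g₀ ↔ ∃ τ : MulAut G, τ g₀ = g := by
        intro g
        rw [Quotient.eq'']
        exact MulAction.orbitRel_apply.trans MulAction.mem_orbit_iff
      have hcl : ∀ g : G, (Quotient.mk'' g : MulAction.orbitRel.Quotient (MulAut G) G)
          = Quotient.mk'' g₀ → ∀ τ : MulAut G,
          (Quotient.mk'' (τ g) : MulAction.orbitRel.Quotient (MulAut G) G) = Quotient.mk'' g₀ := by
        intro g hg τ
        obtain ⟨τ₀, rfl⟩ := (hmem g).mp hg
        exact (hmem _).mpr ⟨τ * τ₀, rfl⟩
      have hconj : ∀ g : G, (Quotient.mk'' g : MulAction.orbitRel.Quotient (MulAut G) G)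
          = Quotient.mk'' g₀ →
          Finset.univ.filter (fun h => IsConj g h) ⊆ Finset.univ.filter
            (fun g => (Quotient.mk'' g : MulAction.orbitRel.Quotient (MulAut G) G)
              = Quotient.mk'' g₀) := by
        intro g hg h hh
        rw [Finset.mem_filter] at hh ⊢
        obtain ⟨d, hd⟩ := isConj_iff.mp hh.2
        refine ⟨Finset.mem_univ _, ?_⟩
        have := hcl g hg (MulAut.conj d)
        rwa [MulAut.conj_apply, hd] at this
      by_cases hg₀ : g₀ ∈ Subgroup.center G
      · have h1 : c g₀ = 2 * (k + 1) := by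
          rw [hc, if_pos (hZM hg₀), if_pos hg₀]; ring
        rw [← h1]
        exact Finset.single_le_sum (f := c) (fun _ _ => Nat.zero_le _)
          (Finset.mem_filter.mpr ⟨Finset.mem_univ _, rfl⟩)
      · by_cases hex : ∃ g : G, (Quotient.mk'' g : MulAction.orbitRel.Quotient (MulAut G) G)
            = Quotient.mk'' g₀ ∧ g ∉ M
        · obtain ⟨g, hgF, hgM⟩ := hex
          have hgZ : g ∉ Subgroup.center G := fun h => hgM (hZM h)
          have hA := hconj g hgF
          have hB := hconj (σ g) (hcl g hgF σ)
          have hdisj : Disjoint (Finset.univ.filter (fun h => IsConj g h))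
              (Finset.univ.filter (fun h => IsConj (σ g) h)) := by
            rw [Finset.disjoint_left]
            intro h h1 h2
            rw [Finset.mem_filter] at h1 h2
            exact hσ g hgM (h1.2.trans h2.2.symm)
          have hcA := hcls g hgZ
          have hcB := hcls (σ g) (lmcount_not_center σ g hgZ)
          calc 2 * (k + 1) ≤ (Finset.univ.filter (fun h => IsConj g h)).card
                + (Finset.univ.filter (fun h => IsConj (σ g) h)).card := by omega
            _ = (Finset.univ.filter (fun h => IsConj g h)
                ∪ Finset.univ.filter (fun h => IsConj (σ g) h)).card :=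
              (Finset.card_union_of_disjoint hdisj).symm
            _ ≤ (Finset.univ.filter
                (fun g => (Quotient.mk'' g : MulAction.orbitRel.Quotient (MulAut G) G)
                  = Quotient.mk'' g₀)).card :=
              Finset.card_le_card (Finset.union_subset hA hB)
            _ = ∑ _g ∈ Finset.univ.filter
                (fun g => (Quotient.mk'' g : MulAction.orbitRel.Quotient (MulAut G) G)
                  = Quotient.mk'' g₀), 1 := Finset.card_eq_sum_ones _
            _ ≤ _ := Finset.sum_le_sum (fun g _ => by rw [hc]; omega)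
        · have hex' : ∀ g : G, (Quotient.mk'' g : MulAction.orbitRel.Quotient (MulAut G) G)
              = Quotient.mk'' g₀ → g ∈ M := fun g hg => by
            by_contra hgM
            exact hex ⟨g, hg, hgM⟩
          have hA := hconj g₀ rfl
          have hcA := hcls g₀ hg₀
          calc 2 * (k + 1) ≤ 2 * (Finset.univ.filter (fun h => IsConj g₀ h)).card := by omega
            _ ≤ 2 * (Finset.univ.filter
                (fun g => (Quotient.mk'' g : MulAction.orbitRel.Quotient (MulAut G) G)
                  = Quotient.mk'' g₀)).card :=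
              Nat.mul_le_mul_left _ (Finset.card_le_card hA)
            _ = ∑ _g ∈ Finset.univ.filter
                (fun g => (Quotient.mk'' g : MulAction.orbitRel.Quotient (MulAut G) G)
                  = Quotient.mk'' g₀), 2 := by
              rw [Finset.sum_const, smul_eq_mul, mul_comm]
            _ ≤ _ := Finset.sum_le_sum (fun g hg => by
              rw [hc, if_pos (hex' g (Finset.mem_filter.mp hg).2)]; omega)
  have h3 : Nat.card (Subgroup.center G) * (2 * k) ≤ Nat.card M * k := by
    calc Nat.card (Subgroup.center G) * (2 * k) = (2 * Nat.card (Subgroup.center G)) * k := by ring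
      _ ≤ Nat.card M * k := Nat.mul_le_mul_right _ hzm
  have h4 : Nat.card (MulAction.orbitRel.Quotient (MulAut G) G) * (2 * (k + 1))
      ≤ Nat.card M * (2 * (k + 1)) := by
    calc Nat.card (MulAction.orbitRel.Quotient (MulAut G) G) * (2 * (k + 1))
        ≤ Nat.card G + Nat.card M + Nat.card (Subgroup.center G) * (2 * k) := hsum ▸ hQ
      _ ≤ Nat.card M * (k + 1) + Nat.card M + Nat.card M * k := by
        rw [hnm, hk]; omega
      _ = Nat.card M * (2 * (k + 1)) := by ring
  have h5 : Nat.card (MulAction.orbitRel.Quotient (MulAut G) G) ≤ Nat.card M :=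
    Nat.le_of_mul_le_mul_right h4 (by omega)
  rw [hnm, Nat.mul_div_cancel _ hp.pos]
  exact h5

end Cfsg.Agent.Helper85.LM
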