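import Mathlib
import Cfsg.Agent.Helper16.NGDefs
import Cfsg.Agent.Helper10.NGLTS

/-!
# CALL S4404 (helper16), piece P6A (double by helper85)

`ngp6a_core` is the statement of P6A with LTS as a hypothesis.
-/

set_option autoImplicit false

namespace Cfsg.Agent.Helper85.NGP6A
open Cfsg.Agent.Helper16.NG

section abstract

variable {A : Type*} [Group A]

/-- fixed points of a subgroup of automorphisms -/
def ngp6a_fix (T : Subgroup (MulAut A)) : Subgroup A where
  carrier := {w | ∀ t ∈ T, t w = w}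
  one_mem' := fun t _ => map_one t
  mul_mem' := fun {a b} ha hb t ht => by rw [map_mul, ha t ht, hb t ht]
  inv_mem' := fun {a} ha t ht => by rw [map_inv, ha t ht]

theorem ngp6a_mem_fix (T : Subgroup (MulAut A)) (w : A) :
    w ∈ ngp6a_fix T ↔ ∀ t ∈ T, t w = w := Iff.rfl

theorem ngp6a_card_fix [Finite A] (p : ℕ) [Fact p.Prime] (T : Subgroup (MulAut A))
    (hT : IsPGroup p ↥T) :
    Nat.card A ≡ Nat.card (ngp6a_fix T) [MOD p] := by
  have h := hT.card_modEq_card_fixedPoints A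
  have e : Nat.card (MulAction.fixedPoints ↥T A) = Nat.card (ngp6a_fix T) := by
    apply Nat.card_congr
    apply Equiv.subtypeEquivRight
    intro w
    rw [MulAction.mem_fixedPoints]
    constructor
    · intro h t ht; exact h ⟨t, ht⟩
    · intro h t; exact h t.1 t.2
  rw [← e]; exact h

theorem ngp6a_two_pow [Finite A] (hsq : ∀ a : A, a ^ 2 = 1) (K : Subgroup A) :
    ∃ j, Nat.card K = 2 ^ j := by
  haveI : Fact (Nat.Prime 2) := ⟨Nat.prime_two⟩
  have hK : IsPGroup 2 K := fun g => ⟨1, by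
    apply Subtype.ext
    simpa using hsq g.1⟩
  exact IsPGroup.iff_card.mp hK

/-- the commutator map of an automorphism of a commutative group -/
def ngp6a_comm (hcomm : ∀ a b : A, a * b = b * a) (C : MulAut A) : A →* A where
  toFun a := C a * a⁻¹
  map_one' := by simp
  map_mul' a b := by
    rw [map_mul, mul_inv_rev]
    calc C a * C b * (b⁻¹ * a⁻¹) = C a * (C b * a⁻¹) * b⁻¹ := by
          rw [hcomm b⁻¹ a⁻¹]; simp only [mul_assoc]
      _ = C a * (a⁻¹ * C b) * b⁻¹ := by rw [hcomm (C b) a⁻¹]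
      _ = C a * a⁻¹ * (C b * b⁻¹) := by simp only [mul_assoc]

theorem ngp6a_comm_apply (hcomm : ∀ a b : A, a * b = b * a) (C : MulAut A) (a : A) :
    ngp6a_comm hcomm C a = C a * a⁻¹ := rfl

theorem ngp6a_tele (hcomm : ∀ a b : A, a * b = b * a) (C : MulAut A) (n : ℕ) (b : A) :
    (C ^ n) b * b⁻¹ ∈ (ngp6a_comm hcomm C).range := by
  induction n with
  | zero => simp
  | succ n ih =>
    have e : (C ^ (n + 1)) b * b⁻¹ = ngp6a_comm hcomm C ((C ^ n) b) * ((C ^ n) b * b⁻¹) := by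
      rw [ngp6a_comm_apply, pow_succ', MulAut.mul_apply]
      group
    rw [e]
    exact Subgroup.mul_mem _ ⟨_, rfl⟩ ih

theorem ngp6a_group_id {G : Type*} [Group G] (X C : G) (k : ℕ) (hXC : X * C * X⁻¹ = C ^ k) :
    (C * X) ^ 3 = C ^ (1 + k + k * k) * X ^ 3 := by
  have h1 : X * C = C ^ k * X := by rw [← hXC]; group
  have h2 : X * C ^ k = C ^ (k * k) * X := by
    have : X * C ^ k * X⁻¹ = C ^ (k * k) := by
      rw [← conj_pow, hXC, ← pow_mul]
    rw [← this]; group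
  calc (C * X) ^ 3 = C * (X * C) * (X * C) * X := by
        rw [pow_succ, pow_succ, pow_one]; simp only [mul_assoc]
    _ = C * (C ^ k * X) * (C ^ k * X) * X := by rw [h1]
    _ = C * C ^ k * (X * C ^ k) * X * X := by group
    _ = C * C ^ k * (C ^ (k * k) * X) * X * X := by rw [h2]
    _ = C ^ (1 + k + k * k) * X ^ 3 := by
      rw [pow_add, pow_add, pow_one, pow_succ X 2, pow_succ X 1, pow_one]
      simp only [mul_assoc]

theorem ngp6a_no5 (k : ℕ) (h : 5 ∣ 1 + k + k * k) : False := by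
  have h1 : 1 + k + k * k ≡ 1 + k % 5 + (k % 5) * (k % 5) [MOD 5] := by
    have hk : k ≡ k % 5 [MOD 5] := (Nat.mod_modEq k 5).symm
    exact Nat.ModEq.add (Nat.ModEq.add_left 1 hk) (Nat.ModEq.mul hk hk)
  have h2 : (1 + k % 5 + (k % 5) * (k % 5)) % 5 = 0 := by
    rw [← h1]; exact Nat.mod_eq_zero_of_dvd h
  have h3 := Nat.mod_lt k (show 5 > 0 by norm_num)
  generalize k % 5 = r at h2 h3
  interval_cases r <;> simp at h2

theorem ngp6a_k7 (k : ℕ) (h : 7 ∣ 1 + k + k * k) : k % 7 = 2 ∨ k % 7 = 4 := by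
  have h1 : 1 + k + k * k ≡ 1 + k % 7 + (k % 7) * (k % 7) [MOD 7] := by
    have hk : k ≡ k % 7 [MOD 7] := (Nat.mod_modEq k 7).symm
    exact Nat.ModEq.add (Nat.ModEq.add_left 1 hk) (Nat.ModEq.mul hk hk)
  have h2 : (1 + k % 7 + (k % 7) * (k % 7)) % 7 = 0 := by
    rw [← h1]; exact Nat.mod_eq_zero_of_dvd h
  have h3 := Nat.mod_lt k (show 7 > 0 by norm_num)
  generalize k % 7 = r at h2 h3 ⊢
  interval_cases r <;> simp at h2 ⊢

theorem ngp6a_abs [Finite A] (hcomm : ∀ a b : A, a * b = b * a) (hsq : ∀ a : A, a ^ 2 = 1)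
    (X C : MulAut A) (k : ℕ)
    (hX3 : X ^ 3 = 1) (hC7 : C ^ 7 = 1) (hC1 : C ≠ 1) (hXC : X * C * X⁻¹ = C ^ k)
    (hk : k % 7 = 2 ∨ k % 7 = 4)
    (hV4 : Nat.card (ngp6a_comm hcomm X).range = 4)
    (hU16 : Nat.card (ngp6a_comm hcomm C).range ≤ 16) :
    Nat.card (ngp6a_comm hcomm C).range = 8 ∧
      (ngp6a_comm hcomm X).range ≤ (ngp6a_comm hcomm C).range := by
  classical
  have hinv : ∀ a : A, a⁻¹ = a := fun a => by
    rw [inv_eq_iff_mul_eq_one, ← pow_two]; exact hsq a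
  have hC2 : C ^ 2 ≠ 1 := by
    intro h2
    apply hC1
    have h8 : C ^ 8 = 1 := by rw [show 8 = 2 * 4 by norm_num, pow_mul, h2, one_pow]
    rw [show 8 = 7 + 1 by norm_num, pow_succ, hC7, one_mul] at h8
    exact h8
  have hkey : (∀ u ∈ (ngp6a_comm hcomm C).range, C u = u) → False := by
    intro hfix
    apply hC2
    ext a
    have h1 := hfix _ ⟨a, rfl⟩
    rw [ngp6a_comm_apply, map_mul, map_inv] at h1
    have h2 : C (C a) = C a * a⁻¹ * C a := by rw [← h1]; group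
    rw [pow_two, MulAut.mul_apply, MulAut.one_apply, h2, mul_assoc, hcomm a⁻¹ (C a), ← mul_assoc,
      ← pow_two, hsq, one_mul, hinv]
  haveI : Fact (Nat.Prime 7) := ⟨by norm_num⟩
  have hord : orderOf C = 7 := orderOf_eq_prime hC7 hC1
  have hT : IsPGroup 7 ↥(Subgroup.zpowers C) :=
    IsPGroup.of_card (n := 1) (by rw [Nat.card_zpowers, hord, pow_one])
  have hmod := ngp6a_card_fix 7 (Subgroup.zpowers C) hT
  have hfixker : ngp6a_fix (Subgroup.zpowers C) = (ngp6a_comm hcomm C).ker := by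
    ext w
    rw [ngp6a_mem_fix, MonoidHom.mem_ker, ngp6a_comm_apply, mul_inv_eq_one]
    constructor
    · intro h; exact h C (Subgroup.mem_zpowers C)
    · intro h t ht
      have hle : Subgroup.zpowers C ≤ MulAction.stabilizer (MulAut A) w := by
        rw [Subgroup.zpowers_le]; exact h
      exact hle ht
  rw [hfixker] at hmod
  have hcard : Nat.card (ngp6a_comm hcomm C).ker * Nat.card (ngp6a_comm hcomm C).range
      = Nat.card A := by
    rw [← Subgroup.index_ker, Subgroup.card_mul_index]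
  obtain ⟨i, hi⟩ := ngp6a_two_pow hsq (ngp6a_comm hcomm C).ker
  obtain ⟨j, hj⟩ := ngp6a_two_pow hsq (ngp6a_comm hcomm C).range
  rw [← hcard, hi, hj] at hmod
  have hmod' : 2 ^ j ≡ 1 [MOD 7] := by
    apply Nat.ModEq.cancel_left_of_coprime (c := 2 ^ i)
    · exact Nat.Coprime.pow_right i (by norm_num)
    · simpa using hmod
  have hcard8 : Nat.card (ngp6a_comm hcomm C).range = 8 := by
    rw [hj] at hU16 ⊢
    have hj4 : j ≤ 4 := by
      by_contra hc
      push Not at hc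
      have := Nat.pow_le_pow_right (show 0 < 2 by norm_num) hc
      omega
    have hj0 : j ≠ 0 := by
      rintro rfl
      apply hkey
      intro u hu
      have hbot : (ngp6a_comm hcomm C).range = ⊥ :=
        Subgroup.card_eq_one.mp (by rw [hj, pow_zero])
      rw [hbot, Subgroup.mem_bot] at hu
      rw [hu, map_one]
    interval_cases j
    · exact absurd rfl hj0
    · exfalso; revert hmod'; decide
    · exfalso; revert hmod'; decide
    · norm_num
    · exfalso; revert hmod'; decide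
  refine ⟨hcard8, ?_⟩
  have hCU : ∀ u ∈ (ngp6a_comm hcomm C).range, C u ∈ (ngp6a_comm hcomm C).range := by
    rintro _ ⟨a, rfl⟩
    exact ⟨C a, by rw [ngp6a_comm_apply, ngp6a_comm_apply, map_mul, map_inv]⟩
  have hXV : ∀ v ∈ (ngp6a_comm hcomm X).range, X v ∈ (ngp6a_comm hcomm X).range := by
    rintro _ ⟨a, rfl⟩
    exact ⟨X a, by rw [ngp6a_comm_apply, ngp6a_comm_apply, map_mul, map_inv]⟩
  have hXCk : ∀ a, X (C a) = (C ^ k) (X a) := by
    intro a
    have h1 := congrArg (fun f : MulAut A => f (X a)) hXC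
    simp only [MulAut.mul_apply, MulAut.inv_apply_self] at h1
    exact h1
  have hXU : ∀ u ∈ (ngp6a_comm hcomm C).range, X u ∈ (ngp6a_comm hcomm C).range := by
    rintro _ ⟨a, rfl⟩
    rw [ngp6a_comm_apply, map_mul, map_inv, hXCk]
    exact ngp6a_tele hcomm C k (X a)
  have hXfpf : ∀ v ∈ (ngp6a_comm hcomm X).range, X v = v → v = 1 := by
    rintro _ ⟨a, rfl⟩ hv
    have hX3a : X (X (X a)) = a := by
      have h1 := congrArg (fun f : MulAut A => f a) hX3
      simpa [pow_succ, MulAut.mul_apply] using h1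
    have hN : X (a * X a * X (X a)) = a * X a * X (X a) := by
      rw [map_mul, map_mul, hX3a, hcomm (X a * X (X a)) a, mul_assoc]
    have hφN : ngp6a_comm hcomm X (a * X a * X (X a)) = 1 := by
      rw [ngp6a_comm_apply, hN, mul_inv_cancel]
    have hcm : ∀ b, X (ngp6a_comm hcomm X b) = ngp6a_comm hcomm X (X b) := by
      intro b; rw [ngp6a_comm_apply, ngp6a_comm_apply, map_mul, map_inv]
    have h3 : ngp6a_comm hcomm X a * X (ngp6a_comm hcomm X a) *
        X (X (ngp6a_comm hcomm X a)) = 1 := by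
      rw [hcm, hcm, ← map_mul, ← map_mul]; exact hφN
    rw [hv, hv, ← pow_two, hsq, one_mul] at h3
    exact h3
  by_contra hnot
  have hKbot : (ngp6a_comm hcomm X).range ⊓ (ngp6a_comm hcomm C).range = ⊥ := by
    have hdvd : Nat.card ↥((ngp6a_comm hcomm X).range ⊓ (ngp6a_comm hcomm C).range) ∣ 4 := by
      rw [← hV4]; exact Subgroup.card_dvd_of_le inf_le_left
    have hle4 : Nat.card ↥((ngp6a_comm hcomm X).range ⊓ (ngp6a_comm hcomm C).range) ≤ 4 :=
      Nat.le_of_dvd (by norm_num) hdvd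
    have hpos : 0 < Nat.card ↥((ngp6a_comm hcomm X).range ⊓ (ngp6a_comm hcomm C).range) :=
      Nat.card_pos
    generalize hc : Nat.card ↥((ngp6a_comm hcomm X).range ⊓ (ngp6a_comm hcomm C).range) = N
      at hdvd hle4 hpos
    interval_cases N
    · exact Subgroup.card_eq_one.mp hc
    · exfalso
      obtain ⟨v, hv1, hvuniq⟩ := (Nat.card_eq_two_iff'
        (1 : ↥((ngp6a_comm hcomm X).range ⊓ (ngp6a_comm hcomm C).range))).mp hc
      have hXv : X v.1 ∈ (ngp6a_comm hcomm X).range ⊓ (ngp6a_comm hcomm C).range :=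
        ⟨hXV _ v.2.1, hXU _ v.2.2⟩
      have hne : (⟨X v.1, hXv⟩ :
          ↥((ngp6a_comm hcomm X).range ⊓ (ngp6a_comm hcomm C).range)) ≠ 1 := by
        intro h
        have h' : X v.1 = 1 := congrArg Subtype.val h
        have h'' : v.1 = 1 := by
          have := congrArg X.symm h'
          simpa using this
        exact hv1 (Subtype.ext h'')
      have heq := hvuniq _ hne
      have h' : X v.1 = v.1 := congrArg Subtype.val heq
      exact hv1 (Subtype.ext (hXfpf _ v.2.1 h'))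
    · exfalso; revert hdvd; decide
    · exfalso
      apply hnot
      have he : (ngp6a_comm hcomm X).range ⊓ (ngp6a_comm hcomm C).range =
          (ngp6a_comm hcomm X).range :=
        Subgroup.eq_of_le_of_card_ge inf_le_left (by rw [hc, hV4])
      rw [← he]; exact inf_le_right
  have hXfix : ∀ u ∈ (ngp6a_comm hcomm C).range, X u = u := by
    intro u hu
    have h1 : ngp6a_comm hcomm X u ∈
        (ngp6a_comm hcomm X).range ⊓ (ngp6a_comm hcomm C).range :=
      ⟨⟨u, rfl⟩, by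
        rw [ngp6a_comm_apply]
        exact Subgroup.mul_mem _ (hXU u hu) (Subgroup.inv_mem _ hu)⟩
    rw [hKbot, Subgroup.mem_bot, ngp6a_comm_apply, mul_inv_eq_one] at h1
    exact h1
  have hCk : ∀ u ∈ (ngp6a_comm hcomm C).range, (C ^ k) u = C u := by
    intro u hu
    have h1 := hXCk u
    rw [hXfix u hu, hXfix (C u) (hCU u hu)] at h1
    exact h1.symm
  apply hkey
  intro u hu
  have hkmod : C ^ k = C ^ (k % 7) := by
    conv_lhs => rw [← Nat.div_add_mod k 7, pow_add, pow_mul, hC7, one_pow, one_mul]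
  rcases hk with hk | hk
  · have h2 := hCk u hu
    rw [hkmod, hk, pow_two, MulAut.mul_apply] at h2
    exact C.injective h2
  · have h3 : ∀ w ∈ (ngp6a_comm hcomm C).range, (C ^ 3) w = w := by
      intro w hw
      have h4 := hCk w hw
      rw [hkmod, hk, show 4 = 1 + 3 by norm_num, pow_add, pow_one, MulAut.mul_apply] at h4
      exact C.injective h4
    have hit : ∀ n : ℕ, ((C ^ 3) ^ n) u = u := by
      intro n
      induction n with
      | zero => simp
      | succ n ih => rw [pow_succ, MulAut.mul_apply, h3 u hu, ih]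
    have h15 := hit 5
    rw [← pow_mul, show 3 * 5 = 7 * 2 + 1 by norm_num, pow_add, pow_mul, hC7, one_pow, one_mul,
      pow_one] at h15
    exact h15

end abstract

section concrete

variable {S : Type*} [Group S]

theorem ngp6a_rho_eq_one (M : Subgroup S) [M.Normal] (s : S) :
    MulAut.conjNormal (H := M) s = 1 ↔ s ∈ Subgroup.centralizer (M : Set S) := by
  rw [Subgroup.mem_centralizer_iff]
  constructor
  · intro h m hm
    have h1 := congrArg (fun f : MulAut ↥M => ((f ⟨m, hm⟩ : ↥M) : S)) h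
    simp only [MulAut.conjNormal_apply, MulAut.one_apply] at h1
    calc m * s = s * m * s⁻¹ * s := by rw [h1]
      _ = s * m := by group
  · intro h
    ext m
    rw [MulAut.conjNormal_apply, MulAut.one_apply]
    have h1 := h m m.2
    rw [← h1]; group

/-- the product of two subgroups of a commutative subgroup -/
def ngp6a_W (A B M : Subgroup S) (hA : A ≤ M) (hB : B ≤ M)
    (hcomm : ∀ a ∈ M, ∀ b ∈ M, a * b = b * a) : Subgroup S where
  carrier := {w | ∃ a ∈ A, ∃ b ∈ B, w = a * b}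
  one_mem' := ⟨1, A.one_mem, 1, B.one_mem, by simp⟩
  mul_mem' := by
    rintro _ _ ⟨a, ha, b, hb, rfl⟩ ⟨a', ha', b', hb', rfl⟩
    refine ⟨a * a', A.mul_mem ha ha', b * b', B.mul_mem hb hb', ?_⟩
    have h1 := hcomm b (hB hb) a' (hA ha')
    calc a * b * (a' * b') = a * (b * a') * b' := by group
      _ = a * (a' * b) * b' := by rw [h1]
      _ = a * a' * (b * b') := by group
  inv_mem' := by
    rintro _ ⟨a, ha, b, hb, rfl⟩
    refine ⟨a⁻¹, A.inv_mem ha, b⁻¹, B.inv_mem hb, ?_⟩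
    have h1 := hcomm a⁻¹ (M.inv_mem (hA ha)) b⁻¹ (M.inv_mem (hB hb))
    rw [mul_inv_rev, h1]

theorem ngp6a_W_card [Finite S] (A B M : Subgroup S) (hA : A ≤ M) (hB : B ≤ M)
    (hcomm : ∀ a ∈ M, ∀ b ∈ M, a * b = b * a) :
    Nat.card (ngp6a_W A B M hA hB hcomm) ≤ Nat.card A * Nat.card B := by
  rw [← Nat.card_prod]
  apply Nat.card_le_card_of_surjective
    (fun ab : ↥A × ↥B => (⟨ab.1.1 * ab.2.1, ⟨ab.1.1, ab.1.2, ab.2.1, ab.2.2, rfl⟩⟩ :
      ↥(ngp6a_W A B M hA hB hcomm)))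
  rintro ⟨w, a, ha, b, hb, rfl⟩
  exact ⟨(⟨a, ha⟩, ⟨b, hb⟩), rfl⟩

/-- elements of `P` acting trivially on `M / W` -/
def ngp6a_T (P M W : Subgroup S) [hMn : M.Normal] : Subgroup S where
  carrier := {s | s ∈ P ∧ ∀ m ∈ M, s * m * s⁻¹ * m⁻¹ ∈ W}
  one_mem' := ⟨P.one_mem, fun m _ => by simp⟩
  mul_mem' := by
    rintro s t ⟨hs, hs'⟩ ⟨ht, ht'⟩
    refine ⟨P.mul_mem hs ht, fun m hm => ?_⟩
    have h1 : t * m * t⁻¹ ∈ M := hMn.conj_mem m hm t
    have h2 := hs' (t * m * t⁻¹) h1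
    have h3 := ht' m hm
    have e : s * t * m * (s * t)⁻¹ * m⁻¹ =
        (s * (t * m * t⁻¹) * s⁻¹ * (t * m * t⁻¹)⁻¹) * (t * m * t⁻¹ * m⁻¹) := by group
    rw [e]; exact W.mul_mem h2 h3
  inv_mem' := by
    rintro s ⟨hs, hs'⟩
    refine ⟨P.inv_mem hs, fun m hm => ?_⟩
    have h1 : s⁻¹ * m * s ∈ M := by simpa using hMn.conj_mem m hm s⁻¹
    have h2 := hs' (s⁻¹ * m * s) h1
    have e : s⁻¹ * m * s⁻¹⁻¹ * m⁻¹ = (s * (s⁻¹ * m * s) * s⁻¹ * (s⁻¹ * m * s)⁻¹)⁻¹ := by group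
    rw [e]; exact W.inv_mem h2

theorem ngp6a_core [Finite S] {M V : Subgroup S} {x : S} (h : Cfg M V x) (p : ℕ) (hp : p.Prime)
    (hp5 : 5 ≤ p) (P : Subgroup S) (hP : IsPGroup p ↥P) (hxP : ∀ a ∈ P, x * a * x⁻¹ ∈ P) (g : S)
    (hg : g ∈ P)
    (hLTS : ∀ (W : Subgroup S), W ≤ M → Nat.card W ≤ 16 → ∀ (T : Subgroup S), IsPGroup p ↥T →
      (∀ t ∈ T, ∀ w ∈ W, t * w * t⁻¹ ∈ W) → (∀ t ∈ T, ∀ m ∈ M, t * m * t⁻¹ * m⁻¹ ∈ W) →
      (T ⊓ Subgroup.centralizer (M : Set S)).relIndex T ≤ 7) :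
    g * x * g⁻¹ * x⁻¹ ∈ Subgroup.centralizer (M : Set S) ∨
    (p = 7 ∧ (g * x * g⁻¹ * x⁻¹) ^ 7 ∈ Subgroup.centralizer (M : Set S) ∧
      Nat.card (U M (g * x * g⁻¹ * x⁻¹)) = 8 ∧ V ≤ U M (g * x * g⁻¹ * x⁻¹)) := by
  classical
  haveI hMn : M.Normal := h.normal
  haveI : Fact p.Prime := ⟨hp⟩
  by_cases hcC : g * x * g⁻¹ * x⁻¹ ∈ Subgroup.centralizer (M : Set S)
  · exact Or.inl hcC
  right
  generalize hc : g * x * g⁻¹ * x⁻¹ = c at hcC ⊢
  have hVM : V ≤ M := by
    intro v hv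
    obtain ⟨m, hm, rfl⟩ := (h.hV v).mp hv
    exact M.mul_mem (hMn.conj_mem m hm x) (M.inv_mem hm)
  have hV'M : V.map (MulAut.conj g).toMonoidHom ≤ M := by
    rintro _ ⟨v, hv, rfl⟩
    simpa [MulAut.conj_apply] using hMn.conj_mem v (hVM hv) g
  have hWM : ngp6a_W V (V.map (MulAut.conj g).toMonoidHom) M hVM hV'M h.comm ≤ M := by
    rintro _ ⟨a, ha, b, hb, rfl⟩
    exact M.mul_mem (hVM ha) (hV'M hb)
  have hW16 : Nat.card (ngp6a_W V (V.map (MulAut.conj g).toMonoidHom) M hVM hV'M h.comm) ≤ 16 := by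
    have h1 := ngp6a_W_card V (V.map (MulAut.conj g).toMonoidHom) M hVM hV'M h.comm
    have h2 : Nat.card (V.map (MulAut.conj g).toMonoidHom) = Nat.card V :=
      Subgroup.card_map_of_injective (MulAut.conj g).injective
    rw [h2, h.card] at h1
    exact h1
  have hVW : V ≤ ngp6a_W V (V.map (MulAut.conj g).toMonoidHom) M hVM hV'M h.comm := by
    intro v hv
    exact ⟨v, hv, 1, Subgroup.one_mem _, (mul_one v).symm⟩
  have hV'W : ∀ v ∈ V, g * v * g⁻¹ ∈
      ngp6a_W V (V.map (MulAut.conj g).toMonoidHom) M hVM hV'M h.comm := by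
    intro v hv
    exact ⟨1, V.one_mem, g * v * g⁻¹, ⟨v, hv, by simp [MulAut.conj_apply]⟩, (one_mul _).symm⟩
  generalize ngp6a_W V (V.map (MulAut.conj g).toMonoidHom) M hVM hV'M h.comm = W
    at hWM hW16 hVW hV'W
  have hxJ : x ∈ ngp6a_T ⊤ M W :=
    ⟨Subgroup.mem_top _, fun m hm => hVW ((h.hV _).mpr ⟨m, hm, rfl⟩)⟩
  have hyJ : g * x * g⁻¹ ∈ ngp6a_T ⊤ M W := by
    refine ⟨Subgroup.mem_top _, fun m hm => ?_⟩
    have hn : g⁻¹ * m * g ∈ M := by simpa using hMn.conj_mem m hm g⁻¹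
    have e : g * x * g⁻¹ * m * (g * x * g⁻¹)⁻¹ * m⁻¹ =
        g * (x * (g⁻¹ * m * g) * x⁻¹ * (g⁻¹ * m * g)⁻¹) * g⁻¹ := by group
    rw [e]
    exact hV'W _ ((h.hV _).mpr ⟨_, hn, rfl⟩)
  have hcJ : c ∈ ngp6a_T ⊤ M W := by
    have e : c = (g * x * g⁻¹) * x⁻¹ := hc.symm
    rw [e]; exact Subgroup.mul_mem _ hyJ (Subgroup.inv_mem _ hxJ)
  have hdJ : x * c * x⁻¹ ∈ ngp6a_T ⊤ M W :=
    Subgroup.mul_mem _ (Subgroup.mul_mem _ hxJ hcJ) (Subgroup.inv_mem _ hxJ)
  have hcP : c ∈ P := by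
    have e : c = g * (x * g⁻¹ * x⁻¹) := by rw [← hc]; group
    rw [e]; exact P.mul_mem hg (hxP _ (P.inv_mem hg))
  have hdP : x * c * x⁻¹ ∈ P := hxP c hcP
  have hcT : c ∈ ngp6a_T P M W := ⟨hcP, hcJ.2⟩
  have hdT : x * c * x⁻¹ ∈ ngp6a_T P M W := ⟨hdP, hdJ.2⟩
  have hTp : IsPGroup p ↥(ngp6a_T P M W) := hP.to_le (fun t ht => ht.1)
  have hrel := hLTS W hWM hW16 (ngp6a_T P M W) hTp
    (fun t ht w hw => by
      have h1 := ht.2 w (hWM hw)
      have e : t * w * t⁻¹ = (t * w * t⁻¹ * w⁻¹) * w := by group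
      rw [e]; exact W.mul_mem h1 hw)
    (fun t ht m hm => ht.2 m hm)
  have hUW : U M c ≤ W := by
    unfold U
    rw [Subgroup.closure_le]
    rintro _ ⟨m, hm, rfl⟩
    exact hcT.2 m hm
  generalize ngp6a_T P M W = T at hcT hdT hTp hrel
  have hKn : ((T ⊓ Subgroup.centralizer (M : Set S)).subgroupOf T).Normal := by
    rw [Subgroup.inf_subgroupOf_left]
    infer_instance
  have hKidx : ((T ⊓ Subgroup.centralizer (M : Set S)).subgroupOf T).index ≤ 7 := hrel
  obtain ⟨n, hn⟩ := IsPGroup.index hTp ((T ⊓ Subgroup.centralizer (M : Set S)).subgroupOf T)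
  have hcK : (⟨c, hcT⟩ : ↥T) ∉ (T ⊓ Subgroup.centralizer (M : Set S)).subgroupOf T := by
    intro hmem
    exact hcC (Subgroup.mem_subgroupOf.mp hmem).2
  have hKmem : ∀ t : ↥T, t ∈ (T ⊓ Subgroup.centralizer (M : Set S)).subgroupOf T →
      (t : S) ∈ Subgroup.centralizer (M : Set S) :=
    fun t ht => (Subgroup.mem_subgroupOf.mp ht).2
  have hn1 : n ≤ 1 := by
    by_contra hcon
    push Not at hcon
    have h1 : p ^ 2 ≤ p ^ n := Nat.pow_le_pow_right (by omega) hcon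
    have h2 : 5 ^ 2 ≤ p ^ 2 := Nat.pow_le_pow_left hp5 2
    omega
  generalize (T ⊓ Subgroup.centralizer (M : Set S)).subgroupOf T = K
    at hKn hKidx hn hcK hKmem
  interval_cases n
  · exfalso
    rw [pow_zero] at hn
    have h1 := Subgroup.index_eq_one.mp hn
    exact hcK (h1 ▸ Subgroup.mem_top _)
  rw [pow_one] at hn
  have hp7 : p ≤ 7 := by rw [← hn]; exact hKidx
  have hQ : Nat.card (↥T ⧸ K) = p := by rw [← Subgroup.index_eq_card, hn]
  have hc1 : (QuotientGroup.mk ⟨c, hcT⟩ : ↥T ⧸ K) ≠ 1 := by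
    rw [Ne, QuotientGroup.eq_one_iff]; exact hcK
  obtain ⟨k, hk⟩ := (Submonoid.mem_powers_iff _ _).mp
    (mem_powers_of_prime_card (g' := (QuotientGroup.mk ⟨x * c * x⁻¹, hdT⟩ : ↥T ⧸ K)) hQ hc1)
  have hk' : ((⟨c, hcT⟩ : ↥T) ^ k)⁻¹ * ⟨x * c * x⁻¹, hdT⟩ ∈ K := by
    rw [← QuotientGroup.eq, QuotientGroup.mk_pow]; exact hk
  have hz : (c ^ k)⁻¹ * (x * c * x⁻¹) ∈ Subgroup.centralizer (M : Set S) := by
    have h1 := hKmem _ hk'
    simpa using h1
  have hcp : c ^ p ∈ Subgroup.centralizer (M : Set S) := by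
    have h1 : (QuotientGroup.mk ⟨c, hcT⟩ : ↥T ⧸ K) ^ p = 1 := by
      rw [← hQ]; exact pow_card_eq_one'
    rw [← QuotientGroup.mk_pow, QuotientGroup.eq_one_iff] at h1
    have h2 := hKmem _ h1
    simpa using h2
  have hX3 : (MulAut.conjNormal (H := M) x) ^ 3 = 1 := by
    rw [← map_pow, ngp6a_rho_eq_one, Subgroup.mem_centralizer_iff]
    intro m hm
    have h1 := h.cube m hm
    calc m * x ^ 3 = x ^ 3 * m * (x ^ 3)⁻¹ * x ^ 3 := by rw [h1]
      _ = x ^ 3 * m := by group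
  have hC1 : MulAut.conjNormal (H := M) c ≠ 1 :=
    fun h1 => hcC ((ngp6a_rho_eq_one M c).mp h1)
  have hCp : (MulAut.conjNormal (H := M) c) ^ p = 1 := by
    rw [← map_pow]; exact (ngp6a_rho_eq_one M _).mpr hcp
  have hXC : MulAut.conjNormal (H := M) x * MulAut.conjNormal (H := M) c *
      (MulAut.conjNormal (H := M) x)⁻¹ = (MulAut.conjNormal (H := M) c) ^ k := by
    have h1 := (ngp6a_rho_eq_one M _).mpr hz
    rw [map_mul, map_inv, map_pow, map_mul, map_mul, map_inv] at h1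
    exact (inv_mul_eq_one.mp h1).symm
  have hY3 : (MulAut.conjNormal (H := M) c * MulAut.conjNormal (H := M) x) ^ 3 = 1 := by
    rw [← map_mul, ← map_pow, ngp6a_rho_eq_one]
    have e : (c * x) ^ 3 = g * x ^ 3 * g⁻¹ := by
      have e1 : c * x = g * x * g⁻¹ := by rw [← hc]; group
      rw [e1, conj_pow]
    rw [e]
    have hx3 : x ^ 3 ∈ Subgroup.centralizer (M : Set S) :=
      (ngp6a_rho_eq_one M _).mp (by rw [map_pow]; exact hX3)
    exact (inferInstance : (Subgroup.centralizer (M : Set S)).Normal).conj_mem _ hx3 g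
  have hpow := ngp6a_group_id (MulAut.conjNormal (H := M) x) (MulAut.conjNormal (H := M) c) k hXC
  rw [hY3, hX3, mul_one] at hpow
  have hord : orderOf (MulAut.conjNormal (H := M) c) = p := orderOf_eq_prime hCp hC1
  have hdvd : p ∣ 1 + k + k * k := by
    rw [← hord]; exact orderOf_dvd_of_pow_eq_one hpow.symm
  have hp57 : p = 5 ∨ p = 7 := by
    interval_cases p
    · left; rfl
    · exact absurd hp (by norm_num)
    · right; rfl
  rcases hp57 with rfl | rfl
  · exact (ngp6a_no5 k hdvd).elim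
  have hk7 := ngp6a_k7 k hdvd
  have hcommM : ∀ a b : ↥M, a * b = b * a := fun a b => Subtype.ext (h.comm a a.2 b b.2)
  have hsqM : ∀ a : ↥M, a ^ 2 = 1 := fun a => Subtype.ext (by simpa using h.sq a a.2)
  have hUeq : U M c =
      ((ngp6a_comm hcommM (MulAut.conjNormal (H := M) c)).range).map M.subtype := by
    apply le_antisymm
    · unfold U
      rw [Subgroup.closure_le]
      rintro _ ⟨m, hm, rfl⟩
      refine ⟨ngp6a_comm hcommM (MulAut.conjNormal (H := M) c) ⟨m, hm⟩, ⟨⟨m, hm⟩, rfl⟩, ?_⟩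
      simp [ngp6a_comm_apply, MulAut.conjNormal_apply]
    · rintro _ ⟨_, ⟨a, rfl⟩, rfl⟩
      unfold U
      apply Subgroup.subset_closure
      exact ⟨a.1, a.2, by simp [ngp6a_comm_apply, MulAut.conjNormal_apply]⟩
  have hVeq : V =
      ((ngp6a_comm hcommM (MulAut.conjNormal (H := M) x)).range).map M.subtype := by
    ext v
    rw [h.hV v]
    constructor
    · rintro ⟨m, hm, rfl⟩
      refine ⟨ngp6a_comm hcommM (MulAut.conjNormal (H := M) x) ⟨m, hm⟩, ⟨⟨m, hm⟩, rfl⟩, ?_⟩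
      simp [ngp6a_comm_apply, MulAut.conjNormal_apply]
    · rintro ⟨_, ⟨a, rfl⟩, rfl⟩
      exact ⟨a.1, a.2, by simp [ngp6a_comm_apply, MulAut.conjNormal_apply]⟩
  have hV4 : Nat.card (ngp6a_comm hcommM (MulAut.conjNormal (H := M) x)).range = 4 := by
    rw [← Subgroup.card_map_of_injective M.subtype_injective, ← hVeq]; exact h.card
  have hU16 : Nat.card (ngp6a_comm hcommM (MulAut.conjNormal (H := M) c)).range ≤ 16 := by
    rw [← Subgroup.card_map_of_injective M.subtype_injective, ← hUeq]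
    exact (Subgroup.card_le_of_le hUW).trans hW16
  obtain ⟨h8, hle⟩ := ngp6a_abs hcommM hsqM (MulAut.conjNormal (H := M) x)
    (MulAut.conjNormal (H := M) c) k hX3 hCp hC1 hXC hk7 hV4 hU16
  refine ⟨rfl, hcp, ?_, ?_⟩
  · rw [hUeq, Subgroup.card_map_of_injective M.subtype_injective]; exact h8
  · rw [hVeq, hUeq]; exact Subgroup.map_mono hle

/-- P6A -/
theorem ng_p6a [Finite S] {M V : Subgroup S} {x : S} (h : Cfg M V x) (p : ℕ) (hp : p.Prime) (hp5 : 5 ≤ p)
    (P : Subgroup S) (hP : IsPGroup p ↥P) (hxP : ∀ a ∈ P, x * a * x⁻¹ ∈ P) (g : S) (hg : g ∈ P) :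
    g * x * g⁻¹ * x⁻¹ ∈ Subgroup.centralizer (M : Set S) ∨
    (p = 7 ∧ (g * x * g⁻¹ * x⁻¹) ^ 7 ∈ Subgroup.centralizer (M : Set S) ∧
      Nat.card (U M (g * x * g⁻¹ * x⁻¹)) = 8 ∧ V ≤ U M (g * x * g⁻¹ * x⁻¹)) := by
  haveI hMn : M.Normal := h.normal
  exact ngp6a_core h p hp hp5 P hP hxP g hg
    (fun W hWM hW16 T hTp hn h2 =>
      Cfsg.Agent.Helper10.NGLTS.ng_LTS M h.comm h.sq W hWM hW16 p hp hp5 T hTp hn h2)

end concrete

end Cfsg.Agent.Helper85.NGP6A
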