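import Cfsg.Agent.Helper85.NsgA
import Cfsg.Agent.Helper85.NormRes
import Cfsg.Agent.Helper85.GroupAux
import Cfsg.Agent.Helper87.SubConsB
import Cfsg.Agent.Helper84.Model
import Cfsg.Agent.Helper84.FusionSat2
import Cfsg.Agent.Helper51.PCore
import Cfsg.Agent.S5102
import Cfsg.Agent.Helper88.FusionNormalCrit

set_option autoImplicit false
open Cfsg

/-!
# Normal subsystems of the fusion system of a group of characteristic `p` (part B)

The standing hypotheses, their element-level consequences, and the normal subgroup `B` of the elements acting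
trivially on `O_p(G)` modulo `R = O_p(G) ∩ T` and inducing on `R` an automorphism of the subsystem.
-/

namespace Cfsg.Agent.Helper85

open Cfsg.FusionSystem
open Cfsg.Agent.Helper88

variable {G : Type*} [Group G] [Finite G] {p : ℕ} [Fact p.Prime]

/-- conjugation by `g` on `P` is a map of `E` -/
def nsgEC {T : Subgroup G} (E : FusionSystem T) (P : Subgroup G) (g : G) : Prop :=
  IsMap E P (fun x => g * x * g⁻¹)

theorem nsgEC.restrict {T : Subgroup G} {E : FusionSystem T} {P P' : Subgroup G} {g : G}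
    (h : nsgEC E P g) (hP : P' ≤ P) : nsgEC E P' g :=
  IsMap.restrict h hP

theorem nsgEC.mul {T : Subgroup G} {E : FusionSystem T} {P P' : Subgroup G} {g g' : G}
    (h : nsgEC E P g) (h' : nsgEC E P' g') (hPP : ∀ x ∈ P, g * x * g⁻¹ ∈ P') : nsgEC E P (g' * g) := by
  have h1 := IsMap.comp h h' hPP
  refine h1.congr (fun x _ => ?_)
  show g' * g * x * (g' * g)⁻¹ = g' * (g * x * g⁻¹) * g'⁻¹
  group

theorem nsgEC_of_mem {T : Subgroup G} (E : FusionSystem T) {P : Subgroup G} (hP : P ≤ T) {t : G}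
    (ht : t ∈ T) : nsgEC E P t :=
  isMap_conj E hP ht

theorem nsgEC.inv {T : Subgroup G} {E : FusionSystem T} {U : Subgroup G} {g : G} (h : nsgEC E U g)
    (hU : ∀ u ∈ U, g * u * g⁻¹ ∈ U) : nsgEC E U g⁻¹ := by
  have himg : img U (fun x => g * x * g⁻¹) = U := IsMap.img_eq_of_mapsTo h hU
  obtain ⟨f', hf', hinv, -, -⟩ := IsMap.exists_inv h
  rw [himg] at hf'
  refine hf'.congr (fun x hx => ?_)
  have hgN : g ∈ Subgroup.normalizer (U : Set G) := Helper84.mem_normalizer_of_forall_conj_mem U hU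
  have hy : g⁻¹ * x * g ∈ U := (Subgroup.mem_normalizer_iff''.mp hgN x).mp hx
  have h3 : f' (g * (g⁻¹ * x * g) * g⁻¹) = g⁻¹ * x * g := hinv _ hy
  have e : g * (g⁻¹ * x * g) * g⁻¹ = x := by group
  rw [e] at h3
  show g⁻¹ * x * g⁻¹⁻¹ = f' x
  rw [inv_inv, h3]

theorem nsgEC.pow {T : Subgroup G} {E : FusionSystem T} {U : Subgroup G} {g : G} (hUT : U ≤ T)
    (h : nsgEC E U g) (hU : ∀ u ∈ U, g * u * g⁻¹ ∈ U) (n : ℕ) : nsgEC E U (g ^ n) := by
  induction n with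
  | zero => rw [pow_zero]; exact nsgEC_of_mem E hUT T.one_mem
  | succ n ih => rw [pow_succ]; exact nsgEC.mul h ih hU

/-- the standing hypotheses: `C_G(O_p(G)) ≤ O_p(G)` and `E` is normal in the fusion system of `G` -/
structure NsgHyp (p : ℕ) [Fact p.Prime] (S : Sylow p G) {T : Subgroup G} (E : FusionSystem T) : Prop where
  hG : Subgroup.centralizer ((pCore p G : Subgroup G) : Set G) ≤ pCore p G
  hE : E.IsNormalIn (groupFusionSystem (S : Subgroup G)) p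

namespace NsgHyp

variable {S : Sylow p G} {T : Subgroup G} {E : FusionSystem T}

theorem hTS (h : NsgHyp p S E) : T ≤ S := h.hE.1.2.2.2.1.1

theorem hEs (h : NsgHyp p S E) : E.IsSaturated p := h.hE.1.1

theorem hFs (h : NsgHyp p S E) : (groupFusionSystem (S : Subgroup G)).IsSaturated p := h.hE.1.2.1

theorem hinv (h : NsgHyp p S E) : E.IsInvariantIn (groupFusionSystem (S : Subgroup G)) := h.hE.1.2.2

theorem hEF (h : NsgHyp p S E) : E.IsSubsystemOf (groupFusionSystem (S : Subgroup G)) := h.hinv.1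

theorem hTsc (h : NsgHyp p S E) : (groupFusionSystem (S : Subgroup G)).StronglyClosed T := h.hinv.2.1

theorem hTp (h : NsgHyp p S E) : IsPGroup p T := S.isPGroup'.to_le h.hTS

/-- `T` is strongly closed with respect to `G` -/
theorem conj_mem_T (h : NsgHyp p S E) (g : G) {t : G} (ht : t ∈ T)
    (hS : g * t * g⁻¹ ∈ (S : Subgroup G)) : g * t * g⁻¹ ∈ T := by
  have hmap : IsMap (groupFusionSystem (S : Subgroup G)) (Subgroup.zpowers t) (fun x => g * x * g⁻¹) := by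
    rw [nsg_isMap_groupFS_iff]
    refine ⟨?_, ?_, g, fun x _ => rfl⟩
    · rw [Subgroup.zpowers_le]; exact h.hTS ht
    · intro x hx
      obtain ⟨n, rfl⟩ := Subgroup.mem_zpowers_iff.mp hx
      rw [← conj_zpow]
      exact Subgroup.zpow_mem _ hS n
  exact stronglyClosed_mapsTo h.hTsc hmap (by rw [Subgroup.zpowers_le]; exact ht) t
    (Subgroup.mem_zpowers t)

theorem conj_mem_T_of_mem_S (h : NsgHyp p S E) {s t : G} (hs : s ∈ (S : Subgroup G)) (ht : t ∈ T) :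
    s * t * s⁻¹ ∈ T :=
  h.conj_mem_T s ht (Subgroup.mul_mem _ (Subgroup.mul_mem _ hs (h.hTS ht)) (Subgroup.inv_mem _ hs))

/-- `R = O_p(G) ∩ T` is normal in `G` -/
theorem R_conj (h : NsgHyp p S E) (x : G) {r : G} (hr : r ∈ pCore p G ⊓ T) :
    x * r * x⁻¹ ∈ pCore p G ⊓ T := by
  have h1 : x * r * x⁻¹ ∈ pCore p G := (pCore_normal p G).conj_mem r hr.1 x
  exact ⟨h1, h.conj_mem_T x hr.2 (Helper51.pCore_le_sylow S h1)⟩

/-- `R` is normal in `E` -/
theorem R_normal (h : NsgHyp p S E) : E.IsNormal (pCore p G ⊓ T) := by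
  have hO : (groupFusionSystem (S : Subgroup G)).IsNormal (pCore p G) :=
    Cfsg.Agent.S5102.result p S (pCore p G) (Helper51.pCore_isPGroup p G)
  have hR := Helper87.isNormal_inf_stronglyClosed (groupFusionSystem (S : Subgroup G)) hO h.hTsc
  rw [Helper84.normal_iff_stronglyClosed p h.hTp E h.hEs]
  refine ⟨⟨inf_le_right, fun P hP φ hφ x => ?_⟩, fun P hc hr =>
    Helper87.normal_le_of_sub_centric_radical S.isPGroup' (groupFusionSystem (S : Subgroup G)) E h.hEF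
      h.hTS hR inf_le_right hc hr⟩
  exact (Helper84.normal_stronglyClosed _ hR).2 P hP φ (h.hEF P hφ) x

theorem R_auto_rec (h : NsgHyp p S E) :
    E.IsFullyAutomized p (pCore p G ⊓ T) ∧ E.IsReceptive (pCore p G ⊓ T) :=
  Helper84.saturated_fullyNormalized h.hTp E h.hEs (Helper84.normal_fullyNormalized E h.R_normal)

/-- elements stabilizing the series `1 ≤ R ≤ O_p(G)` lie in `O_p(G)` -/
theorem mem_core_of_stab (h : NsgHyp p S E) {g : G}
    (h1 : ∀ o ∈ pCore p G, g * o * g⁻¹ * o⁻¹ ∈ pCore p G ⊓ T)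
    (h2 : ∀ r ∈ pCore p G ⊓ T, g * r * g⁻¹ = r) : g ∈ pCore p G :=
  Helper87.mem_pCore_of_stabilizes h.hG (Helper51.pCore_isPGroup p G) (pCore p G ⊓ T) inf_le_left
    (fun x _ hr => h.R_conj x hr) g h1 h2

theorem comm_mem_R (h : NsgHyp p S E) {t o : G} (ht : t ∈ T) (ho : o ∈ pCore p G) :
    t * o * t⁻¹ * o⁻¹ ∈ pCore p G ⊓ T := by
  refine ⟨Subgroup.mul_mem _ ((pCore_normal p G).conj_mem o ho t) (Subgroup.inv_mem _ ho), ?_⟩
  have h1 : o * t⁻¹ * o⁻¹ ∈ T := h.conj_mem_T_of_mem_S (Helper51.pCore_le_sylow S ho) (T.inv_mem ht)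
  have e : t * o * t⁻¹ * o⁻¹ = t * (o * t⁻¹ * o⁻¹) := by group
  rw [e]
  exact T.mul_mem ht h1

/-- `C_T(R) ≤ R` -/
theorem cent_T_le (h : NsgHyp p S E) {c : G} (hc : c ∈ T)
    (hcen : ∀ r ∈ pCore p G ⊓ T, c * r * c⁻¹ = r) : c ∈ pCore p G ⊓ T :=
  ⟨h.mem_core_of_stab (fun _ ho => h.comm_mem_R hc ho) hcen, hc⟩

/-- every map of `E` is conjugation by an element of `G` -/
theorem exists_conj (h : NsgHyp p S E) {P : Subgroup G} {f : G → G} (hf : IsMap E P f) :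
    ∃ g : G, (∀ x ∈ P, f x = g * x * g⁻¹) ∧ nsgEC E P g := by
  have hF := isMap_of_isSubsystemOf h.hEF hf
  obtain ⟨-, -, g, hg⟩ := (nsg_isMap_groupFS_iff _ _ _).mp hF
  exact ⟨g, hg, hf.congr (fun x hx => (hg x hx).symm)⟩

/-- invariance: conjugating an `E`-automorphism of `U` by an element normalizing `U` -/
theorem EC_conj (h : NsgHyp p S E) {U : Subgroup G} (hUT : U ≤ T) {g w : G} (hg : nsgEC E U g)
    (hgU : ∀ u ∈ U, g * u * g⁻¹ ∈ U) (hwU : ∀ u ∈ U, w * u * w⁻¹ ∈ U) :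
    nsgEC E U (w * g * w⁻¹) := by
  have hψ : IsMap (groupFusionSystem (S : Subgroup G)) U (fun x => w * x * w⁻¹) := by
    rw [nsg_isMap_groupFS_iff]
    exact ⟨hUT.trans h.hTS, fun x hx => h.hTS (hUT (hwU x hx)), w, fun _ _ => rfl⟩
  have key := invariant_isMap S.isPGroup' h.hFs h.hinv (le_refl U) hUT hg hgU hψ
    (g := fun x => (w * g * w⁻¹) * x * (w * g * w⁻¹)⁻¹) (fun x _ => by
      show w * g * w⁻¹ * (w * x * w⁻¹) * (w * g * w⁻¹)⁻¹ = w * (g * x * g⁻¹) * w⁻¹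
      group)
  rw [IsMap.img_eq_of_mapsTo hψ hwU] at key
  exact key

end NsgHyp

/-- the subgroup `B` -/
def nsgB (S : Sylow p G) {T : Subgroup G} (E : FusionSystem T) (h : NsgHyp p S E) : Subgroup G where
  carrier := {g | (∀ o ∈ pCore p G, g * o * g⁻¹ * o⁻¹ ∈ pCore p G ⊓ T) ∧ nsgEC E (pCore p G ⊓ T) g}
  one_mem' := by
    refine ⟨fun o ho => ?_, nsgEC_of_mem E inf_le_right T.one_mem⟩
    have e : (1 : G) * o * 1⁻¹ * o⁻¹ = 1 := by group
    rw [e]
    exact Subgroup.one_mem _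
  mul_mem' := by
    rintro a b ⟨ha1, ha2⟩ ⟨hb1, hb2⟩
    refine ⟨fun o ho => ?_, nsgEC.mul hb2 ha2 (fun x hx => h.R_conj b hx)⟩
    have e : a * b * o * (a * b)⁻¹ * o⁻¹ =
        (a * (b * o * b⁻¹ * o⁻¹) * a⁻¹) * (a * o * a⁻¹ * o⁻¹) := by group
    rw [e]
    exact Subgroup.mul_mem _ (h.R_conj a (hb1 o ho)) (ha1 o ho)
  inv_mem' := by
    rintro a ⟨ha1, ha2⟩
    refine ⟨fun o ho => ?_, nsgEC.inv ha2 (fun x hx => h.R_conj a hx)⟩
    have ho' : a⁻¹ * o * a ∈ pCore p G := by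
      have := (pCore_normal p G).conj_mem o ho a⁻¹
      simpa using this
    have e : a⁻¹ * o * a⁻¹⁻¹ * o⁻¹ = (a * (a⁻¹ * o * a) * a⁻¹ * (a⁻¹ * o * a)⁻¹)⁻¹ := by group
    rw [e]
    exact Subgroup.inv_mem _ (ha1 _ ho')

namespace NsgHyp

variable {S : Sylow p G} {T : Subgroup G} {E : FusionSystem T}

theorem B_normal (h : NsgHyp p S E) : (nsgB S E h).Normal := by
  refine ⟨fun b hb x => ?_⟩
  obtain ⟨hb1, hb2⟩ := hb
  refine ⟨fun o ho => ?_, h.EC_conj inf_le_right hb2 (fun u hu => h.R_conj b hu)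
    (fun u hu => h.R_conj x hu)⟩
  have ho' : x⁻¹ * o * x ∈ pCore p G := by
    have := (pCore_normal p G).conj_mem o ho x⁻¹
    simpa using this
  have e : x * b * x⁻¹ * o * (x * b * x⁻¹)⁻¹ * o⁻¹ =
      x * (b * (x⁻¹ * o * x) * b⁻¹ * (x⁻¹ * o * x)⁻¹) * x⁻¹ := by group
  rw [e]
  exact h.R_conj x (hb1 _ ho')

theorem T_le_B (h : NsgHyp p S E) : T ≤ nsgB S E h :=
  fun _ ht => ⟨fun _ ho => h.comm_mem_R ht ho, nsgEC_of_mem E inf_le_right ht⟩

theorem mem_core_of_mem_B (h : NsgHyp p S E) {g : G} (hg : g ∈ nsgB S E h)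
    (hc : ∀ r ∈ pCore p G ⊓ T, g * r * g⁻¹ = r) : g ∈ pCore p G :=
  h.mem_core_of_stab hg.1 hc

/-- `S ∩ B = T D`: an element of `S ∩ B` acts on `R` like an element of `T` -/
theorem exists_T_of_mem_S_B (h : NsgHyp p S E) {b : G} (hbS : b ∈ (S : Subgroup G))
    (hbB : b ∈ nsgB S E h) : ∃ t ∈ T, ∀ r ∈ pCore p G ⊓ T, b * r * b⁻¹ = t * r * t⁻¹ := by
  have hEC : nsgEC E (pCore p G ⊓ T) b := hbB.2
  have himg : img (pCore p G ⊓ T) (fun x => b * x * b⁻¹) = pCore p G ⊓ T :=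
    IsMap.img_eq_of_mapsTo hEC (fun x hx => h.R_conj b hx)
  obtain ⟨γ, hγ, hγb⟩ := IsMap.exists_aut hEC himg
  have hγb' : ∀ u ∈ pCore p G ⊓ T, autFun γ u = b * u * b⁻¹ := hγb
  obtain ⟨k, hk⟩ := S.isPGroup' ⟨b, hbS⟩
  have hbk : b ^ p ^ k = 1 := congrArg Subtype.val hk
  have hγk : γ ^ p ^ k = 1 := by
    apply autFun_ext
    intro u hu
    rw [nsg_autFun_pow hγb' (p ^ k) u hu, hbk, autFun_one hu]
    group
  have hn : ∀ β ∈ autInducedBy T (pCore p G ⊓ T), γ * β * γ⁻¹ ∈ autInducedBy T (pCore p G ⊓ T) := by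
    intro β hβ
    obtain ⟨t, ht, hβt⟩ := (Helper88.mem_autInducedBy_iff T _ β).mp hβ
    refine (Helper88.mem_autInducedBy_iff T _ _).mpr ⟨b * t * b⁻¹, h.conj_mem_T_of_mem_S hbS ht, fun x => ?_⟩
    have hy : ((γ⁻¹ x : ↥(pCore p G ⊓ T)) : G) ∈ pCore p G ⊓ T := (γ⁻¹ x).2
    have h1 : ((β (γ⁻¹ x) : ↥(pCore p G ⊓ T)) : G) = t * ((γ⁻¹ x : ↥(pCore p G ⊓ T)) : G) * t⁻¹ :=
      hβt _
    have h2 : (x : G) = b * ((γ⁻¹ x : ↥(pCore p G ⊓ T)) : G) * b⁻¹ := by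
      have h3 := hγb' _ hy
      rw [autFun_apply, MulAut.apply_inv_self] at h3
      exact h3
    show ((γ (β (γ⁻¹ x)) : ↥(pCore p G ⊓ T)) : G) = _
    rw [← autFun_apply γ (β (γ⁻¹ x)), hγb' _ (β (γ⁻¹ x)).2, h1]
    conv_rhs => rw [h2]
    group
  have hmem := nsg_mem_autInducedBy_of_pElement h.R_auto_rec.1 hγ hγk hn
  obtain ⟨t, ht, hγt⟩ := (Helper88.mem_autInducedBy_iff T _ γ).mp hmem
  refine ⟨t, ht, fun r hr => ?_⟩
  rw [← hγb' r hr, autFun_apply' γ hr, hγt]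

end NsgHyp

end Cfsg.Agent.Helper85
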