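import Cfsg.Agent.Helper85.NsgB
import Cfsg.Agent.Helper84.FusionFocal
import Cfsg.Agent.Helper88.FusionAb
import Cfsg.Agent.Helper87.GroupFus

set_option autoImplicit false
open Cfsg

/-!
# Normal subsystems of the fusion system of a group of characteristic `p` (part C)

The automorphisms of `T` and of `R = O_p(G) ∩ T` in the subsystem are induced by elements of `B`.
-/

namespace Cfsg.Agent.Helper85

open Cfsg.FusionSystem
open Cfsg.Agent.Helper88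

/-- conjugating `Aut_K(U)` by an automorphism induced by an element normalizing `K` -/
theorem nsg_conj_autInducedBy {G : Type*} [Group G] {U K : Subgroup G} {γ : MulAut U} {b : G}
    (hγb : ∀ u ∈ U, autFun γ u = b * u * b⁻¹) (hK : ∀ t ∈ K, b * t * b⁻¹ ∈ K) :
    ∀ β ∈ autInducedBy K U, γ * β * γ⁻¹ ∈ autInducedBy K U := by
  intro β hβ
  obtain ⟨t, ht, hβt⟩ := (Helper88.mem_autInducedBy_iff K U β).mp hβ
  refine (Helper88.mem_autInducedBy_iff K U _).mpr ⟨b * t * b⁻¹, hK t ht, fun x => ?_⟩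
  have hy : ((γ⁻¹ x : U) : G) ∈ U := (γ⁻¹ x).2
  have h1 : ((β (γ⁻¹ x) : U) : G) = t * ((γ⁻¹ x : U) : G) * t⁻¹ := hβt _
  have h2 : (x : G) = b * ((γ⁻¹ x : U) : G) * b⁻¹ := by
    have h3 := hγb _ hy
    rw [autFun_apply, MulAut.apply_inv_self] at h3
    exact h3
  show ((γ (β (γ⁻¹ x)) : U) : G) = _
  rw [← autFun_apply γ (β (γ⁻¹ x)), hγb _ (β (γ⁻¹ x)).2, h1]
  conv_rhs => rw [h2]
  group

variable {G : Type*} [Group G] [Finite G] {p : ℕ} [Fact p.Prime]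

namespace NsgHyp

variable {S : Sylow p G} {T : Subgroup G} {E : FusionSystem T}

/-- an element of `S` inducing an automorphism of `T` in `E` lies in `T C_S(T)` -/
theorem pElt_EC_T (h : NsgHyp p S E) {u : G} (huS : u ∈ (S : Subgroup G)) (hu : nsgEC E T u) :
    ∃ t ∈ T, ∃ c ∈ centralizerIn (S : Subgroup G) T, u = t * c := by
  have himg : img T (fun x => u * x * u⁻¹) = T :=
    IsMap.img_eq_of_mapsTo hu (fun x hx => IsMap.mem hu hx)
  obtain ⟨γ, hγ, hγu⟩ := IsMap.exists_aut hu himg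
  have hγu' : ∀ y ∈ T, autFun γ y = u * y * u⁻¹ := hγu
  obtain ⟨k, hk⟩ := S.isPGroup' ⟨u, huS⟩
  have huk : u ^ p ^ k = 1 := congrArg Subtype.val hk
  have hγk : γ ^ p ^ k = 1 := by
    apply autFun_ext
    intro y hy
    rw [nsg_autFun_pow hγu' (p ^ k) y hy, huk, autFun_one hy]
    group
  have hn := nsg_conj_autInducedBy hγu' (K := T) (fun t ht => h.conj_mem_T_of_mem_S huS ht)
  have hmem := nsg_mem_autInducedBy_of_pElement (fullyAutomized_self h.hEs).1 hγ hγk hn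
  obtain ⟨t, ht, hγt⟩ := (Helper88.mem_autInducedBy_iff T T γ).mp hmem
  have hut : ∀ y ∈ T, u * y * u⁻¹ = t * y * t⁻¹ := by
    intro y hy
    rw [← hγu' y hy, autFun_apply' γ hy, hγt]
  refine ⟨t, ht, t⁻¹ * u, ?_, by group⟩
  refine mem_centralizerIn_iff.mpr
    ⟨Subgroup.mul_mem _ (Subgroup.inv_mem _ (h.hTS ht)) huS, fun y hy => ?_⟩
  have h3 := hut y hy
  calc y * (t⁻¹ * u) = t⁻¹ * (t * y * t⁻¹) * u := by group
    _ = t⁻¹ * (u * y * u⁻¹) * u := by rw [h3]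
    _ = t⁻¹ * u * y := by group

/-- a `|O_p(G)|`-th power of an element acting suitably on `T C_S(T)` acts trivially on `O_p(G)/R` -/
theorem pow_comm_mem_R (h : NsgHyp p S E) {g : G} (hgT : ∀ t ∈ T, g * t * g⁻¹ ∈ T)
    (hgC : ∀ c ∈ centralizerIn (S : Subgroup G) T, c⁻¹ * (g * c * g⁻¹) ∈ T)
    (hA : ∀ q ∈ pCore p G, ∃ t ∈ T, ∃ c ∈ centralizerIn (S : Subgroup G) T,
      q⁻¹ * g * q * g⁻¹ = t * c) :
    ∀ o ∈ pCore p G, g ^ Nat.card (pCore p G) * o * (g ^ Nat.card (pCore p G))⁻¹ * o⁻¹ ∈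
      pCore p G ⊓ T := by
  have hQn := pCore_normal p G
  have hB : ∀ x ∈ pCore p G, (∃ t ∈ T, ∃ c ∈ centralizerIn (S : Subgroup G) T, x = t * c) →
      x⁻¹ * g * x * g⁻¹ ∈ pCore p G ⊓ T := by
    rintro x hx ⟨t, ht, c, hc, rfl⟩
    refine ⟨?_, ?_⟩
    · have e : (t * c)⁻¹ * g * (t * c) * g⁻¹ = (t * c)⁻¹ * (g * (t * c) * g⁻¹) := by group
      rw [e]
      exact Subgroup.mul_mem _ (Subgroup.inv_mem _ hx) (hQn.conj_mem _ hx g)
    · have hcS : c ∈ (S : Subgroup G) := (mem_centralizerIn_iff.mp hc).1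
      have h1 : t⁻¹ * (g * t * g⁻¹) ∈ T := T.mul_mem (T.inv_mem ht) (hgT t ht)
      have h2 : c⁻¹ * (t⁻¹ * (g * t * g⁻¹)) * c ∈ T := by
        have h3 := h.conj_mem_T_of_mem_S (Subgroup.inv_mem _ hcS) h1
        rwa [inv_inv] at h3
      have e : (t * c)⁻¹ * g * (t * c) * g⁻¹ =
          (c⁻¹ * (t⁻¹ * (g * t * g⁻¹)) * c) * (c⁻¹ * (g * c * g⁻¹)) := by group
      rw [e]
      exact T.mul_mem h2 (hgC c hc)
  have hRn : (pCore p G ⊓ T).Normal := ⟨fun r hr x => h.R_conj x hr⟩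
  intro o ho
  obtain ⟨t, ht, c, hc, hcu⟩ := hA o ho
  have huQ : o⁻¹ * g * o * g⁻¹ ∈ pCore p G := by
    have e : o⁻¹ * g * o * g⁻¹ = o⁻¹ * (g * o * g⁻¹) := by group
    rw [e]
    exact Subgroup.mul_mem _ (Subgroup.inv_mem _ ho) (hQn.conj_mem o ho g)
  have huR := hB _ huQ ⟨t, ht, c, hc, hcu⟩
  have h1 : (QuotientGroup.mk' (pCore p G ⊓ T)) g * (QuotientGroup.mk' (pCore p G ⊓ T)) o *
      ((QuotientGroup.mk' (pCore p G ⊓ T)) g)⁻¹ =
      (QuotientGroup.mk' (pCore p G ⊓ T)) o * (QuotientGroup.mk' (pCore p G ⊓ T)) (o⁻¹ * g * o * g⁻¹) := by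
    rw [← map_inv, ← map_mul, ← map_mul, ← map_mul]
    congr 1
    group
  have h2 : (QuotientGroup.mk' (pCore p G ⊓ T)) g *
      (QuotientGroup.mk' (pCore p G ⊓ T)) (o⁻¹ * g * o * g⁻¹) *
      ((QuotientGroup.mk' (pCore p G ⊓ T)) g)⁻¹ =
      (QuotientGroup.mk' (pCore p G ⊓ T)) (o⁻¹ * g * o * g⁻¹) := by
    have h3 : (QuotientGroup.mk' (pCore p G ⊓ T))
        ((o⁻¹ * g * o * g⁻¹)⁻¹ * g * (o⁻¹ * g * o * g⁻¹) * g⁻¹) = 1 :=
      (QuotientGroup.eq_one_iff _).mpr huR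
    have e : g * (o⁻¹ * g * o * g⁻¹) * g⁻¹ =
        (o⁻¹ * g * o * g⁻¹) * ((o⁻¹ * g * o * g⁻¹)⁻¹ * g * (o⁻¹ * g * o * g⁻¹) * g⁻¹) := by group
    rw [← map_inv, ← map_mul, ← map_mul, e, map_mul, h3, mul_one]
  have h4 := nsg_pow_conj_chain h1 h2 (Nat.card (pCore p G))
  have huN : (o⁻¹ * g * o * g⁻¹) ^ Nat.card (pCore p G) = 1 := by
    have h5 := pow_card_eq_one' (G := pCore p G) (x := ⟨o⁻¹ * g * o * g⁻¹, huQ⟩)
    exact congrArg Subtype.val h5
  have h5 : (QuotientGroup.mk' (pCore p G ⊓ T))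
      (g ^ Nat.card (pCore p G) * o * (g ^ Nat.card (pCore p G))⁻¹ * o⁻¹) = 1 := by
    rw [map_mul, map_mul, map_mul, map_inv, map_inv, map_pow, h4, ← map_pow, huN, map_one, mul_one,
      mul_inv_cancel]
  exact (QuotientGroup.eq_one_iff _).mp h5

/-- automorphisms of `T` in `E` of order prime to `p` are induced by elements of `B` -/
theorem exists_B_of_pPrime (h : NsgHyp p S E) {β : MulAut T} (hβ : β ∈ E.autGroup T) {m : ℕ}
    (hm : m.Coprime p) (hβm : β ^ m = 1) :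
    ∃ b ∈ nsgB S E h, ∀ t ∈ T, autFun β t = b * t * b⁻¹ := by
  obtain ⟨β', hβ', hext, hcen⟩ := h.hE.2 β hβ
  have hle : T ⊔ centralizerIn (S : Subgroup G) T ≤ S := sup_le h.hTS inf_le_left
  obtain ⟨g, hg⟩ := (Helper87.mem_groupFusion_autGroup_iff (S : Subgroup G) hle β').mp hβ'
  have hgT : ∀ t ∈ T, autFun β t = g * t * g⁻¹ := by
    intro t ht
    rw [autFun_apply' β ht, ← hext ⟨t, ht⟩, hg]
    rfl
  have hgC : ∀ c ∈ centralizerIn (S : Subgroup G) T, c⁻¹ * (g * c * g⁻¹) ∈ T := by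
    intro c hc
    have h1 := hcen ⟨c, Subgroup.mem_sup_right hc⟩ hc
    rw [hg] at h1
    exact h1.1
  have hECg : nsgEC E T g := (IsMap.of_mem_autGroup le_rfl hβ).congr (fun t ht => (hgT t ht).symm)
  have hgTm : ∀ t ∈ T, g * t * g⁻¹ ∈ T := fun t ht => by rw [← hgT t ht]; exact autFun_mem β ht
  have hECgi : nsgEC E T g⁻¹ := nsgEC.inv hECg hgTm
  have hQS : pCore p G ≤ S := Helper51.pCore_le_sylow S
  have hQn := pCore_normal p G
  have hA : ∀ q ∈ pCore p G, ∃ t ∈ T, ∃ c ∈ centralizerIn (S : Subgroup G) T,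
      q⁻¹ * g * q * g⁻¹ = t * c := by
    intro q hq
    have hqS : q⁻¹ ∈ (S : Subgroup G) := Subgroup.inv_mem _ (hQS hq)
    have h1 : nsgEC E T (q⁻¹ * g * q) := by
      have h2 := h.EC_conj le_rfl hECg hgTm (w := q⁻¹) (fun u hu => h.conj_mem_T_of_mem_S hqS hu)
      rwa [inv_inv] at h2
    have hECu : nsgEC E T (q⁻¹ * g * q * g⁻¹) :=
      nsgEC.mul hECgi h1 (fun x hx => IsMap.mem hECgi hx)
    have huQ : q⁻¹ * g * q * g⁻¹ ∈ pCore p G := by
      have e : q⁻¹ * g * q * g⁻¹ = q⁻¹ * (g * q * g⁻¹) := by group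
      rw [e]
      exact Subgroup.mul_mem _ (Subgroup.inv_mem _ hq) (hQn.conj_mem q hq g)
    exact h.pElt_EC_T (hQS huQ) hECu
  have hb₀ : g ^ Nat.card (pCore p G) ∈ nsgB S E h :=
    ⟨h.pow_comm_mem_R hgTm hgC hA,
      (nsgEC.pow le_rfl hECg hgTm (Nat.card (pCore p G))).restrict inf_le_right⟩
  obtain ⟨j, hj⟩ := IsPGroup.iff_card.mp (Helper51.pCore_isPGroup p G)
  have hcop : Nat.Coprime (p ^ j) (orderOf β) :=
    Nat.Coprime.coprime_dvd_right (orderOf_dvd_of_pow_eq_one hβm) (Nat.Coprime.pow_left j hm.symm)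
  obtain ⟨a, ha⟩ := exists_pow_eq_self_of_coprime hcop
  refine ⟨(g ^ Nat.card (pCore p G)) ^ a, Subgroup.pow_mem _ hb₀ a, fun t ht => ?_⟩
  have e1 : autFun β t = autFun (β ^ (Nat.card (pCore p G) * a)) t := by rw [pow_mul, hj, ha]
  rw [e1, nsg_autFun_pow hgT (Nat.card (pCore p G) * a) t ht, pow_mul]

/-- `Aut_E(T)` is induced by `B` -/
theorem autGroup_T_le (h : NsgHyp p S E) : E.autGroup T ≤ autInducedBy (nsgB S E h) T := by
  intro α hα
  obtain ⟨-, P₀, hP₀⟩ := (fullyAutomized_self h.hEs).1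
  obtain ⟨b₁, hb₁, r₁, hr₁, hab⟩ := Helper84.exists_mul_pResidual_sylow P₀ (⟨α, hα⟩ : E.autGroup T)
  have key : pResidual p (E.autGroup T) ≤ (autInducedBy (nsgB S E h) T).subgroupOf (E.autGroup T) := by
    unfold pResidual
    rw [Subgroup.closure_le]
    intro a ha
    have ha' : Nat.Coprime (orderOf a) p := ha
    have hpow : (a : MulAut T) ^ orderOf a = 1 := by
      have h1 := pow_orderOf_eq_one a
      exact congrArg Subtype.val h1
    obtain ⟨b, hb, hbt⟩ := h.exists_B_of_pPrime a.2 ha' hpow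
    refine (Helper88.mem_autInducedBy_iff _ T _).mpr ⟨b, hb, fun x => ?_⟩
    rw [← autFun_apply]
    exact hbt x x.2
  have h1 : (b₁ : MulAut T) ∈ autInducedBy (nsgB S E h) T := key hb₁
  have h2 : (r₁ : MulAut T) ∈ autInducedBy (nsgB S E h) T := by
    rw [hP₀] at hr₁
    exact Helper84.autInducedBy_mono h.T_le_B T hr₁
  have h3 : α = (b₁ : MulAut T) * (r₁ : MulAut T) := congrArg Subtype.val hab
  rw [h3]
  exact Subgroup.mul_mem _ h1 h2

theorem exists_B_of_EC_T (h : NsgHyp p S E) {x : G} (hx : nsgEC E T x) :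
    ∃ b ∈ nsgB S E h, ∀ t ∈ T, b * t * b⁻¹ = x * t * x⁻¹ := by
  have himg : img T (fun y => x * y * x⁻¹) = T :=
    IsMap.img_eq_of_mapsTo hx (fun y hy => IsMap.mem hx hy)
  obtain ⟨α, hα, hαx⟩ := IsMap.exists_aut hx himg
  obtain ⟨b, hb, hbt⟩ := (Helper88.mem_autInducedBy_iff _ T α).mp (h.autGroup_T_le hα)
  refine ⟨b, hb, fun t ht => ?_⟩
  have h1 : autFun α t = x * t * x⁻¹ := hαx t ht
  rw [← h1, autFun_apply' α ht, hbt]

/-- `Aut_E(R)` is induced by `B` -/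
theorem autGroup_R_le (h : NsgHyp p S E) :
    E.autGroup (pCore p G ⊓ T) ≤ autInducedBy (nsgB S E h) (pCore p G ⊓ T) := by
  have hBn := h.B_normal
  have hRT : pCore p G ⊓ T ≤ T := inf_le_right
  obtain ⟨-, P₀, hP₀⟩ := h.R_auto_rec.1
  -- the normal subgroup of `Aut_E(R)` of the automorphisms induced by `B`
  have hN : ((autInducedBy (nsgB S E h) (pCore p G ⊓ T)).subgroupOf
      (E.autGroup (pCore p G ⊓ T))).Normal := by
    refine ⟨fun n hn a => ?_⟩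
    obtain ⟨x, hx, -⟩ := h.exists_conj (IsMap.of_mem_autGroup hRT a.2)
    exact nsg_conj_autInducedBy hx (fun t ht => hBn.conj_mem t ht x) n hn
  have hle : (P₀ : Subgroup (E.autGroup (pCore p G ⊓ T))) ≤
      (autInducedBy (nsgB S E h) (pCore p G ⊓ T)).subgroupOf (E.autGroup (pCore p G ⊓ T)) := by
    rw [hP₀]
    intro a ha
    exact Helper84.autInducedBy_mono h.T_le_B _ ha
  have hfr := Sylow.normalizer_sup_eq_top (P₀.subtype hle)
  have hmap : Subgroup.map ((autInducedBy (nsgB S E h) (pCore p G ⊓ T)).subgroupOf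
      (E.autGroup (pCore p G ⊓ T))).subtype
      ((P₀.subtype hle : Sylow p _) : Subgroup _) = (P₀ : Subgroup (E.autGroup (pCore p G ⊓ T))) := by
    rw [Sylow.coe_subtype]
    exact Subgroup.map_subgroupOf_eq_of_le hle
  rw [hmap] at hfr
  intro α hα
  have hmem : (⟨α, hα⟩ : E.autGroup (pCore p G ⊓ T)) ∈
      Subgroup.normalizer ((P₀ : Subgroup (E.autGroup (pCore p G ⊓ T))) : Set _) ⊔
      (autInducedBy (nsgB S E h) (pCore p G ⊓ T)).subgroupOf (E.autGroup (pCore p G ⊓ T)) := by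
    rw [hfr]
    exact Subgroup.mem_top _
  obtain ⟨y, hy, z, hz, hyz⟩ := Subgroup.mem_sup_of_normal_right.mp hmem
  -- `y` normalizes `Aut_T(R)`, hence extends to `T`
  have hyN : ∀ t ∈ T, t ∈ T ∧ t ∈ Subgroup.normalizer ((pCore p G ⊓ T : Subgroup G) : Set G) ∧
      ∃ t' ∈ T, ∀ r ∈ pCore p G ⊓ T,
        autFun (y : MulAut ↥(pCore p G ⊓ T)) (t * r * t⁻¹) =
          t' * autFun (y : MulAut ↥(pCore p G ⊓ T)) r * t'⁻¹ := by
    intro t ht
    have htN : t ∈ Subgroup.normalizer ((pCore p G ⊓ T : Subgroup G) : Set G) :=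
      Helper84.mem_normalizer_of_forall_conj_mem _ (fun r hr => h.R_conj t hr)
    refine ⟨ht, htN, ?_⟩
    have hδ : Helper84.conjAut (pCore p G ⊓ T) t htN ∈ autInducedBy T (pCore p G ⊓ T) :=
      Helper84.conjAut_mem_autInducedBy ht htN
    have hδA : Helper84.conjAut (pCore p G ⊓ T) t htN ∈ E.autGroup (pCore p G ⊓ T) :=
      autInducedBy_le_autGroup E hRT hδ
    have hd : (⟨Helper84.conjAut (pCore p G ⊓ T) t htN, hδA⟩ : E.autGroup (pCore p G ⊓ T)) ∈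
        (P₀ : Subgroup (E.autGroup (pCore p G ⊓ T))) := by
      rw [hP₀]
      exact hδ
    have h1 := (Subgroup.mem_normalizer_iff.mp hy _).mp hd
    rw [hP₀] at h1
    obtain ⟨t', ht', hδt⟩ := (Helper88.mem_autInducedBy_iff T _ _).mp h1
    refine ⟨t', ht', fun r hr => ?_⟩
    have h2 := hδt ((y : MulAut ↥(pCore p G ⊓ T)) ⟨r, hr⟩)
    have h3 : (((y : MulAut ↥(pCore p G ⊓ T)) * Helper84.conjAut (pCore p G ⊓ T) t htN *
        (y : MulAut ↥(pCore p G ⊓ T))⁻¹) ((y : MulAut ↥(pCore p G ⊓ T)) ⟨r, hr⟩)) =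
        (y : MulAut ↥(pCore p G ⊓ T)) (Helper84.conjAut (pCore p G ⊓ T) t htN ⟨r, hr⟩) := by
      rw [MulAut.mul_apply, MulAut.mul_apply, MulAut.inv_apply_self]
    have h4 : ((Helper84.conjAut (pCore p G ⊓ T) t htN ⟨r, hr⟩ : ↥(pCore p G ⊓ T)) : G) =
        t * r * t⁻¹ := Helper84.conjAut_apply _ t htN ⟨r, hr⟩
    rw [autFun_apply' _ hr, ← h4, autFun_apply, ← h2]
    exact congrArg Subtype.val h3.symm
  obtain ⟨f', hf', hf'R⟩ := receptive_extend h.R_auto_rec.2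
    (IsMap.of_mem_autGroup hRT y.2) (img_autFun _) (N := T) hyN
  have hTR : T ⊔ (pCore p G ⊓ T) = T := sup_eq_left.mpr inf_le_right
  rw [hTR] at hf'
  obtain ⟨x, hx, hECx⟩ := h.exists_conj hf'
  obtain ⟨b, hb, hbt⟩ := h.exists_B_of_EC_T hECx
  have hyB : y ∈ (autInducedBy (nsgB S E h) (pCore p G ⊓ T)).subgroupOf
      (E.autGroup (pCore p G ⊓ T)) := by
    refine (Helper88.mem_autInducedBy_iff _ _ _).mpr ⟨b, hb, fun r => ?_⟩
    have h6 : ((((y : MulAut ↥(pCore p G ⊓ T)) r) : ↥(pCore p G ⊓ T)) : G) = b * r * b⁻¹ := by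
      rw [← autFun_apply, ← hf'R r r.2, hx r (hRT r.2), hbt r (hRT r.2)]
    exact h6
  have h5 : α = ((y * z : E.autGroup (pCore p G ⊓ T)) : MulAut ↥(pCore p G ⊓ T)) := by
    rw [hyz]
  rw [h5]
  exact Subgroup.mul_mem _ hyB hz

theorem exists_B_of_EC_R (h : NsgHyp p S E) {x : G} (hx : nsgEC E (pCore p G ⊓ T) x) :
    ∃ b ∈ nsgB S E h, ∀ r ∈ pCore p G ⊓ T, b * r * b⁻¹ = x * r * x⁻¹ := by
  have himg : img (pCore p G ⊓ T) (fun y => x * y * x⁻¹) = pCore p G ⊓ T :=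
    IsMap.img_eq_of_mapsTo hx (fun y hy => h.R_conj x hy)
  obtain ⟨α, hα, hαx⟩ := IsMap.exists_aut hx himg
  obtain ⟨b, hb, hbt⟩ := (Helper88.mem_autInducedBy_iff _ _ α).mp (h.autGroup_R_le hα)
  refine ⟨b, hb, fun r hr => ?_⟩
  have h1 : autFun α r = x * r * x⁻¹ := hαx r hr
  rw [← h1, autFun_apply' α hr, hbt]

end NsgHyp

end Cfsg.Agent.Helper85
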