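import Cfsg.Agent.Helper85.NsgC
import Cfsg.Agent.Helper85.Frattini
import Cfsg.Agent.Helper84.FusionGroup
import Cfsg.Agent.Helper86.Residual
import Cfsg.Agent.S5093

set_option autoImplicit false
open Cfsg

/-!
# Normal subsystems of the fusion system of a group of characteristic `p` (part D)

The normal subgroup `H = O^p(B) T`: it meets `S` in `T`, is normal in `G`, and induces on `R` the automorphisms
of the subsystem.
-/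

namespace Cfsg.Agent.Helper85

open Cfsg.FusionSystem
open Cfsg.Agent.Helper88

variable {G : Type*} [Group G] [Finite G] {p : ℕ} [Fact p.Prime]

/-- `O^p(B)` as a subgroup of `G` -/
def nsgK (S : Sylow p G) {T : Subgroup G} (E : FusionSystem T) (h : NsgHyp p S E) : Subgroup G :=
  (pResidual p ↥(nsgB S E h)).map (nsgB S E h).subtype

/-- the subgroup `H = O^p(B) T` -/
def nsgH (S : Sylow p G) {T : Subgroup G} (E : FusionSystem T) (h : NsgHyp p S E) : Subgroup G :=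
  nsgK S E h ⊔ T

namespace NsgHyp

variable {S : Sylow p G} {T : Subgroup G} {E : FusionSystem T}

theorem K_le_B (h : NsgHyp p S E) : nsgK S E h ≤ nsgB S E h := Subgroup.map_subtype_le _

theorem K_normal (h : NsgHyp p S E) : (nsgK S E h).Normal := by
  haveI := h.B_normal
  refine ⟨fun k hk x => ?_⟩
  obtain ⟨k₀, hk₀, rfl⟩ := hk
  exact ⟨MulAut.conjNormal x k₀,
    Helper86.map_pResidual_mem' p (MulAut.conjNormal x : MulAut ↥(nsgB S E h)).toMonoidHom hk₀,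
    MulAut.conjNormal_apply x k₀⟩

/-- `B = O^p(B) (S ∩ B)` -/
theorem exists_K_mul (h : NsgHyp p S E) {b : G} (hb : b ∈ nsgB S E h) :
    ∃ k ∈ nsgK S E h, ∃ s, s ∈ (S : Subgroup G) ∧ s ∈ nsgB S E h ∧ b = k * s := by
  haveI := h.B_normal
  obtain ⟨R₀, hR₀⟩ := sylow_inf_normal S (nsgB S E h)
  obtain ⟨b₁, hb₁, r₁, hr₁, hbr⟩ := Helper84.exists_mul_pResidual_sylow R₀ (⟨b, hb⟩ : nsgB S E h)
  rw [hR₀] at hr₁
  have hr₁' : (r₁ : G) ∈ (S : Subgroup G) ⊓ nsgB S E h := Subgroup.mem_subgroupOf.mp hr₁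
  exact ⟨b₁, ⟨b₁, hb₁, rfl⟩, r₁, hr₁'.1, r₁.2, congrArg Subtype.val hbr⟩

/-- the focal subgroup of `B` lies in `T` -/
theorem comm_mem_T (h : NsgHyp p S E) {x g : G} (hxS : x ∈ (S : Subgroup G)) (hxB : x ∈ nsgB S E h)
    (hg : g ∈ nsgB S E h) (hgx : g * x * g⁻¹ ∈ (S : Subgroup G)) : x⁻¹ * (g * x * g⁻¹) ∈ T := by
  have hQS : pCore p G ≤ S := Helper51.pCore_le_sylow S
  have hQn := pCore_normal p G
  obtain ⟨t, ht, hxt⟩ := h.exists_T_of_mem_S_B hxS hxB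
  have hdB : t⁻¹ * x ∈ nsgB S E h := Subgroup.mul_mem _ (Subgroup.inv_mem _ (h.T_le_B ht)) hxB
  have hdc : ∀ r ∈ pCore p G ⊓ T, t⁻¹ * x * r * (t⁻¹ * x)⁻¹ = r := by
    intro r hr
    have e : t⁻¹ * x * r * (t⁻¹ * x)⁻¹ = t⁻¹ * (x * r * x⁻¹) * t := by group
    rw [e, hxt r hr]
    group
  have hdQ : t⁻¹ * x ∈ pCore p G := h.mem_core_of_mem_B hdB hdc
  have hgd : g * (t⁻¹ * x) * g⁻¹ ∈ pCore p G := hQn.conj_mem _ hdQ g
  have hgt : g * t * g⁻¹ ∈ T := by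
    apply h.conj_mem_T g ht
    have e : g * t * g⁻¹ = (g * x * g⁻¹) * (g * (t⁻¹ * x) * g⁻¹)⁻¹ := by group
    rw [e]
    exact Subgroup.mul_mem _ hgx (Subgroup.inv_mem _ (hQS hgd))
  have h1 : t⁻¹ * (g * t * g⁻¹) ∈ T := T.mul_mem (T.inv_mem ht) hgt
  have h2 : (t⁻¹ * x)⁻¹ * (t⁻¹ * (g * t * g⁻¹)) * (t⁻¹ * x) ∈ T := by
    have h3 := h.conj_mem_T_of_mem_S (Subgroup.inv_mem _ (hQS hdQ)) h1
    rwa [inv_inv] at h3
  have h4 : g * (t⁻¹ * x) * g⁻¹ * (t⁻¹ * x)⁻¹ ∈ pCore p G ⊓ T := hg.1 _ hdQ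
  have h5 : (t⁻¹ * x)⁻¹ * (g * (t⁻¹ * x) * g⁻¹) ∈ T := by
    have h6 := h.R_conj (t⁻¹ * x)⁻¹ h4
    have e : (t⁻¹ * x)⁻¹ * (g * (t⁻¹ * x) * g⁻¹ * (t⁻¹ * x)⁻¹) * (t⁻¹ * x)⁻¹⁻¹ =
        (t⁻¹ * x)⁻¹ * (g * (t⁻¹ * x) * g⁻¹) := by group
    rw [e] at h6
    exact h6.2
  have e : x⁻¹ * (g * x * g⁻¹) = ((t⁻¹ * x)⁻¹ * (t⁻¹ * (g * t * g⁻¹)) * (t⁻¹ * x)) *
      ((t⁻¹ * x)⁻¹ * (g * (t⁻¹ * x) * g⁻¹)) := by group
  rw [e]
  exact T.mul_mem h2 h5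

/-- `S ∩ O^p(B) ≤ T` (by the hyperfocal subgroup theorem) -/
theorem K_inf_S_le (h : NsgHyp p S E) {x : G} (hxK : x ∈ nsgK S E h) (hxS : x ∈ (S : Subgroup G)) :
    x ∈ T := by
  haveI := h.B_normal
  obtain ⟨R₀, hR₀⟩ := sylow_inf_normal S (nsgB S E h)
  obtain ⟨y, hy, rfl⟩ := hxK
  have hyR : y ∈ (R₀ : Subgroup ↥(nsgB S E h)) := by
    rw [hR₀]
    exact Subgroup.mem_subgroupOf.mpr ⟨hxS, y.2⟩
  have hhyp : y ∈ (groupFusionSystem (R₀ : Subgroup ↥(nsgB S E h))).hyperfocalSubgroup p := by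
    rw [Cfsg.Agent.S5093.result p R₀]
    exact ⟨hyR, hy⟩
  have hRS : ∀ z : ↥(nsgB S E h), z ∈ (R₀ : Subgroup ↥(nsgB S E h)) → (z : G) ∈ (S : Subgroup G) := by
    intro z hz
    rw [hR₀] at hz
    exact (Subgroup.mem_subgroupOf.mp hz).1
  have hle : (groupFusionSystem (R₀ : Subgroup ↥(nsgB S E h))).hyperfocalSubgroup p ≤
      T.subgroupOf (nsgB S E h) := by
    unfold FusionSystem.hyperfocalSubgroup
    rw [Subgroup.closure_le]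
    rintro _ ⟨P, α, x₀, hP, -, rfl⟩
    obtain ⟨g, hg⟩ := (Helper87.mem_groupFusion_autGroup_iff (R₀ : Subgroup ↥(nsgB S E h)) hP
      (α : MulAut P)).mp α.2
    have hx₀ : ((x₀ : ↥(nsgB S E h)) : G) ∈ (S : Subgroup G) := hRS _ (hP x₀.2)
    have hαx₀ : (((((α : MulAut P) x₀ : P) : ↥(nsgB S E h))) : G) ∈ (S : Subgroup G) :=
      hRS _ (hP ((α : MulAut P) x₀).2)
    have hgx : (g : G) * ((x₀ : ↥(nsgB S E h)) : G) * (g : G)⁻¹ ∈ (S : Subgroup G) := by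
      have h2 := hαx₀
      rw [hg x₀] at h2
      exact h2
    have key := h.comm_mem_T hx₀ (x₀ : ↥(nsgB S E h)).2 g.2 hgx
    have h3 : (((x₀ : ↥(nsgB S E h))⁻¹ * (((α : MulAut P) x₀ : P) : ↥(nsgB S E h)) :
        ↥(nsgB S E h)) : G) ∈ T := by
      rw [hg x₀]
      exact key
    exact h3
  exact Subgroup.mem_subgroupOf.mp (hle hhyp)

theorem T_le_H (h : NsgHyp p S E) : T ≤ nsgH S E h := le_sup_right

theorem K_le_H (h : NsgHyp p S E) : nsgK S E h ≤ nsgH S E h := le_sup_left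

theorem H_le_B (h : NsgHyp p S E) : nsgH S E h ≤ nsgB S E h := sup_le h.K_le_B h.T_le_B

theorem H_inf_S_le (h : NsgHyp p S E) {x : G} (hxH : x ∈ nsgH S E h) (hxS : x ∈ (S : Subgroup G)) :
    x ∈ T := by
  haveI := h.K_normal
  have hxH' : x ∈ nsgK S E h ⊔ T := hxH
  obtain ⟨k, hk, t, ht, rfl⟩ := Subgroup.mem_sup_of_normal_left.mp hxH'
  have hkS : k ∈ (S : Subgroup G) := by
    have e : k = (k * t) * t⁻¹ := by group
    rw [e]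
    exact Subgroup.mul_mem _ hxS (Subgroup.inv_mem _ (h.hTS ht))
  exact T.mul_mem (h.K_inf_S_le hk hkS) ht

theorem H_normal (h : NsgHyp p S E) : (nsgH S E h).Normal := by
  haveI hBn := h.B_normal
  haveI hKn := h.K_normal
  refine ⟨fun n hn g => ?_⟩
  have hn' : n ∈ nsgK S E h ⊔ T := hn
  obtain ⟨k, hk, t, ht, rfl⟩ := Subgroup.mem_sup_of_normal_left.mp hn'
  have e : g * (k * t) * g⁻¹ = (g * k * g⁻¹) * (g * t * g⁻¹) := by group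
  rw [e]
  refine Subgroup.mul_mem _ (h.K_le_H (hKn.conj_mem k hk g)) ?_
  have hY : IsPGroup p (Helper84.cj g T) := Helper84.isPGroup_cj h.hTp
  have hYB : Helper84.cj g T ≤ nsgB S E h := by
    rintro _ ⟨y, hy, rfl⟩
    exact hBn.conj_mem y (h.T_le_B hy) g
  obtain ⟨n₀, hn₀, hconj⟩ := sylow_conj_of_normal S (nsgB S E h) hY hYB
  have h1 : n₀ * (g * t * g⁻¹) * n₀⁻¹ ∈ (S : Subgroup G) := hconj _ (Helper84.cj_mem ht)
  have h2 : (n₀ * g) * t * (n₀ * g)⁻¹ ∈ T := by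
    apply h.conj_mem_T (n₀ * g) ht
    have e2 : n₀ * g * t * (n₀ * g)⁻¹ = n₀ * (g * t * g⁻¹) * n₀⁻¹ := by group
    rw [e2]
    exact h1
  obtain ⟨k', hk', s, hsS, hsB, hns⟩ := h.exists_K_mul (Subgroup.inv_mem _ hn₀)
  have h3 : s * ((n₀ * g) * t * (n₀ * g)⁻¹) * s⁻¹ ∈ T := h.conj_mem_T_of_mem_S hsS h2
  have e3 : g * t * g⁻¹ = k' * (s * ((n₀ * g) * t * (n₀ * g)⁻¹) * s⁻¹) * k'⁻¹ := by
    have e4 : g * t * g⁻¹ = n₀⁻¹ * ((n₀ * g) * t * (n₀ * g)⁻¹) * n₀⁻¹⁻¹ := by group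
    rw [e4, hns]
    group
  rw [e3]
  exact Subgroup.mul_mem _ (Subgroup.mul_mem _ (h.K_le_H hk') (h.T_le_H h3))
    (Subgroup.inv_mem _ (h.K_le_H hk'))

theorem S_inf_H (h : NsgHyp p S E) : (S : Subgroup G) ⊓ nsgH S E h = T :=
  le_antisymm (fun _ hx => h.H_inf_S_le hx.2 hx.1) (le_inf h.hTS h.T_le_H)

theorem T_sylow_H (h : NsgHyp p S E) :
    ∃ R₀ : Sylow p ↥(nsgH S E h), (R₀ : Subgroup ↥(nsgH S E h)) = T.subgroupOf (nsgH S E h) := by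
  haveI := h.H_normal
  obtain ⟨R₀, hR₀⟩ := sylow_inf_normal S (nsgH S E h)
  exact ⟨R₀, by rw [hR₀, h.S_inf_H]⟩

/-- `C_H(R) ≤ R` -/
theorem cent_H_le (h : NsgHyp p S E) {x : G} (hx : x ∈ nsgH S E h)
    (hc : ∀ r ∈ pCore p G ⊓ T, x * r * x⁻¹ = r) : x ∈ pCore p G ⊓ T := by
  have hQ := h.mem_core_of_mem_B (h.H_le_B hx) hc
  exact ⟨hQ, h.H_inf_S_le hx (Helper51.pCore_le_sylow S hQ)⟩

theorem exists_H_of_B (h : NsgHyp p S E) {b : G} (hb : b ∈ nsgB S E h) :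
    ∃ x ∈ nsgH S E h, ∀ r ∈ pCore p G ⊓ T, x * r * x⁻¹ = b * r * b⁻¹ := by
  obtain ⟨k, hk, s, hsS, hsB, rfl⟩ := h.exists_K_mul hb
  obtain ⟨t, ht, hst⟩ := h.exists_T_of_mem_S_B hsS hsB
  refine ⟨k * t, Subgroup.mul_mem _ (h.K_le_H hk) (h.T_le_H ht), fun r hr => ?_⟩
  have e1 : k * t * r * (k * t)⁻¹ = k * (t * r * t⁻¹) * k⁻¹ := by group
  have e2 : k * s * r * (k * s)⁻¹ = k * (s * r * s⁻¹) * k⁻¹ := by group
  rw [e1, e2, hst r hr]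

/-- `Aut_E(R) = Aut_H(R)` -/
theorem exists_H_of_EC_R (h : NsgHyp p S E) {x : G} (hx : nsgEC E (pCore p G ⊓ T) x) :
    ∃ y ∈ nsgH S E h, ∀ r ∈ pCore p G ⊓ T, y * r * y⁻¹ = x * r * x⁻¹ := by
  obtain ⟨b, hb, hbx⟩ := h.exists_B_of_EC_R hx
  obtain ⟨y, hy, hyb⟩ := h.exists_H_of_B hb
  exact ⟨y, hy, fun r hr => (hyb r hr).trans (hbx r hr)⟩

end NsgHyp

end Cfsg.Agent.Helper85
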