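import Cfsg.Agent.Helper85.NsgD
import Cfsg.Agent.Helper88.FusionAlperin
import Cfsg.Agent.Helper88.FusionNormal

set_option autoImplicit false
open Cfsg

/-!
# Normal subsystems of the fusion system of a group of characteristic `p` (part E)

The subsystem `E` is the fusion system of `H = O^p(B) T` on `T`.
-/

namespace Cfsg.Agent.Helper85

open Cfsg.FusionSystem
open Cfsg.Agent.Helper88

variable {G : Type*} [Group G] [Finite G] {p : ℕ} [Fact p.Prime]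

/-- the elements normalizing `U` and inducing on it an automorphism of `E` -/
def nsgAutE {T : Subgroup G} (E : FusionSystem T) (U : Subgroup G) (hUT : U ≤ T) : Subgroup G where
  carrier := {g | g ∈ Subgroup.normalizer (U : Set G) ∧ nsgEC E U g}
  one_mem' := ⟨Subgroup.one_mem _, nsgEC_of_mem E hUT T.one_mem⟩
  mul_mem' := by
    rintro a b ⟨ha, ha'⟩ ⟨hb, hb'⟩
    exact ⟨Subgroup.mul_mem _ ha hb,
      nsgEC.mul hb' ha' (fun x hx => (Subgroup.mem_normalizer_iff.mp hb x).mp hx)⟩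
  inv_mem' := by
    rintro a ⟨ha, ha'⟩
    exact ⟨Subgroup.inv_mem _ ha, nsgEC.inv ha' (fun x hx => (Subgroup.mem_normalizer_iff.mp ha x).mp hx)⟩

namespace NsgHyp

variable {S : Sylow p G} {T : Subgroup G} {E : FusionSystem T}

/-- the fusion system of `H` on `T` is saturated -/
theorem FH_saturated (h : NsgHyp p S E) :
    (fusionSystemOfSubgroup (nsgH S E h) T h.T_le_H).IsSaturated p := by
  obtain ⟨R₀, hR₀⟩ := h.T_sylow_H
  refine saturated_of_realized _ (Subgroup.inclusion h.T_le_H)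
    ⟨Subgroup.inclusion_injective _, fun P hP φ hφ => ?_⟩ R₀ ?_
  · constructor
    · rintro ⟨-, -, g, hgH, hg⟩
      exact ⟨⟨g, hgH⟩, fun x => Subtype.ext (hg x)⟩
    · rintro ⟨g, hg⟩
      exact ⟨hP, hφ, g.1, g.2, fun x => congrArg Subtype.val (hg x)⟩
  · rw [hR₀]
    ext y
    constructor
    · intro hy
      exact ⟨⟨y, hy⟩, rfl⟩
    · rintro ⟨x, rfl⟩
      exact x.2

/-- `R` is normal in the fusion system of `H` on `T` -/
theorem FH_R_normal (h : NsgHyp p S E) :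
    (fusionSystemOfSubgroup (nsgH S E h) T h.T_le_H).IsNormal (pCore p G ⊓ T) := by
  rw [isNormal_iff]
  refine ⟨inf_le_right, fun P f hf => ?_⟩
  obtain ⟨hP, hfT, g, hgH, hg⟩ := (nsg_isMap_subFS_iff _ _ _ _ _).mp hf
  have hle : P ⊔ (pCore p G ⊓ T) ≤ T.comap (MulAut.conj g).toMonoidHom := by
    refine sup_le (fun x hx => ?_) (fun x hx => (h.R_conj g hx).2)
    show g * x * g⁻¹ ∈ T
    rw [← hg x hx]
    exact hfT x hx
  refine ⟨fun x => g * x * g⁻¹, ?_, fun x hx => (hg x hx).symm, fun x hx => h.R_conj g hx⟩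
  rw [nsg_isMap_subFS_iff]
  exact ⟨sup_le hP inf_le_right, fun x hx => hle hx, g, hgH, fun _ _ => rfl⟩

/-- two elements agreeing on `R`: the quotient of their actions on any element centralizes `R` -/
theorem cent_of_agree (h : NsgHyp p S E) {a b : G}
    (hab : ∀ r ∈ pCore p G ⊓ T, a * r * a⁻¹ = b * r * b⁻¹) (u : G) :
    ∀ r ∈ pCore p G ⊓ T, (a * u * a⁻¹)⁻¹ * (b * u * b⁻¹) * r * ((a * u * a⁻¹)⁻¹ * (b * u * b⁻¹))⁻¹ = r := by
  intro r hr
  have hr₁ : b⁻¹ * r * b ∈ pCore p G ⊓ T := by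
    have h1 := h.R_conj b⁻¹ hr
    rwa [inv_inv] at h1
  have hr₂ : u * (b⁻¹ * r * b) * u⁻¹ ∈ pCore p G ⊓ T := h.R_conj u hr₁
  have e1 : b * (b⁻¹ * r * b) * b⁻¹ = r := by group
  have e2 : a * (b⁻¹ * r * b) * a⁻¹ = r := by rw [hab _ hr₁, e1]
  have e3 := hab _ hr₂
  calc (a * u * a⁻¹)⁻¹ * (b * u * b⁻¹) * r * ((a * u * a⁻¹)⁻¹ * (b * u * b⁻¹))⁻¹
      = (a * u * a⁻¹)⁻¹ * (b * (u * (b⁻¹ * r * b) * u⁻¹) * b⁻¹) * (a * u * a⁻¹) := by group
    _ = (a * u * a⁻¹)⁻¹ * (a * (u * (b⁻¹ * r * b) * u⁻¹) * a⁻¹) * (a * u * a⁻¹) := by rw [e3]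
    _ = a * (b⁻¹ * r * b) * a⁻¹ := by group
    _ = r := e2

/-- two elements agreeing on `R` and on `U` modulo `R`: their quotient acts on `U` with `p`-power order -/
theorem pow_mem_centralizer_of_agree (h : NsgHyp p S E) {a b : G} {U : Subgroup G}
    (hab : ∀ r ∈ pCore p G ⊓ T, a * r * a⁻¹ = b * r * b⁻¹)
    (hz : ∀ u ∈ U, (a * u * a⁻¹)⁻¹ * (b * u * b⁻¹) ∈ pCore p G ⊓ T) :
    (b⁻¹ * a) ^ Nat.card ↥(pCore p G ⊓ T) ∈ Subgroup.centralizer (U : Set G) := by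
  have hwR : ∀ r ∈ pCore p G ⊓ T, b⁻¹ * a * r * (b⁻¹ * a)⁻¹ = r := by
    intro r hr
    have e : b⁻¹ * a * r * (b⁻¹ * a)⁻¹ = b⁻¹ * (a * r * a⁻¹) * b := by group
    rw [e, hab r hr]
    group
  rw [Subgroup.mem_centralizer_iff]
  intro u hu
  have hc : b⁻¹ * ((a * u * a⁻¹)⁻¹ * (b * u * b⁻¹))⁻¹ * b ∈ pCore p G ⊓ T := by
    have h1 := h.R_conj b⁻¹ (Subgroup.inv_mem _ (hz u hu))
    rwa [inv_inv] at h1
  have h1 : b⁻¹ * a * u * (b⁻¹ * a)⁻¹ = u * (b⁻¹ * ((a * u * a⁻¹)⁻¹ * (b * u * b⁻¹))⁻¹ * b) := by group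
  have h2 := hwR _ hc
  have h3 := nsg_pow_conj_chain h1 h2 (Nat.card ↥(pCore p G ⊓ T))
  have h4 : (b⁻¹ * ((a * u * a⁻¹)⁻¹ * (b * u * b⁻¹))⁻¹ * b) ^ Nat.card ↥(pCore p G ⊓ T) = 1 := by
    have h5 := pow_card_eq_one' (G := ↥(pCore p G ⊓ T)) (x := ⟨_, hc⟩)
    exact congrArg Subtype.val h5
  rw [h4, mul_one] at h3
  calc u * (b⁻¹ * a) ^ Nat.card ↥(pCore p G ⊓ T)
      = ((b⁻¹ * a) ^ Nat.card ↥(pCore p G ⊓ T) * u * ((b⁻¹ * a) ^ Nat.card ↥(pCore p G ⊓ T))⁻¹) *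
          (b⁻¹ * a) ^ Nat.card ↥(pCore p G ⊓ T) := by rw [h3]
    _ = (b⁻¹ * a) ^ Nat.card ↥(pCore p G ⊓ T) * u := by group

theorem card_R_eq (h : NsgHyp p S E) : ∃ k : ℕ, Nat.card ↥(pCore p G ⊓ T) = p ^ k :=
  IsPGroup.iff_card.mp (h.hTp.to_le inf_le_right)

/-- an automorphism of `U ≥ R` in `E` of order prime to `p` is induced by an element of `H` -/
theorem aut_E_le_H (h : NsgHyp p S E) {U : Subgroup G} (hRU : pCore p G ⊓ T ≤ U) (hUT : U ≤ T)
    {x : G} (hx : nsgEC E U x) (hxU : ∀ u ∈ U, x * u * x⁻¹ ∈ U) {m : ℕ} (hm : m.Coprime p)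
    (hxm : x ^ m ∈ Subgroup.centralizer (U : Set G)) :
    ∃ y ∈ nsgH S E h, ∀ u ∈ U, y * u * y⁻¹ = x * u * x⁻¹ := by
  have hHn := h.H_normal
  obtain ⟨h₀, hh₀, hh₀x⟩ := h.exists_H_of_EC_R (hx.restrict hRU)
  have hab : ∀ r ∈ pCore p G ⊓ T, x * r * x⁻¹ = h₀ * r * h₀⁻¹ := fun r hr => (hh₀x r hr).symm
  have hz : ∀ u ∈ U, (x * u * x⁻¹)⁻¹ * (h₀ * u * h₀⁻¹) ∈ pCore p G ⊓ T := by
    intro u hu
    refine h.cent_H_le ?_ (h.cent_of_agree hab u)
    exact Subgroup.mul_mem _ (Subgroup.inv_mem _ (h.T_le_H (hUT (hxU u hu))))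
      (hHn.conj_mem u (h.T_le_H (hUT hu)) h₀)
  have hh₀U : ∀ u ∈ U, h₀ * u * h₀⁻¹ ∈ U := by
    intro u hu
    have e : h₀ * u * h₀⁻¹ = (x * u * x⁻¹) * ((x * u * x⁻¹)⁻¹ * (h₀ * u * h₀⁻¹)) := by group
    rw [e]
    exact U.mul_mem (hxU u hu) (hRU (hz u hu))
  have hh₀N : h₀ ∈ Subgroup.normalizer (U : Set G) := Helper84.mem_normalizer_of_forall_conj_mem U hh₀U
  have hxN : x ∈ Subgroup.normalizer (U : Set G) := Helper84.mem_normalizer_of_forall_conj_mem U hxU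
  have hwN : h₀⁻¹ * x ∈ Subgroup.normalizer (U : Set G) :=
    Subgroup.mul_mem _ (Subgroup.inv_mem _ hh₀N) hxN
  obtain ⟨k, hk⟩ := h.card_R_eq
  have hw := h.pow_mem_centralizer_of_agree hab hz
  rw [hk] at hw
  have hxeq : h₀ * (h₀⁻¹ * x) = x := by group
  obtain ⟨y, hy, hyu⟩ := nsg_mem_actLike (p := p) U (nsgH S E h ⊓ Subgroup.normalizer (U : Set G))
    inf_le_right (x := h₀) (w := h₀⁻¹ * x) ⟨hh₀, hh₀N⟩ hwN
    (fun y hy => ⟨hHn.conj_mem y hy.1 _,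
      Subgroup.mul_mem _ (Subgroup.mul_mem _ hwN hy.2) (Subgroup.inv_mem _ hwN)⟩)
    hw hm (by rw [hxeq]; exact hxm)
  exact ⟨y, hy.1, fun u hu => by rw [hyu u hu, hxeq]⟩

/-- an automorphism of `U ≥ R` induced by an element of `H`, of order prime to `p`, is in `E` -/
theorem aut_H_le_E (h : NsgHyp p S E) {U : Subgroup G} (hRU : pCore p G ⊓ T ≤ U) (hUT : U ≤ T)
    {y : G} (hy : y ∈ nsgH S E h) (hyU : ∀ u ∈ U, y * u * y⁻¹ ∈ U) {m : ℕ} (hm : m.Coprime p)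
    (hym : y ^ m ∈ Subgroup.centralizer (U : Set G)) : nsgEC E U y := by
  have hRT : pCore p G ⊓ T ≤ T := inf_le_right
  have hECR : nsgEC E (pCore p G ⊓ T) y := (h.H_le_B hy).2
  have himg : img (pCore p G ⊓ T) (fun x => y * x * y⁻¹) = pCore p G ⊓ T :=
    IsMap.img_eq_of_mapsTo hECR (fun x hx => h.R_conj y hx)
  obtain ⟨f', hf', hf'R⟩ := receptive_extend h.R_auto_rec.2 hECR himg (N := U) (fun g hg =>
    ⟨hUT hg, Helper84.mem_normalizer_of_forall_conj_mem _ (fun r hr => h.R_conj g hr),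
      y * g * y⁻¹, hUT (hyU g hg), fun r _ => by group⟩)
  have hUR : U ⊔ (pCore p G ⊓ T) = U := sup_eq_left.mpr hRU
  rw [hUR] at hf'
  obtain ⟨x, hxf, hECx⟩ := h.exists_conj hf'
  have hab : ∀ r ∈ pCore p G ⊓ T, y * r * y⁻¹ = x * r * x⁻¹ := by
    intro r hr
    rw [← hxf r (hRU hr), hf'R r hr]
  have hz : ∀ u ∈ U, (y * u * y⁻¹)⁻¹ * (x * u * x⁻¹) ∈ pCore p G ⊓ T := by
    intro u hu
    refine h.cent_T_le ?_ (h.cent_of_agree hab u)
    exact T.mul_mem (T.inv_mem (hUT (hyU u hu))) (IsMap.mem hECx hu)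
  have hxU : ∀ u ∈ U, x * u * x⁻¹ ∈ U := by
    intro u hu
    have e : x * u * x⁻¹ = (y * u * y⁻¹) * ((y * u * y⁻¹)⁻¹ * (x * u * x⁻¹)) := by group
    rw [e]
    exact U.mul_mem (hyU u hu) (hRU (hz u hu))
  have hxN : x ∈ Subgroup.normalizer (U : Set G) := Helper84.mem_normalizer_of_forall_conj_mem U hxU
  have hyN : y ∈ Subgroup.normalizer (U : Set G) := Helper84.mem_normalizer_of_forall_conj_mem U hyU
  have hwN : x⁻¹ * y ∈ Subgroup.normalizer (U : Set G) :=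
    Subgroup.mul_mem _ (Subgroup.inv_mem _ hxN) hyN
  obtain ⟨k, hk⟩ := h.card_R_eq
  have hw := h.pow_mem_centralizer_of_agree hab hz
  rw [hk] at hw
  have hyeq : x * (x⁻¹ * y) = y := by group
  obtain ⟨g', hg', hg'u⟩ := nsg_mem_actLike (p := p) U (nsgAutE E U hUT)
    (fun g hg => hg.1) (x := x) (w := x⁻¹ * y) ⟨hxN, hECx⟩ hwN
    (fun g hg => ⟨Subgroup.mul_mem _ (Subgroup.mul_mem _ hwN hg.1) (Subgroup.inv_mem _ hwN),
      h.EC_conj hUT hg.2 (fun u hu => (Subgroup.mem_normalizer_iff.mp hg.1 u).mp hu)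
        (fun u hu => (Subgroup.mem_normalizer_iff.mp hwN u).mp hu)⟩)
    hw hm (by rw [hyeq]; exact hym)
  refine hg'.2.congr (fun u hu => ?_)
  show y * u * y⁻¹ = g' * u * g'⁻¹
  rw [hg'u u hu, hyeq]

/-- every map of `E` is a map of the fusion system of `H` on `T` -/
theorem E_le_FH (h : NsgHyp p S E) {P : Subgroup G} {f : G → G} (hf : IsMap E P f) :
    IsMap (fusionSystemOfSubgroup (nsgH S E h) T h.T_le_H) P f := by
  refine alperin_induction h.hTp h.hEs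
    (fun P f => IsMap (fusionSystemOfSubgroup (nsgH S E h) T h.T_le_H) P f) ?_
    (fun P Q f g _ _ hf hg hPQ => hf.comp hg hPQ) (fun P f g _ hf hgf => hf.congr hgf) hf
  intro U hUa _ hUc hUrad α hα P hPU
  have hRU : pCore p G ⊓ T ≤ U := Helper84.normal_le_of_centric_radical h.hTp E h.R_normal hUc hUrad
  have hUT : U ≤ T := hUc.1
  obtain ⟨-, P₀, hP₀⟩ := hUa
  have key : pResidual p (E.autGroup U) ≤
      ((fusionSystemOfSubgroup (nsgH S E h) T h.T_le_H).autGroup U).subgroupOf (E.autGroup U) := by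
    unfold pResidual
    rw [Subgroup.closure_le]
    intro a ha
    have ha' : Nat.Coprime (orderOf a) p := ha
    obtain ⟨x, hxa, hECx⟩ := h.exists_conj (IsMap.of_mem_autGroup hUT a.2)
    have hxU : ∀ u ∈ U, x * u * x⁻¹ ∈ U := fun u hu => by rw [← hxa u hu]; exact autFun_mem _ hu
    have hxm : x ^ orderOf a ∈ Subgroup.centralizer (U : Set G) := by
      rw [Subgroup.mem_centralizer_iff]
      intro u hu
      have h1 := nsg_autFun_pow hxa (orderOf a) u hu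
      have h2 : (a : MulAut U) ^ orderOf a = 1 := congrArg Subtype.val (pow_orderOf_eq_one a)
      rw [h2, autFun_one hu] at h1
      calc u * x ^ orderOf a = (x ^ orderOf a * u * (x ^ orderOf a)⁻¹) * x ^ orderOf a := by rw [← h1]
        _ = x ^ orderOf a * u := by group
    obtain ⟨y, hy, hyu⟩ := h.aut_E_le_H hRU hUT hECx hxU ha' hxm
    have h3 : (a : MulAut U) ∈ (fusionSystemOfSubgroup (nsgH S E h) T h.T_le_H).autGroup U := by
      rw [Helper88.mem_autGroup_iff _ hUT, nsg_isMap_subFS_iff]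
      exact ⟨hUT, fun u hu => hUT (autFun_mem _ hu), y, hy, fun u hu => by rw [hxa u hu, hyu u hu]⟩
    exact h3
  obtain ⟨b₁, hb₁, r₁, hr₁, hab⟩ := Helper84.exists_mul_pResidual_sylow P₀ (⟨α, hα⟩ : E.autGroup U)
  have h1 : (b₁ : MulAut U) ∈ (fusionSystemOfSubgroup (nsgH S E h) T h.T_le_H).autGroup U := key hb₁
  have h2 : (r₁ : MulAut U) ∈ (fusionSystemOfSubgroup (nsgH S E h) T h.T_le_H).autGroup U := by
    rw [hP₀] at hr₁
    exact autInducedBy_le_autGroup _ hUT hr₁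
  have h3 : α = (b₁ : MulAut U) * (r₁ : MulAut U) := congrArg Subtype.val hab
  rw [h3]
  exact ((Helper88.mem_autGroup_iff _ hUT _).mp (Subgroup.mul_mem _ h1 h2)).restrict hPU

/-- every map of the fusion system of `H` on `T` is a map of `E` -/
theorem FH_le_E (h : NsgHyp p S E) {P : Subgroup G} {f : G → G}
    (hf : IsMap (fusionSystemOfSubgroup (nsgH S E h) T h.T_le_H) P f) : IsMap E P f := by
  refine alperin_induction h.hTp h.FH_saturated (fun P f => IsMap E P f) ?_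
    (fun P Q f g _ _ hf hg hPQ => hf.comp hg hPQ) (fun P f g _ hf hgf => hf.congr hgf) hf
  intro U hUa _ hUc hUrad α hα P hPU
  have hRU : pCore p G ⊓ T ≤ U :=
    Helper84.normal_le_of_centric_radical h.hTp _ h.FH_R_normal hUc hUrad
  have hUT : U ≤ T := hUc.1
  obtain ⟨-, P₀, hP₀⟩ := hUa
  have key : pResidual p ((fusionSystemOfSubgroup (nsgH S E h) T h.T_le_H).autGroup U) ≤
      (E.autGroup U).subgroupOf ((fusionSystemOfSubgroup (nsgH S E h) T h.T_le_H).autGroup U) := by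
    unfold pResidual
    rw [Subgroup.closure_le]
    intro a ha
    have ha' : Nat.Coprime (orderOf a) p := ha
    obtain ⟨-, -, y, hyH, hya⟩ :=
      (nsg_isMap_subFS_iff _ _ _ _ _).mp (IsMap.of_mem_autGroup hUT a.2)
    have hyU : ∀ u ∈ U, y * u * y⁻¹ ∈ U := fun u hu => by rw [← hya u hu]; exact autFun_mem _ hu
    have hym : y ^ orderOf a ∈ Subgroup.centralizer (U : Set G) := by
      rw [Subgroup.mem_centralizer_iff]
      intro u hu
      have h1 := nsg_autFun_pow hya (orderOf a) u hu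
      have h2 : (a : MulAut U) ^ orderOf a = 1 := congrArg Subtype.val (pow_orderOf_eq_one a)
      rw [h2, autFun_one hu] at h1
      calc u * y ^ orderOf a = (y ^ orderOf a * u * (y ^ orderOf a)⁻¹) * y ^ orderOf a := by rw [← h1]
        _ = y ^ orderOf a * u := by group
    have hEC := h.aut_H_le_E hRU hUT hyH hyU ha' hym
    have h3 : (a : MulAut U) ∈ E.autGroup U :=
      (Helper88.mem_autGroup_iff E hUT _).mpr (hEC.congr (fun u hu => hya u hu))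
    exact h3
  obtain ⟨b₁, hb₁, r₁, hr₁, hab⟩ := Helper84.exists_mul_pResidual_sylow P₀
    (⟨α, hα⟩ : (fusionSystemOfSubgroup (nsgH S E h) T h.T_le_H).autGroup U)
  have h1 : (b₁ : MulAut U) ∈ E.autGroup U := key hb₁
  have h2 : (r₁ : MulAut U) ∈ E.autGroup U := by
    rw [hP₀] at hr₁
    exact autInducedBy_le_autGroup E hUT hr₁
  have h3 : α = (b₁ : MulAut U) * (r₁ : MulAut U) := congrArg Subtype.val hab
  rw [h3]
  exact ((Helper88.mem_autGroup_iff E hUT _).mp (Subgroup.mul_mem _ h1 h2)).restrict hPU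

end NsgHyp

end Cfsg.Agent.Helper85
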