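import Cfsg.Agent.Helper85.NormExtI
import Cfsg.Agent.Helper88.FusionNormalCrit

set_option autoImplicit false
set_option maxHeartbeats 1000000

namespace Cfsg.Agent.Helper85

open Cfsg Cfsg.FusionSystem Cfsg.Agent.Helper88

variable {Ω : Type*} [Group Ω] {S : Subgroup Ω}

/-- the automorphisms of `T` in the system lying in the kernel of `χ` -/
def ppiK (F : FusionSystem S) {T : Subgroup Ω} {Δ : Type*} [Group Δ] (χ : F.autGroup T →* Δ)
    (α : MulAut T) : Prop :=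
  ∃ h : α ∈ F.autGroup T, χ ⟨α, h⟩ = 1

section

variable {F : FusionSystem S} {T : Subgroup Ω} {Δ : Type*} [Group Δ] {χ : F.autGroup T →* Δ}

theorem ppiK.mem {α : MulAut T} (h : ppiK F χ α) : α ∈ F.autGroup T := h.1

theorem ppiK_one : ppiK F χ (1 : MulAut T) :=
  ⟨Subgroup.one_mem _, by
    have : (⟨1, Subgroup.one_mem _⟩ : F.autGroup T) = 1 := rfl
    rw [this, map_one]⟩

theorem ppiK.mul {α β : MulAut T} (hα : ppiK F χ α) (hβ : ppiK F χ β) : ppiK F χ (α * β) := by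
  obtain ⟨h1, h1'⟩ := hα
  obtain ⟨h2, h2'⟩ := hβ
  refine ⟨Subgroup.mul_mem _ h1 h2, ?_⟩
  have : (⟨α * β, Subgroup.mul_mem _ h1 h2⟩ : F.autGroup T) = ⟨α, h1⟩ * ⟨β, h2⟩ := rfl
  rw [this, map_mul, h1', h2', one_mul]

theorem ppiK.inv {α : MulAut T} (hα : ppiK F χ α) : ppiK F χ α⁻¹ := by
  obtain ⟨h1, h1'⟩ := hα
  refine ⟨Subgroup.inv_mem _ h1, ?_⟩
  have : (⟨α⁻¹, Subgroup.inv_mem _ h1⟩ : F.autGroup T) = (⟨α, h1⟩ : F.autGroup T)⁻¹ := rfl
  rw [this, map_inv, h1', inv_one]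

/-- conjugates of kernel elements -/
theorem ppiK.conj {α : MulAut T} (hα : ppiK F χ α) {β : MulAut T} (hβ : β ∈ F.autGroup T) :
    ppiK F χ (β * α * β⁻¹) := by
  obtain ⟨h1, h1'⟩ := hα
  have hm : β * α * β⁻¹ ∈ F.autGroup T :=
    Subgroup.mul_mem _ (Subgroup.mul_mem _ hβ h1) (Subgroup.inv_mem _ hβ)
  refine ⟨hm, ?_⟩
  have : (⟨β * α * β⁻¹, hm⟩ : F.autGroup T) = ⟨β, hβ⟩ * ⟨α, h1⟩ * (⟨β, hβ⟩ : F.autGroup T)⁻¹ := rfl
  rw [this, map_mul, map_mul, map_inv, h1', mul_one, mul_inv_cancel]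

theorem ppiK.of_mul_right {α β : MulAut T} (hαβ : ppiK F χ (α * β)) (hβ : ppiK F χ β) :
    ppiK F χ α := by
  have := hαβ.mul hβ.inv
  rwa [mul_inv_cancel_right] at this

theorem ppiK.of_mul_left {α β : MulAut T} (hαβ : ppiK F χ (α * β)) (hα : ppiK F χ α) :
    ppiK F χ β := by
  have := hα.inv.mul hαβ
  rwa [inv_mul_cancel_left] at this

/-- elements of `p`-power order lie in the kernel when the target has order prime to `p` -/
theorem ppiK_of_pow [Finite Δ] {p : ℕ} (hΔ : (Nat.card Δ).Coprime p) {α : MulAut T}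
    (hα : α ∈ F.autGroup T) {k : ℕ} (hk : α ^ p ^ k = 1) : ppiK F χ α := by
  refine ⟨hα, ?_⟩
  have h1 : (χ ⟨α, hα⟩) ^ p ^ k = 1 := by
    rw [← map_pow]
    have : (⟨α, hα⟩ : F.autGroup T) ^ p ^ k = 1 := Subtype.ext (by simpa using hk)
    rw [this, map_one]
  have h2 : (χ ⟨α, hα⟩) ^ Nat.card Δ = 1 := pow_card_eq_one'
  have h3 : orderOf (χ ⟨α, hα⟩) ∣ Nat.gcd (p ^ k) (Nat.card Δ) :=
    Nat.dvd_gcd (orderOf_dvd_of_pow_eq_one h1) (orderOf_dvd_of_pow_eq_one h2)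
  have h4 : Nat.gcd (p ^ k) (Nat.card Δ) = 1 := Nat.Coprime.pow_left k hΔ.symm
  rw [h4, Nat.dvd_one] at h3
  exact orderOf_eq_one_iff.1 h3

/-- the automorphisms of `T` in a subsystem over `T` whose automizer of `T` lies in the kernel -/
theorem ppiK_of_E {E : FusionSystem T} (hEF : E.IsSubsystemOf F) (hTS : T ≤ S)
    (hker : (E.autGroup T).subgroupOf (F.autGroup T) ≤ χ.ker) {α : MulAut T} (hα : α ∈ E.autGroup T) :
    ppiK F χ α := by
  have hαF : α ∈ F.autGroup T := (Helper88.mem_autGroup_iff F hTS α).2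
    (isMap_of_isSubsystemOf hEF ((Helper88.mem_autGroup_iff E le_rfl α).1 hα))
  exact ⟨hαF, MonoidHom.mem_ker.1 (hker (Subgroup.mem_subgroupOf.2 hα))⟩

end

/-- restriction to a strongly closed subgroup of an automorphism of `S` in the system -/
theorem exists_res_aut [Finite S] {F : FusionSystem S} {T : Subgroup Ω} (hT : F.StronglyClosed T)
    {γ : MulAut S} (hγ : γ ∈ F.autGroup S) :
    ∃ β ∈ F.autGroup T, ∀ x ∈ T, autFun β x = autFun γ x := by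
  have hγm : IsMap F T (autFun γ) := (IsMap.of_mem_autGroup le_rfl hγ).restrict hT.1
  have hmaps : ∀ x ∈ T, autFun γ x ∈ T := fun x hx => sc_apply_mem hT hγm hx hx
  exact hγm.exists_aut (hγm.img_eq_of_mapsTo hmaps)

/-- the image of the intersection with a strongly closed subgroup -/
theorem img_inf_sc {F : FusionSystem S} {T : Subgroup Ω} (hT : F.StronglyClosed T) {Q : Subgroup Ω}
    {f : Ω → Ω} (hf : IsMap F Q f) : img Q f ⊓ T = img (Q ⊓ T) f := by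
  have hf' : IsMap F (Q ⊓ T) f := hf.restrict inf_le_left
  ext y
  rw [Subgroup.mem_inf, hf.mem_img, hf'.mem_img]
  constructor
  · rintro ⟨⟨x, hx, rfl⟩, hy⟩
    exact ⟨x, ⟨hx, sc_mem_of_apply_mem hT hf hx hy⟩, rfl⟩
  · rintro ⟨x, hx, rfl⟩
    exact ⟨⟨x, hx.1, rfl⟩, sc_apply_mem hT hf hx.1 hx.2⟩

/-- a subgroup of `S` normalizes its intersection with a strongly closed subgroup -/
theorem normalizer_inf_sc {F : FusionSystem S} {T : Subgroup Ω} (hT : F.StronglyClosed T)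
    {R : Subgroup Ω} (hRS : R ≤ S) : R ≤ normalizerIn S (R ⊓ T) := by
  intro r hr
  refine mem_normalizerIn_iff.2 ⟨hRS hr, Subgroup.mem_normalizer_iff.2 (fun h => ⟨fun hh => ?_, fun hh => ?_⟩)⟩
  · exact ⟨R.mul_mem (R.mul_mem hr hh.1) (R.inv_mem hr),
      Helper88.stronglyClosed_conj_mem hT (hRS hr) hh.2⟩
  · have e : h = r⁻¹ * (r * h * r⁻¹) * r⁻¹⁻¹ := by group
    rw [e]
    exact ⟨R.mul_mem (R.mul_mem (R.inv_mem hr) hh.1) (R.inv_mem (R.inv_mem hr)),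
      Helper88.stronglyClosed_conj_mem hT (S.inv_mem (hRS hr)) hh.2⟩

/-- a `p`-element of `Aut_F(P)` becomes conjugation by an element of `S` after a suitable map of the
system -/
theorem exists_map_conj_of_pElement [Finite S] {p : ℕ} [Fact p.Prime] (hS : IsPGroup p S)
    {F : FusionSystem S} (hF : F.IsSaturated p) {P : Subgroup Ω} (hPS : P ≤ S) {a : MulAut P}
    (ha : a ∈ F.autGroup P) {k : ℕ} (hk : a ^ p ^ k = 1) :
    ∃ (ρ : Ω → Ω) (s : Ω), IsMap F P ρ ∧ s ∈ S ∧ ∀ x ∈ P, ρ (autFun a x) = s * ρ x * s⁻¹ := by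
  obtain ⟨W, hconj, hWa, hWr⟩ := hF P hPS
  obtain ⟨ρ₀, hρ₀, rfl⟩ := (Helper88.isConj_iff F).1 hconj
  have hWS : img P ρ₀ ≤ S := hρ₀.img_le
  have : Finite ↥(img P ρ₀) := Helper88.finite_of_le hWS
  obtain ⟨Φ, hΦ⟩ := exists_autHom_of_isMap F hρ₀
  have hΦpow : (Φ ⟨a, ha⟩ : MulAut ↥(img P ρ₀)) ^ p ^ k = 1 := by
    have h1 : (⟨a, ha⟩ : F.autGroup P) ^ p ^ k = 1 := Subtype.ext (by simpa using hk)
    have h2 : (Φ ⟨a, ha⟩) ^ p ^ k = 1 := by rw [← map_pow, h1, map_one]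
    simpa using congrArg Subtype.val h2
  obtain ⟨κ, hκ, hκc⟩ := sylow_conj_into p (F.autGroup (img P ρ₀)) (autInducedBy S (img P ρ₀)) hWa.2
    (Subgroup.zpowers (Φ ⟨a, ha⟩ : MulAut ↥(img P ρ₀)))
    (by rw [Subgroup.zpowers_le]; exact (Φ ⟨a, ha⟩).2)
    (Helper88.isPGroup_zpowers_of_pow_eq_one hΦpow)
  obtain ⟨s, hs, hsv⟩ := (mem_autInducedBy_iff' S _).1 (hκc _ (Subgroup.mem_zpowers _))
  have hκm : IsMap F (img P ρ₀) (autFun κ) := IsMap.of_mem_autGroup hWS hκ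
  refine ⟨autFun κ ∘ ρ₀, s, hρ₀.comp hκm (fun x hx => hρ₀.apply_mem_img hx), hs, fun x hx => ?_⟩
  have hρx : ρ₀ x ∈ img P ρ₀ := hρ₀.apply_mem_img hx
  have h1 : ρ₀ (autFun a x) = autFun (Φ ⟨a, ha⟩ : MulAut ↥(img P ρ₀)) (ρ₀ x) := (hΦ ⟨a, ha⟩ x hx).symm
  show autFun κ (ρ₀ (autFun a x)) = s * autFun κ (ρ₀ x) * s⁻¹
  rw [h1, ← hsv _ (autFun_mem κ hρx), autFun_mul _ _ (autFun_mem κ hρx),
    autFun_mul _ _ (autFun_mem κ⁻¹ (autFun_mem κ hρx)), autFun_inv_apply κ hρx]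

section

variable {F : FusionSystem S} {T : Subgroup Ω} {Δ : Type*} [Group Δ] {χ : F.autGroup T →* Δ}

/-- conjugation by an element of `S` on `T` lies in the kernel -/
theorem exists_conj_ppiK [Finite S] [Finite Δ] {p : ℕ} [Fact p.Prime] (hS : IsPGroup p S)
    (hT : F.StronglyClosed T) (hΔ : (Nat.card Δ).Coprime p) {s : Ω} (hs : s ∈ S) :
    ∃ σ : MulAut T, ppiK F χ σ ∧ ∀ x ∈ T, autFun σ x = s * x * s⁻¹ := by
  have hsN : s ∈ normalizerIn S T :=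
    mem_normalizerIn_iff.2 ⟨hs, Helper88.stronglyClosed_le_normalizer hT hs⟩
  obtain ⟨σ, hσF, hσS, hσv⟩ := exists_aut_conj F hT.1 hsN
  obtain ⟨k, hk⟩ := (Helper88.isPGroup_autInducedBy hS T) ⟨σ, hσS⟩
  have hk' : σ ^ p ^ k = 1 := by simpa using congrArg Subtype.val hk
  exact ⟨σ, ppiK_of_pow hΔ hσF hk', hσv⟩

/-- Frattini argument: every element of `Aut_F(T)` is, modulo the kernel, the restriction of an
element of `Aut_F(S)` -/
theorem exists_aut_S_ppiK [Finite S] [Finite Δ] {p : ℕ} [Fact p.Prime] (hS : IsPGroup p S)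
    (hF : F.IsSaturated p) (hT : F.StronglyClosed T) (hΔ : (Nat.card Δ).Coprime p)
    {α : MulAut T} (hα : α ∈ F.autGroup T) :
    ∃ γ ∈ F.autGroup S, ∃ β ∈ F.autGroup T, (∀ x ∈ T, autFun β x = autFun γ x) ∧
      ppiK F χ (β⁻¹ * α) := by
  have hTS : T ≤ S := hT.1
  have : Finite T := Helper88.finite_of_le hTS
  obtain ⟨Q, hconj, hQa, hQr⟩ := hF T hTS
  obtain ⟨f, hf, rfl⟩ := (Helper88.isConj_iff F).1 hconj
  have hQT : img T f = T := hf.img_eq_of_mapsTo (fun x hx => sc_apply_mem hT hf hx hx)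
  rw [hQT] at hQa hQr
  obtain ⟨P₀, hP₀⟩ := hQa.2
  obtain ⟨κ, hκ, ν, hαeq, hν⟩ := frattini_decomp P₀ χ.ker ⟨α, hα⟩
  have hνm : IsMap F T (autFun (ν : MulAut T)) := IsMap.of_mem_autGroup hTS ν.2
  have hext : ∃ f', IsMap F (S ⊔ T) f' ∧ ∀ x ∈ T, f' x = autFun (ν : MulAut T) x := by
    refine receptive_extend hQr hνm (img_autFun _) (fun g hg => ?_)
    have hgN : g ∈ Subgroup.normalizer (T : Set Ω) := Helper88.stronglyClosed_le_normalizer hT hg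
    refine ⟨hg, hgN, ?_⟩
    have htA : Cfsg.Agent.Helper84.conjAut T g hgN ∈ autInducedBy S T :=
      Cfsg.Agent.Helper84.conjAut_mem_autInducedBy hg hgN
    have htF : Cfsg.Agent.Helper84.conjAut T g hgN ∈ F.autGroup T :=
      autInducedBy_le_autGroup F hTS htA
    have ht : (⟨_, htF⟩ : F.autGroup T) ∈ (P₀ : Subgroup (F.autGroup T)) := by
      rw [hP₀]; exact Subgroup.mem_subgroupOf.2 htA
    have htN : (⟨_, htF⟩ : F.autGroup T) ∈ χ.ker := by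
      obtain ⟨k, hk⟩ := (Helper88.isPGroup_autInducedBy hS T) ⟨_, htA⟩
      have hk' : (Cfsg.Agent.Helper84.conjAut T g hgN) ^ p ^ k = 1 := by
        simpa using congrArg Subtype.val hk
      exact MonoidHom.mem_ker.2 (ppiK_of_pow hΔ htF hk').2
    have h1 := hν _ htN ht
    rw [hP₀, Subgroup.mem_subgroupOf] at h1
    obtain ⟨h, hh, hhc⟩ := (Helper88.mem_autInducedBy_iff S T _).1 h1
    refine ⟨h, hh, fun x hx => ?_⟩
    have hgx : g * x * g⁻¹ ∈ T := conj_mem_of_mem_normalizer hgN hx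
    have e1 : ((ν * ⟨_, htF⟩ * ν⁻¹ : F.autGroup T) : MulAut T) ((ν : MulAut T) ⟨x, hx⟩) =
        (ν : MulAut T) ((Cfsg.Agent.Helper84.conjAut T g hgN) ⟨x, hx⟩) := by
      show ((ν : MulAut T) * (Cfsg.Agent.Helper84.conjAut T g hgN) * (ν : MulAut T)⁻¹)
        ((ν : MulAut T) ⟨x, hx⟩) = _
      rw [MulAut.mul_apply, MulAut.mul_apply, MulAut.inv_apply_self]
    have e2 : (Cfsg.Agent.Helper84.conjAut T g hgN) ⟨x, hx⟩ = ⟨g * x * g⁻¹, hgx⟩ := Subtype.ext rfl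
    rw [autFun_apply' _ hgx, autFun_apply' _ hx, ← e2, ← e1]
    exact hhc _
  obtain ⟨f', hf', hf'T⟩ := hext
  have hf'S : IsMap F S f' := hf'.restrict le_sup_left
  obtain ⟨γ, hγ, hγv⟩ := hf'S.exists_aut (hf'S.img_eq_of_mapsTo (fun x hx => hf'S.mem hx))
  have hmem : (ν : MulAut T)⁻¹ * α ∈ F.autGroup T := Subgroup.mul_mem _ (Subgroup.inv_mem _ ν.2) hα
  refine ⟨γ, hγ, (ν : MulAut T), ν.2, fun x hx => ?_, hmem, ?_⟩
  · rw [hγv x (hTS hx), hf'T x hx]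
  · have h2 : ν⁻¹ * (⟨α, hα⟩ : F.autGroup T) ∈ χ.ker := by
      rw [hαeq]
      have := (inferInstance : (χ.ker).Normal).conj_mem κ hκ ν⁻¹
      rwa [inv_inv, mul_assoc] at this
    have e : (⟨(ν : MulAut T)⁻¹ * α, hmem⟩ : F.autGroup T) = ν⁻¹ * ⟨α, hα⟩ := rfl
    rw [e]
    exact MonoidHom.mem_ker.1 h2

end

end Cfsg.Agent.Helper85
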