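import Cfsg.Agent.Helper85.PpiA
import Cfsg.Agent.Helper88.FusionWeakNormal

set_option autoImplicit false
set_option maxHeartbeats 1000000

namespace Cfsg.Agent.Helper85

open Cfsg Cfsg.FusionSystem Cfsg.Agent.Helper88

variable {Ω : Type*} [Group Ω] {S : Subgroup Ω}

section

variable [Finite S] {p : ℕ} [Fact p.Prime] {F : FusionSystem S} {T : Subgroup Ω} {E : FusionSystem T}
  {Δ : Type*} [Group Δ] [Finite Δ] {χ : F.autGroup T →* Δ}

/-- the inductive step: an element of `Aut_F(T)` restricting to a map of `E` on a proper `E`-centric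
subgroup with receptive image lies in the kernel, if this holds for all larger centric subgroups -/
theorem ppiK_step (hS : IsPGroup p S) (hF : F.IsSaturated p) (hinv : E.IsInvariantIn F)
    (hΔ : (Nat.card Δ).Coprime p) {U : Subgroup Ω} (hU : E.IsCentric U) (hne : U ≠ T)
    (ih : ∀ U' : Subgroup Ω, E.IsCentric U' → Nat.card U < Nat.card U' → ∀ α' : MulAut T,
      α' ∈ F.autGroup T → IsMap E U' (autFun α') → ppiK F χ α')
    {α : MulAut T} (hα : α ∈ F.autGroup T) (hg : IsMap E U (autFun α))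
    (hrec : E.IsReceptive (img U (autFun α))) : ppiK F χ α := by
  have hT := hinv.2.1
  have hTS : T ≤ S := hT.1
  have : Finite T := Helper88.finite_of_le hTS
  have hTp : IsPGroup p T := hS.to_le hTS
  have hUT : U ≤ T := hU.1
  have hαm : IsMap F T (autFun α) := IsMap.of_mem_autGroup hTS hα
  have hαi : α⁻¹ ∈ F.autGroup T := Subgroup.inv_mem _ hα
  have hαim : IsMap F T (autFun α⁻¹) := IsMap.of_mem_autGroup hTS hαi
  have hUU₁ : U ≤ normalizerIn T U := le_normalizerIn hUT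
  have hU₁T : normalizerIn T U ≤ T := inf_le_left
  have hU₁S : normalizerIn T U ≤ S := hU₁T.trans hTS
  have hcard : Nat.card U < Nat.card (normalizerIn T U) := card_lt_normalizerIn hTp hUT hne
  have hU₁c : E.IsCentric (normalizerIn T U) := isCentric_of_le hU hUU₁ hU₁T
  -- extension of `α|U` in `E`
  obtain ⟨f₁, hf₁, hf₁U⟩ := receptive_extend hrec hg rfl (N := normalizerIn T U) (fun n hn =>
    ⟨hn.1, hn.2, autFun α n, autFun_mem α hn.1, fun x hx => hαm.map_conj hn.1 (hUT hx)⟩)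
  have hf₁' : IsMap E (normalizerIn T U) f₁ := hf₁.restrict le_sup_left
  have hf₁F : IsMap F (normalizerIn T U) f₁ := isMap_of_isSubsystemOf hinv.1 hf₁'
  -- `ζ' = α⁻¹ ∘ f₁`
  have hζ : IsMap F (normalizerIn T U) (autFun α⁻¹ ∘ f₁) :=
    hf₁F.comp hαim (fun x hx => hf₁'.mem hx)
  have hζU : ∀ x ∈ U, autFun α⁻¹ (f₁ x) = x := fun x hx => by
    rw [hf₁U x hx, autFun_inv_apply α (hUT hx)]
  have hζz : ∀ n ∈ normalizerIn T U, n⁻¹ * autFun α⁻¹ (f₁ n) ∈ U := by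
    intro n hn
    have hnT : n ∈ T := hn.1
    have hζn : autFun α⁻¹ (f₁ n) ∈ T := autFun_mem _ (hf₁'.mem hn)
    apply hU.2 U (Helper88.isConj_refl E hUT)
    refine mem_centralizerIn_iff.2 ⟨T.mul_mem (T.inv_mem hnT) hζn, fun u hu => ?_⟩
    have hnu : n * u * n⁻¹ ∈ U := conj_mem_of_mem_normalizer hn.2 hu
    have h1 : autFun α⁻¹ (f₁ (n * u * n⁻¹)) = autFun α⁻¹ (f₁ n) * u * (autFun α⁻¹ (f₁ n))⁻¹ := by
      have := hζ.map_conj hn (hUU₁ hu)
      simp only [Function.comp_apply] at this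
      rw [this, hζU u hu]
    rw [hζU _ hnu] at h1
    calc u * (n⁻¹ * autFun α⁻¹ (f₁ n)) = n⁻¹ * (n * u * n⁻¹) * autFun α⁻¹ (f₁ n) := by group
      _ = n⁻¹ * (autFun α⁻¹ (f₁ n) * u * (autFun α⁻¹ (f₁ n))⁻¹) * autFun α⁻¹ (f₁ n) := by rw [h1]
      _ = n⁻¹ * autFun α⁻¹ (f₁ n) * u := by group
  have hζmaps : ∀ n ∈ normalizerIn T U, autFun α⁻¹ (f₁ n) ∈ normalizerIn T U := by
    intro n hn
    have e : autFun α⁻¹ (f₁ n) = n * (n⁻¹ * autFun α⁻¹ (f₁ n)) := by group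
    rw [e]
    exact Subgroup.mul_mem _ hn (hUU₁ (hζz n hn))
  obtain ⟨ζ, hζA, hζv⟩ := hζ.exists_aut (hζ.img_eq_of_mapsTo hζmaps)
  have hζv' : ∀ x ∈ normalizerIn T U, autFun ζ x = autFun α⁻¹ (f₁ x) := hζv
  obtain ⟨k, hk⟩ := pow_card_eq_one_of_mem hS
  have hζpow : ζ ^ p ^ k = 1 := by
    refine aut_pow_eq_one_of ζ hUU₁ (fun y hy => ?_) (fun w hw => ?_) (p ^ k)
      (fun y hy => hk y (hTS (hUT hy)))
    · rw [hζv' y (hUU₁ hy)]; exact hζU y hy
    · rw [hζv' w hw]; exact hζz w hw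
  -- the `p`-element `ζ` becomes a conjugation
  obtain ⟨ρ, s, hρ, hs, hρζ⟩ := exists_map_conj_of_pElement hS hF hU₁S hζA hζpow
  obtain ⟨α₃, hα₃, ε₃, hε₃, hρε⟩ := invariant_frattini hinv hU₁T hρ
  have hα₃m : IsMap F T (autFun α₃) := IsMap.of_mem_autGroup hTS hα₃
  obtain ⟨σ, hσK, hσv⟩ := exists_conj_ppiK (χ := χ) hS hT hΔ hs
  have hc'K : ppiK F χ (α₃⁻¹ * σ * α₃) := by
    have := hσK.conj (Subgroup.inv_mem _ hα₃)
    rwa [inv_inv] at this
  have hc'F : α₃⁻¹ * σ * α₃ ∈ F.autGroup T := hc'K.mem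
  have hε₃T : ∀ x ∈ normalizerIn T U, ε₃ x ∈ T := fun x hx => hε₃.mem hx
  have hc'ε : ∀ x ∈ normalizerIn T U,
      autFun (α₃⁻¹ * σ * α₃) (ε₃ x) = ε₃ (autFun α⁻¹ (f₁ x)) := by
    intro x hx
    have hx' : autFun α⁻¹ (f₁ x) ∈ normalizerIn T U := hζmaps x hx
    have h1 : autFun α₃ (ε₃ (autFun α⁻¹ (f₁ x))) = autFun σ (autFun α₃ (ε₃ x)) := by
      rw [← hρε _ hx', hσv _ (autFun_mem α₃ (hε₃T x hx)), ← hρε x hx, ← hζv' x hx]
      exact hρζ x hx
    rw [autFun_mul _ _ (hε₃T x hx), autFun_mul _ _ (autFun_mem α₃ (hε₃T x hx)), ← h1,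
      autFun_inv_apply α₃ (hε₃T _ hx')]
  -- the inverse of `ε₃`
  obtain ⟨ε₃i, hε₃i, hε₃i1, hε₃i2, -⟩ := hε₃.exists_inv
  have hU₃T : img (normalizerIn T U) ε₃ ≤ T := hε₃.img_le
  have hc'U₃ : ∀ y ∈ img (normalizerIn T U) ε₃,
      autFun (α₃⁻¹ * σ * α₃) y ∈ img (normalizerIn T U) ε₃ := by
    intro y hy
    obtain ⟨x, hx, rfl⟩ := hε₃.mem_img.1 hy
    rw [hc'ε x hx]
    exact hε₃.apply_mem_img (hζmaps x hx)
  have hc'i : (α₃⁻¹ * σ * α₃)⁻¹ ∈ F.autGroup T := Subgroup.inv_mem _ hc'F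
  have hc'im : IsMap F T (autFun (α₃⁻¹ * σ * α₃)⁻¹) := IsMap.of_mem_autGroup hTS hc'i
  obtain ⟨g₃, hg₃, hg₃v⟩ := invariant_ambient hinv hU₃T hε₃i hc'i
  have hU₃le : img (normalizerIn T U) ε₃ ≤
      img (img (normalizerIn T U) ε₃) (autFun (α₃⁻¹ * σ * α₃)⁻¹) := by
    intro y hy
    have h1 := (hc'im.restrict hU₃T).apply_mem_img (hc'U₃ y hy)
    rwa [autFun_inv_apply _ (hU₃T hy)] at h1
  have hg₃U : IsMap E (img (normalizerIn T U) ε₃) g₃ := hg₃.restrict hU₃le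
  have hg₃y : ∀ y ∈ img (normalizerIn T U) ε₃,
      autFun (α₃⁻¹ * σ * α₃) (g₃ y) = ε₃i (autFun (α₃⁻¹ * σ * α₃) y) := by
    intro y hy
    have hcy := hc'U₃ y hy
    have h1 := hg₃v _ hcy
    rw [autFun_inv_apply _ (hU₃T hy)] at h1
    rw [h1, autFun_apply_inv _ (hU₁T (hε₃i2 _ hcy).1)]
  have hkey : ∀ y ∈ img (normalizerIn T U) ε₃,
      autFun (α * (α₃⁻¹ * σ * α₃)) (g₃ y) = f₁ (ε₃i y) := by
    intro y hy
    obtain ⟨x, hx, rfl⟩ := hε₃.mem_img.1 hy
    have hg₃T : g₃ (ε₃ x) ∈ T := hg₃U.mem hy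
    rw [autFun_mul _ _ hg₃T, hg₃y _ hy, hc'ε x hx, hε₃i1 _ (hζmaps x hx), hε₃i1 x hx,
      autFun_apply_inv α (hf₁'.mem hx)]
  obtain ⟨g₃i, hg₃i, hg₃i1, hg₃i2, -⟩ := hg₃U.exists_inv
  have hh : IsMap E (img (img (normalizerIn T U) ε₃) g₃) (f₁ ∘ ε₃i ∘ g₃i) :=
    (hg₃i.comp hε₃i (fun z hz => (hg₃i2 z hz).1)).comp hf₁'
      (fun z hz => (hε₃i2 _ (hg₃i2 z hz).1).1)
  have hmapE : IsMap E (img (img (normalizerIn T U) ε₃) g₃) (autFun (α * (α₃⁻¹ * σ * α₃))) := by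
    refine hh.congr (fun z hz => ?_)
    obtain ⟨hy, hgy⟩ := hg₃i2 z hz
    have := hkey _ hy
    rw [hgy] at this
    exact this
  have hU₃c : E.IsCentric (img (normalizerIn T U) ε₃) := isCentric_of_isConj hU₁c hε₃.isConj
  have hU₅c : E.IsCentric (img (img (normalizerIn T U) ε₃) g₃) :=
    isCentric_of_isConj hU₃c hg₃U.isConj
  have hcard5 : Nat.card U < Nat.card (img (img (normalizerIn T U) ε₃) g₃) := by
    rw [hg₃U.card_img, hε₃.card_img]; exact hcard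
  have hfin := ih _ hU₅c hcard5 _ (Subgroup.mul_mem _ hα hc'F) hmapE
  exact hfin.of_mul_right hc'K

/-- an element of `Aut_F(T)` whose restriction to an `E`-centric subgroup is a map of `E` lies in the
kernel -/
theorem ppiK_of_isMap_centric (hS : IsPGroup p S) (hF : F.IsSaturated p) (hEs : E.IsSaturated p)
    (hinv : E.IsInvariantIn F) (hΔ : (Nat.card Δ).Coprime p)
    (hker : (E.autGroup T).subgroupOf (F.autGroup T) ≤ χ.ker) :
    ∀ (n : ℕ) (U : Subgroup Ω), E.IsCentric U → Nat.card T - Nat.card U = n → ∀ α : MulAut T,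
      α ∈ F.autGroup T → IsMap E U (autFun α) → ppiK F χ α := by
  have hT := hinv.2.1
  have hTS : T ≤ S := hT.1
  have : Finite T := Helper88.finite_of_le hTS
  have hTp : IsPGroup p T := hS.to_le hTS
  intro n
  induction n using Nat.strong_induction_on with
  | _ n ih =>
    intro U hU hn α hα hg
    have hUT : U ≤ T := hU.1
    by_cases hne : U = T
    · rw [hne] at hg
      exact ppiK_of_E hinv.1 hTS hker ((Helper88.mem_autGroup_iff E le_rfl α).2 hg)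
    have ih' : ∀ U' : Subgroup Ω, E.IsCentric U' → Nat.card U < Nat.card U' → ∀ α' : MulAut T,
        α' ∈ F.autGroup T → IsMap E U' (autFun α') → ppiK F χ α' := by
      intro U' hU' hlt α' hα' hg'
      have h1 : Nat.card U' ≤ Nat.card T := Subgroup.card_le_of_le hU'.1
      exact ih (Nat.card T - Nat.card U') (by omega) U' hU' rfl α' hα' hg'
    have hαm : IsMap F T (autFun α) := IsMap.of_mem_autGroup hTS hα
    have hV : img U (autFun α) ≤ T := hg.img_le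
    obtain ⟨U', hconj, hU'a, hU'r⟩ := hEs (img U (autFun α)) hV
    obtain ⟨ε, hε, hεimg⟩ := Helper88.exists_normalizer_map hTp hU'a hU'r hconj
    have hUU₁ : U ≤ normalizerIn T U := le_normalizerIn hUT
    have hU₁T : normalizerIn T U ≤ T := inf_le_left
    have hcard : Nat.card U < Nat.card (normalizerIn T U) := card_lt_normalizerIn hTp hUT hne
    have hU₁c : E.IsCentric (normalizerIn T U) := isCentric_of_le hU hUU₁ hU₁T
    have hαN : ∀ x ∈ normalizerIn T U, autFun α x ∈ normalizerIn T (img U (autFun α)) := by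
      intro x hx
      exact mem_normalizerIn_iff.2 ⟨autFun_mem α hx.1,
        (hαm.restrict hU₁T).map_mem_normalizer hUU₁ hx hx.2⟩
    have hεF : IsMap F (normalizerIn T (img U (autFun α))) ε := isMap_of_isSubsystemOf hinv.1 hε
    have hεα : IsMap F (normalizerIn T U) (ε ∘ autFun α) := (hαm.restrict hU₁T).comp hεF hαN
    obtain ⟨α₂, hα₂, ε₂, hε₂, hεαv⟩ := invariant_frattini hinv hU₁T hεα
    have hεαv' : ∀ x ∈ normalizerIn T U, ε (autFun α x) = autFun α₂ (ε₂ x) := hεαv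
    have hα₂m : IsMap F T (autFun α₂) := IsMap.of_mem_autGroup hTS hα₂
    have hε₂U : IsMap E U ε₂ := hε₂.restrict hUU₁
    obtain ⟨ε₂i, hε₂i, hε₂i1, hε₂i2, -⟩ := hε₂U.exists_inv
    have hVN : img U (autFun α) ≤ normalizerIn T (img U (autFun α)) := le_normalizerIn hV
    have hmap₂ : IsMap E (img U ε₂) (autFun α₂) := by
      have h1 : IsMap E (img U ε₂) (ε ∘ autFun α ∘ ε₂i) :=
        (hε₂i.comp hg (fun y hy => (hε₂i2 y hy).1)).comp (hε.restrict hVN)
          (fun y hy => hg.apply_mem_img (hε₂i2 y hy).1)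
      refine h1.congr (fun y hy => ?_)
      obtain ⟨hx, hxy⟩ := hε₂i2 y hy
      have := hεαv' _ (hUU₁ hx)
      rw [hxy] at this
      exact this.symm
    have himg₂ : img (img U ε₂) (autFun α₂) = U' := by
      have hε₂UF : IsMap F U ε₂ := isMap_of_isSubsystemOf hinv.1 hε₂U
      have e1 : img U (autFun α₂ ∘ ε₂) = img U (ε ∘ autFun α) :=
        img_congr (fun x hx => (hεαv' x (hUU₁ hx)).symm)
      rw [← img_comp hε₂UF (hα₂m.restrict hε₂U.img_le), e1,
        img_comp (hαm.restrict hUT) (hεF.restrict hVN)]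
      exact hεimg
    have hU₂c : E.IsCentric (img U ε₂) := isCentric_of_isConj hU hε₂U.isConj
    have hU₂ne : img U ε₂ ≠ T := by
      intro h
      have h1 := hε₂U.card_img
      rw [h] at h1
      exact hne (Subgroup.eq_of_le_of_card_ge hUT (le_of_eq h1))
    have hα₂K : ppiK F χ α₂ := by
      refine ppiK_step hS hF hinv hΔ hU₂c hU₂ne ?_ hα₂ hmap₂ (by rw [himg₂]; exact hU'r)
      intro U'' hU'' hlt
      rw [hε₂U.card_img] at hlt
      exact ih' U'' hU'' hlt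
    -- `α₂⁻¹ α` on the normalizer
    obtain ⟨εi, hεi, hεi1, hεi2, -⟩ := hε.exists_inv
    have hα₂i : α₂⁻¹ ∈ F.autGroup T := Subgroup.inv_mem _ hα₂
    have hα₂im : IsMap F T (autFun α₂⁻¹) := IsMap.of_mem_autGroup hTS hα₂i
    have hPle : img (img (normalizerIn T U) ε₂) (autFun α₂) ≤
        img (normalizerIn T (img U (autFun α))) ε := by
      intro w hw
      obtain ⟨y, hy, rfl⟩ := (hα₂m.restrict hε₂.img_le).mem_img.1 hw
      obtain ⟨x, hx, rfl⟩ := hε₂.mem_img.1 hy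
      rw [← hεαv' x hx]
      exact hε.apply_mem_img (hαN x hx)
    have hPT : img (img (normalizerIn T U) ε₂) (autFun α₂) ≤ T := by
      intro w hw
      obtain ⟨y, hy, rfl⟩ := (hα₂m.restrict hε₂.img_le).mem_img.1 hw
      exact autFun_mem α₂ (hε₂.img_le hy)
    obtain ⟨g, hg', hgv⟩ := invariant_ambient hinv hPT (hεi.restrict hPle) hα₂i
    have hw : ∀ x ∈ normalizerIn T U,
        autFun α₂ (ε₂ x) ∈ img (img (normalizerIn T U) ε₂) (autFun α₂) := fun x hx =>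
      (hα₂m.restrict hε₂.img_le).apply_mem_img (hε₂.apply_mem_img hx)
    have hmem : ∀ x ∈ normalizerIn T U,
        ε₂ x ∈ img (img (img (normalizerIn T U) ε₂) (autFun α₂)) (autFun α₂⁻¹) := by
      intro x hx
      have h1 := (hα₂im.restrict hPT).apply_mem_img (hw x hx)
      rwa [autFun_inv_apply α₂ (hε₂.mem hx)] at h1
    have hβE : IsMap E (normalizerIn T U) (autFun (α₂⁻¹ * α)) := by
      refine (hε₂.comp hg' hmem).congr (fun x hx => ?_)
      have h1 := hgv _ (hw x hx)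
      rw [autFun_inv_apply α₂ (hε₂.mem hx), ← hεαv' x hx, hεi1 _ (hαN x hx)] at h1
      show autFun (α₂⁻¹ * α) x = g (ε₂ x)
      rw [h1, autFun_mul _ _ hx.1]
    have hβK : ppiK F χ (α₂⁻¹ * α) := ih' _ hU₁c hcard _ (Subgroup.mul_mem _ hα₂i hα) hβE
    have := hα₂K.mul hβK
    rwa [mul_inv_cancel_left] at this

/-- two Frattini decompositions of a map on an `E`-centric subgroup differ by an element of the
kernel -/
theorem ppiK_unique (hS : IsPGroup p S) (hF : F.IsSaturated p) (hEs : E.IsSaturated p)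
    (hinv : E.IsInvariantIn F) (hΔ : (Nat.card Δ).Coprime p)
    (hker : (E.autGroup T).subgroupOf (F.autGroup T) ≤ χ.ker) {U : Subgroup Ω} (hU : E.IsCentric U)
    {α α' : MulAut T} (hα : α ∈ F.autGroup T) (hα' : α' ∈ F.autGroup T) {f₀ f₀' : Ω → Ω}
    (hf₀ : IsMap E U f₀) (hf₀' : IsMap E U f₀')
    (h : ∀ x ∈ U, autFun α (f₀ x) = autFun α' (f₀' x)) : ppiK F χ (α'⁻¹ * α) := by
  obtain ⟨f₀i, hf₀i, hf₀i1, hf₀i2, -⟩ := hf₀.exists_inv
  have hc : E.IsCentric (img U f₀) := isCentric_of_isConj hU hf₀.isConj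
  have hmap : IsMap E (img U f₀) (autFun (α'⁻¹ * α)) := by
    refine (hf₀i.comp hf₀' (fun y hy => (hf₀i2 y hy).1)).congr (fun y hy => ?_)
    obtain ⟨hx, hxy⟩ := hf₀i2 y hy
    show autFun (α'⁻¹ * α) y = f₀' (f₀i y)
    rw [autFun_mul _ _ (hf₀.img_le hy)]
    have h1 := h _ hx
    rw [hxy] at h1
    rw [h1, autFun_inv_apply α' (hf₀'.mem hx)]
  exact ppiK_of_isMap_centric hS hF hEs hinv hΔ hker _ _ hc rfl _
    (Subgroup.mul_mem _ (Subgroup.inv_mem _ hα') hα) hmap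

end

end Cfsg.Agent.Helper85
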