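import Cfsg.Agent.Helper85.PpiB

set_option autoImplicit false
set_option maxHeartbeats 1000000

namespace Cfsg.Agent.Helper85

open Cfsg Cfsg.FusionSystem Cfsg.Agent.Helper88

variable {Ω : Type*} [Group Ω] {S : Subgroup Ω}

/-- the maps of the ambient system whose restriction to `T` is a map of `E` followed by an element of
the kernel of `χ` -/
def PpiKC (F : FusionSystem S) {T : Subgroup Ω} (E : FusionSystem T) {Δ : Type*} [Group Δ]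
    (χ : F.autGroup T →* Δ) (P : Subgroup Ω) (f : Ω → Ω) : Prop :=
  IsMap F P f ∧ ∃ α : MulAut T, ppiK F χ α ∧ ∃ f₀, IsMap E (P ⊓ T) f₀ ∧
    ∀ x ∈ P ⊓ T, f x = autFun α (f₀ x)

section

variable {F : FusionSystem S} {T : Subgroup Ω} {E : FusionSystem T} {Δ : Type*} [Group Δ]
  {χ : F.autGroup T →* Δ}

theorem PpiKC.isMapF {P : Subgroup Ω} {f : Ω → Ω} (h : PpiKC F E χ P f) : IsMap F P f := h.1

theorem PpiKC.congr {P : Subgroup Ω} {f g : Ω → Ω} (h : PpiKC F E χ P f)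
    (hg : ∀ x ∈ P, g x = f x) : PpiKC F E χ P g := by
  obtain ⟨hf, α, hα, f₀, hf₀, hv⟩ := h
  exact ⟨hf.congr hg, α, hα, f₀, hf₀, fun x hx => (hg x hx.1).trans (hv x hx)⟩

theorem PpiKC.restrict {P R : Subgroup Ω} {f : Ω → Ω} (h : PpiKC F E χ P f) (hR : R ≤ P) :
    PpiKC F E χ R f := by
  obtain ⟨hf, α, hα, f₀, hf₀, hv⟩ := h
  have hle : R ⊓ T ≤ P ⊓ T := inf_le_inf_right T hR
  exact ⟨hf.restrict hR, α, hα, f₀, hf₀.restrict hle, fun x hx => hv x (hle hx)⟩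

theorem PpiKC.comp (hinv : E.IsInvariantIn F) {P Q : Subgroup Ω} {f g : Ω → Ω}
    (hf : PpiKC F E χ P f) (hg : PpiKC F E χ Q g) (hPQ : ∀ x ∈ P, f x ∈ Q) :
    PpiKC F E χ P (g ∘ f) := by
  have hT := hinv.2.1
  have hTS : T ≤ S := hT.1
  obtain ⟨hfm, α₁, hα₁, f₀, hf₀, hfv⟩ := hf
  obtain ⟨hgm, α₂, hα₂, g₀, hg₀, hgv⟩ := hg
  have hα₁F := hα₁.mem
  have hα₁i : α₁⁻¹ ∈ F.autGroup T := Subgroup.inv_mem _ hα₁F
  have hα₁im : IsMap F T (autFun α₁⁻¹) := IsMap.of_mem_autGroup hTS hα₁i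
  have hfm' : IsMap F (P ⊓ T) f := hfm.restrict inf_le_left
  have hP' : img (P ⊓ T) f ≤ Q ⊓ T := by
    intro y hy
    obtain ⟨x, hx, rfl⟩ := hfm'.mem_img.1 hy
    exact ⟨hPQ x hx.1, sc_apply_mem hT hfm hx.1 hx.2⟩
  have hP'T : img (P ⊓ T) f ≤ T := hP'.trans inf_le_right
  obtain ⟨h, hh, hhv⟩ := invariant_ambient hinv hP'T (hg₀.restrict hP') hα₁i
  have hf₀x : ∀ x ∈ P ⊓ T, f₀ x = autFun α₁⁻¹ (f x) := fun x hx => by
    rw [hfv x hx, autFun_inv_apply α₁ (hf₀.mem hx)]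
  have hmem : ∀ x ∈ P ⊓ T, f₀ x ∈ img (img (P ⊓ T) f) (autFun α₁⁻¹) := fun x hx => by
    rw [hf₀x x hx]
    exact (hα₁im.restrict hP'T).apply_mem_img (hfm'.apply_mem_img hx)
  refine ⟨hfm.comp hgm hPQ, α₂ * α₁, hα₂.mul hα₁, h ∘ f₀, hf₀.comp hh hmem, fun x hx => ?_⟩
  have hfx : f x ∈ img (P ⊓ T) f := hfm'.apply_mem_img hx
  have h1 := hhv _ hfx
  rw [← hf₀x x hx] at h1
  show g (f x) = autFun (α₂ * α₁) (h (f₀ x))
  have hg₀T : g₀ (f x) ∈ T := hg₀.mem (hP' hfx)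
  rw [h1, autFun_mul _ _ (autFun_mem α₁⁻¹ hg₀T), autFun_apply_inv α₁ hg₀T, hgv _ (hP' hfx)]

theorem PpiKC.inv (hinv : E.IsInvariantIn F) {Q : Subgroup Ω} {f g : Ω → Ω}
    (hf : PpiKC F E χ Q f) (hg : IsMap F (img Q f) g) (hgf : ∀ x ∈ Q, g (f x) = x) :
    PpiKC F E χ (img Q f) g := by
  have hT := hinv.2.1
  have hTS : T ≤ S := hT.1
  obtain ⟨hfm, α, hα, f₀, hf₀, hfv⟩ := hf
  have hαF := hα.mem
  have hαm : IsMap F T (autFun α) := IsMap.of_mem_autGroup hTS hαF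
  obtain ⟨f₀i, hf₀i, hf₀i1, hf₀i2, -⟩ := hf₀.exists_inv
  have hR₀T : img (Q ⊓ T) f₀ ≤ T := hf₀.img_le
  obtain ⟨h, hh, hhv⟩ := invariant_ambient hinv hR₀T hf₀i hαF
  have hle : img Q f ⊓ T ≤ img (img (Q ⊓ T) f₀) (autFun α) := by
    intro y hy
    obtain ⟨x, hx, rfl⟩ := hfm.mem_img.1 hy.1
    have hxT : x ∈ T := sc_mem_of_apply_mem hT hfm hx hy.2
    rw [hfv x ⟨hx, hxT⟩]
    exact (hαm.restrict hR₀T).apply_mem_img (hf₀.apply_mem_img ⟨hx, hxT⟩)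
  refine ⟨hg, α⁻¹, hα.inv, h, hh.restrict hle, fun y hy => ?_⟩
  obtain ⟨x, hx, rfl⟩ := hfm.mem_img.1 hy.1
  have hxT : x ∈ T := sc_mem_of_apply_mem hT hfm hx hy.2
  have hxQT : x ∈ Q ⊓ T := ⟨hx, hxT⟩
  rw [hgf x hx, hfv x hxQT, hhv _ (hf₀.apply_mem_img hxQT), hf₀i1 x hxQT, autFun_inv_apply α hxT]

/-- conjugations by elements of `S` are kernel maps -/
theorem ppiKC_conj [Finite S] [Finite Δ] {p : ℕ} [Fact p.Prime] (hS : IsPGroup p S)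
    (hinv : E.IsInvariantIn F) (hΔ : (Nat.card Δ).Coprime p) {Q : Subgroup Ω} (hQ : Q ≤ S) {s : Ω}
    (hs : s ∈ S) : PpiKC F E χ Q (fun x => s * x * s⁻¹) := by
  have hT := hinv.2.1
  obtain ⟨σ, hσK, hσv⟩ := exists_conj_ppiK (χ := χ) hS hT hΔ hs
  exact ⟨isMap_conj F hQ hs, σ, hσK, id, isMap_id E inf_le_right, fun x hx => (hσv x hx.2).symm⟩

/-- an automorphism of `S` in the system is a kernel map exactly when its restriction to `T` lies in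
the kernel -/
theorem ppiKC_aut_iff [Finite S] (hinv : E.IsInvariantIn F)
    (hker : (E.autGroup T).subgroupOf (F.autGroup T) ≤ χ.ker) {γ : MulAut S} (hγ : γ ∈ F.autGroup S)
    {β : MulAut T} (hβγ : ∀ x ∈ T, autFun β x = autFun γ x) :
    PpiKC F E χ S (autFun γ) ↔ ppiK F χ β := by
  have hT := hinv.2.1
  have hTS : T ≤ S := hT.1
  have : Finite T := Helper88.finite_of_le hTS
  constructor
  · rintro ⟨-, α, hα, f₀, hf₀, hv⟩
    have hf₀T : IsMap E T f₀ := hf₀.restrict (le_inf hTS le_rfl)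
    obtain ⟨β₀, hβ₀, hβ₀v⟩ := hf₀T.exists_aut (hf₀T.img_eq_of_mapsTo (fun x hx => hf₀T.mem hx))
    have e : β = α * β₀ := by
      apply autFun_ext
      intro x hx
      rw [hβγ x hx, hv x ⟨hTS hx, hx⟩, autFun_mul _ _ hx, hβ₀v x hx]
    rw [e]
    exact hα.mul (ppiK_of_E hinv.1 hTS hker hβ₀)
  · intro hK
    exact ⟨IsMap.of_mem_autGroup le_rfl hγ, β, hK, id, isMap_id E inf_le_right,
      fun x hx => (hβγ x hx.2).symm⟩

/-- a map of the ambient system whose restriction to a subgroup meeting `T` in an `E`-centric subgroup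
is a kernel map is a kernel map -/
theorem ppiKC_of_restrict [Finite S] [Finite Δ] {p : ℕ} [Fact p.Prime] (hS : IsPGroup p S)
    (hF : F.IsSaturated p) (hEs : E.IsSaturated p) (hinv : E.IsInvariantIn F)
    (hΔ : (Nat.card Δ).Coprime p) (hker : (E.autGroup T).subgroupOf (F.autGroup T) ≤ χ.ker)
    {N R : Subgroup Ω} {ψ : Ω → Ω} (hψ : IsMap F N ψ) (hRN : R ≤ N) (hRc : E.IsCentric (R ⊓ T))
    (hψR : PpiKC F E χ R ψ) : PpiKC F E χ N ψ := by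
  obtain ⟨α, hα, ψ₀, hψ₀, hψv⟩ :=
    invariant_frattini hinv (inf_le_right : N ⊓ T ≤ T) (hψ.restrict inf_le_left)
  obtain ⟨-, α', hα', f₀', hf₀', hv'⟩ := hψR
  have hle : R ⊓ T ≤ N ⊓ T := inf_le_inf_right T hRN
  have h1 : ppiK F χ (α'⁻¹ * α) := ppiK_unique hS hF hEs hinv hΔ hker hRc hα hα'.mem
    (hψ₀.restrict hle) hf₀' (fun x hx => by rw [← hψv x (hle hx), hv' x hx])
  have h2 : ppiK F χ α := by
    have := hα'.mul h1
    rwa [mul_inv_cancel_left] at this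
  exact ⟨hψ, α, h2, ψ₀, hψ₀, hψv⟩

/-- every map of the ambient system is a kernel map followed by an element of `Aut_F(S)` -/
theorem ppiKC_frattini [Finite S] [Finite Δ] {p : ℕ} [Fact p.Prime] (hS : IsPGroup p S)
    (hF : F.IsSaturated p) (hinv : E.IsInvariantIn F) (hΔ : (Nat.card Δ).Coprime p)
    {P : Subgroup Ω} {f : Ω → Ω} (hf : IsMap F P f) :
    ∃ γ ∈ F.autGroup S, PpiKC F E χ P (autFun γ⁻¹ ∘ f) := by
  have hT := hinv.2.1
  have hTS : T ≤ S := hT.1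
  obtain ⟨α, hα, f₀, hf₀, hfv⟩ :=
    invariant_frattini hinv (inf_le_right : P ⊓ T ≤ T) (hf.restrict inf_le_left)
  obtain ⟨γ, hγ, β, hβ, hβγ, hK⟩ := exists_aut_S_ppiK (χ := χ) hS hF hT hΔ hα
  have hγi : γ⁻¹ ∈ F.autGroup S := Subgroup.inv_mem _ hγ
  have hγim : IsMap F S (autFun γ⁻¹) := IsMap.of_mem_autGroup le_rfl hγi
  refine ⟨γ, hγ, hf.comp hγim (fun x hx => hf.mem hx), β⁻¹ * α, hK, f₀, hf₀, fun x hx => ?_⟩
  have hf₀T : f₀ x ∈ T := hf₀.mem hx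
  have hy : autFun α (f₀ x) ∈ T := autFun_mem α hf₀T
  have hz : autFun β⁻¹ (autFun α (f₀ x)) ∈ T := autFun_mem β⁻¹ hy
  have h1 : autFun γ (autFun β⁻¹ (autFun α (f₀ x))) = autFun α (f₀ x) := by
    rw [← hβγ _ hz, autFun_apply_inv β hy]
  show autFun γ⁻¹ (f x) = autFun (β⁻¹ * α) (f₀ x)
  rw [hfv x hx, autFun_mul _ _ hf₀T]
  calc autFun γ⁻¹ (autFun α (f₀ x))
      = autFun γ⁻¹ (autFun γ (autFun β⁻¹ (autFun α (f₀ x)))) := by rw [h1]
    _ = autFun β⁻¹ (autFun α (f₀ x)) := autFun_inv_apply γ (hTS hz)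

/-- the transport of a kernel map by an element of `Aut_F(S)` is a kernel map -/
theorem PpiKC.autConj [Finite S] (hinv : E.IsInvariantIn F) {γ : MulAut S} (hγ : γ ∈ F.autGroup S)
    {Q : Subgroup Ω} {f : Ω → Ω} (hf : PpiKC F E χ Q f) :
    PpiKC F E χ (img Q (autFun γ)) (autFun γ ∘ f ∘ autFun γ⁻¹) := by
  have hT := hinv.2.1
  have hTS : T ≤ S := hT.1
  obtain ⟨hfm, α, hα, f₀, hf₀, hfv⟩ := hf
  have hQS : Q ≤ S := hfm.le
  have hγm : IsMap F S (autFun γ) := IsMap.of_mem_autGroup le_rfl hγ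
  have hγi : γ⁻¹ ∈ F.autGroup S := Subgroup.inv_mem _ hγ
  have hγim : IsMap F S (autFun γ⁻¹) := IsMap.of_mem_autGroup le_rfl hγi
  have hγQ : IsMap F Q (autFun γ) := hγm.restrict hQS
  obtain ⟨β, hβ, hβγ⟩ := exists_res_aut hT hγ
  have hβm : IsMap F T (autFun β) := IsMap.of_mem_autGroup hTS hβ
  have hmap : IsMap F (img Q (autFun γ)) (autFun γ ∘ f ∘ autFun γ⁻¹) := by
    have h1 : IsMap F (img Q (autFun γ)) (autFun γ⁻¹) := hγim.restrict hγQ.img_le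
    have h2 : ∀ y ∈ img Q (autFun γ), autFun γ⁻¹ y ∈ Q := by
      intro y hy
      obtain ⟨x, hx, rfl⟩ := hγQ.mem_img.1 hy
      rw [autFun_inv_apply γ (hQS hx)]
      exact hx
    exact (h1.comp hfm h2).comp hγm (fun y hy => hfm.mem (h2 y hy))
  obtain ⟨h, hh, hhv⟩ := invariant_ambient hinv (inf_le_right : Q ⊓ T ≤ T) hf₀ hβ
  have hle : img Q (autFun γ) ⊓ T ≤ img (Q ⊓ T) (autFun β) := by
    intro y hy
    obtain ⟨x, hx, rfl⟩ := hγQ.mem_img.1 hy.1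
    have hxT : x ∈ T := sc_mem_of_apply_mem hT hγQ hx hy.2
    rw [← hβγ x hxT]
    exact (hβm.restrict inf_le_right).apply_mem_img ⟨hx, hxT⟩
  refine ⟨hmap, β * α * β⁻¹, hα.conj hβ, h, hh.restrict hle, fun y hy => ?_⟩
  obtain ⟨x, hx, rfl⟩ := hγQ.mem_img.1 hy.1
  have hxT : x ∈ T := sc_mem_of_apply_mem hT hγQ hx hy.2
  have hxQT : x ∈ Q ⊓ T := ⟨hx, hxT⟩
  have hf₀T : f₀ x ∈ T := hf₀.mem hxQT
  show autFun γ (f (autFun γ⁻¹ (autFun γ x))) = autFun (β * α * β⁻¹) (h (autFun γ x))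
  rw [autFun_inv_apply γ (hQS hx), ← hβγ x hxT, hhv x hxQT, autFun_mul _ _ (autFun_mem β hf₀T),
    autFun_mul _ _ (autFun_mem β⁻¹ (autFun_mem β hf₀T)), autFun_inv_apply β hf₀T, hfv x hxQT,
    hβγ _ (autFun_mem α hf₀T)]

end

end Cfsg.Agent.Helper85
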