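import Cfsg.Agent.Helper85.PpiC

set_option autoImplicit false
set_option maxHeartbeats 1000000

namespace Cfsg.Agent.Helper85

open Cfsg Cfsg.FusionSystem Cfsg.Agent.Helper88

variable {Ω : Type*} [Group Ω] {S : Subgroup Ω}

/-- automorphisms in a subsystem that are trivial on `R ⊓ T` and modulo `T` lie in the largest normal
`p`-subgroup of the automizer -/
theorem ppi_stab_le_pCore [Finite S] {p : ℕ} [Fact p.Prime] (hS : IsPGroup p S) {F : FusionSystem S}
    {T : Subgroup Ω} (hT : F.StronglyClosed T) (D : FusionSystem S) (hDF : D ≤ F) {R : Subgroup Ω}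
    (hR : R ≤ S) {β : MulAut R} (hβD : β ∈ D.autGroup R) (hβ1 : β ∈ stabMod R T)
    (hβ2 : β ∈ fixPt R T) : β ∈ (pCore p (D.autGroup R)).map (D.autGroup R).subtype := by
  have hDle : D.autGroup R ≤ F.autGroup R := autGroup_mono hDF hR
  have hN : (((stabMod R T ⊓ fixPt R T) ⊓ D.autGroup R).subgroupOf (D.autGroup R)).Normal :=
    ⟨fun n hn a => by
      rw [Subgroup.mem_subgroupOf] at hn ⊢
      have haF : (a : MulAut R) ∈ F.autGroup R := hDle a.2
      refine ⟨⟨stabMod_conj_mem hT hR haF hn.1.1, fixPt_conj_mem (fun w hw => ?_) hn.1.2⟩,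
        Subgroup.mul_mem _ (Subgroup.mul_mem _ a.2 hn.2) (Subgroup.inv_mem _ a.2)⟩
      exact (stronglyClosed_aut_mem_iff hT hR (Subgroup.inv_mem _ haF) w).2 hw⟩
  have hp : IsPGroup p (((stabMod R T ⊓ fixPt R T) ⊓ D.autGroup R).subgroupOf (D.autGroup R)) := by
    rintro ⟨n, hn⟩
    have hn' : (n : MulAut R) ∈ (stabMod R T ⊓ fixPt R T) ⊓ D.autGroup R :=
      Subgroup.mem_subgroupOf.1 hn
    obtain ⟨j, hj⟩ := stabMod_fixPt_pow_eq_one hS hT.1 hn'.1.1 hn'.1.2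
    refine ⟨j, ?_⟩
    apply Subtype.ext
    apply Subtype.ext
    simpa using hj
  have h2 : ((stabMod R T ⊓ fixPt R T) ⊓ D.autGroup R).subgroupOf (D.autGroup R) ≤
      pCore p (D.autGroup R) := le_sSup ⟨hN, hp⟩
  exact ⟨⟨β, hβD⟩, h2 (Subgroup.mem_subgroupOf.2 ⟨⟨hβ1, hβ2⟩, hβD⟩), rfl⟩

/-- the transported radical-centric argument: an element of `C_T(R' ⊓ T)` normalizing a conjugate `R'`
of a centric radical subgroup lies in `R'` -/
theorem ppi_mem_of_cent [Finite S] {p : ℕ} [Fact p.Prime] (hS : IsPGroup p S) {F : FusionSystem S}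
    {T : Subgroup Ω} (hT : F.StronglyClosed T) {R : Subgroup Ω} (hRc : F.IsCentric R)
    (hRr : F.IsRadical p R) {g : Ω → Ω} (hg : IsMap F R g) {d : Ω}
    (hd : d ∈ centralizerIn T (img R g ⊓ T))
    (hdN : d ∈ Subgroup.normalizer ((img R g : Subgroup Ω) : Set Ω)) : d ∈ img R g := by
  have hTS : T ≤ S := hT.1
  have hRS : R ≤ S := hRc.1
  obtain ⟨hdT, hdc⟩ := mem_centralizerIn_iff.1 hd
  obtain ⟨gi, hgi, hgi1, hgi2, -⟩ := hg.exists_inv
  have hcd : IsMap F (img R g) (fun y => d * y * d⁻¹) := isMap_conj F hg.img_le (hTS hdT)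
  have hβ' : IsMap F R (gi ∘ (fun y => d * y * d⁻¹) ∘ g) :=
    (hg.comp hcd (fun x hx => hg.apply_mem_img hx)).comp hgi
      (fun x hx => conj_mem_of_mem_normalizer hdN (hg.apply_mem_img hx))
  have hmaps : ∀ x ∈ R, gi (d * g x * d⁻¹) ∈ R := fun x hx =>
    (hgi2 _ (conj_mem_of_mem_normalizer hdN (hg.apply_mem_img hx))).1
  obtain ⟨β, hβ, hβv⟩ := hβ'.exists_aut (hβ'.img_eq_of_mapsTo hmaps)
  have hβv' : ∀ x ∈ R, autFun β x = gi (d * g x * d⁻¹) := hβv
  have hgβ : ∀ x ∈ R, g (autFun β x) = d * g x * d⁻¹ := fun x hx => by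
    rw [hβv' x hx]
    exact (hgi2 _ (conj_mem_of_mem_normalizer hdN (hg.apply_mem_img hx))).2
  have hβ1 : β ∈ stabMod R T := by
    intro x
    have hx : (x : Ω) ∈ R := x.2
    have hβx : autFun β x ∈ R := autFun_mem β hx
    have hmem : (x : Ω)⁻¹ * autFun β x ∈ R := R.mul_mem (R.inv_mem hx) hβx
    have h1 : g ((x : Ω)⁻¹ * autFun β x) ∈ T := by
      rw [hg.map_mul (R.inv_mem hx) hβx, hg.map_inv hx, hgβ x hx]
      have h2 : (g x)⁻¹ * d * ((g x)⁻¹)⁻¹ ∈ T :=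
        Helper88.stronglyClosed_conj_mem hT (S.inv_mem (hg.mem hx)) hdT
      have e : (g x)⁻¹ * (d * g x * d⁻¹) = ((g x)⁻¹ * d * ((g x)⁻¹)⁻¹) * d⁻¹ := by group
      rw [e]
      exact T.mul_mem h2 (T.inv_mem hdT)
    have h3 := sc_mem_of_apply_mem hT hg hmem h1
    rwa [autFun_apply β x] at h3
  have hβ2 : β ∈ fixPt R T := by
    intro w hw
    apply Subtype.ext
    have hwR : (w : Ω) ∈ R := w.2
    have hgw : g w ∈ img R g ⊓ T := ⟨hg.apply_mem_img hwR, sc_apply_mem hT hg hwR hw⟩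
    have h1 : g (autFun β w) = g w := by
      rw [hgβ _ hwR]
      have := hdc _ hgw
      calc d * g w * d⁻¹ = (g w * d) * d⁻¹ := by rw [this]
        _ = g w := by group
    have h2 := hg.inj (autFun_mem β hwR) hwR h1
    rw [autFun_apply β w] at h2
    exact h2
  have hcore := ppi_stab_le_pCore hS hT F (fun _ _ h => h) hRS hβ hβ1 hβ2
  rw [hRr.2] at hcore
  obtain ⟨r, hr, hrβ⟩ := (mem_inn_iff β).1 hcore
  have hc : (g r)⁻¹ * d ∈ centralizerIn S (img R g) := by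
    refine mem_centralizerIn_iff.2 ⟨S.mul_mem (S.inv_mem (hg.mem hr)) (hTS hdT), fun y hy => ?_⟩
    obtain ⟨x, hx, rfl⟩ := hg.mem_img.1 hy
    have e : d * g x * d⁻¹ = g r * g x * (g r)⁻¹ := by
      rw [← hgβ x hx, hrβ x hx, hg.map_conj hr hx]
    calc g x * ((g r)⁻¹ * d) = (g r)⁻¹ * (g r * g x * (g r)⁻¹) * d := by group
      _ = (g r)⁻¹ * (d * g x * d⁻¹) * d := by rw [e]
      _ = (g r)⁻¹ * d * g x := by group
  have hc' := centralizerIn_le_of_isCentric (isCentric_of_isConj hRc hg.isConj) hc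
  have e : d = g r * ((g r)⁻¹ * d) := by group
  rw [e]
  exact Subgroup.mul_mem _ (hg.apply_mem_img hr) hc'

/-- the growth argument: if every element of `C_T(Q ⊓ T)` normalizing `Q` lies in `Q`, then
`C_T(Q ⊓ T) ≤ Q ⊓ T` -/
theorem ppi_cent_le_of_normalizer [Finite S] {p : ℕ} [Fact p.Prime] (hS : IsPGroup p S)
    {F : FusionSystem S} {T : Subgroup Ω} (hT : F.StronglyClosed T) {Q : Subgroup Ω} (hQS : Q ≤ S)
    (h : ∀ d ∈ centralizerIn T (Q ⊓ T), d ∈ Subgroup.normalizer (Q : Set Ω) → d ∈ Q) :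
    centralizerIn T (Q ⊓ T) ≤ Q ⊓ T := by
  have hTS : T ≤ S := hT.1
  have hnorm : ∀ r ∈ Q, ∀ c ∈ centralizerIn T (Q ⊓ T), r * c * r⁻¹ ∈ centralizerIn T (Q ⊓ T) := by
    intro r hr c hc
    obtain ⟨hcT, hcc⟩ := mem_centralizerIn_iff.1 hc
    refine mem_centralizerIn_iff.2 ⟨Helper88.stronglyClosed_conj_mem hT (hQS hr) hcT, fun y hy => ?_⟩
    have hy' : r⁻¹ * y * r⁻¹⁻¹ ∈ Q ⊓ T :=
      ⟨Q.mul_mem (Q.mul_mem (Q.inv_mem hr) hy.1) (Q.inv_mem (Q.inv_mem hr)),
        Helper88.stronglyClosed_conj_mem hT (S.inv_mem (hQS hr)) hy.2⟩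
    have h1 := hcc _ hy'
    calc y * (r * c * r⁻¹) = r * ((r⁻¹ * y * r⁻¹⁻¹) * c) * r⁻¹ := by group
      _ = r * (c * (r⁻¹ * y * r⁻¹⁻¹)) * r⁻¹ := by rw [h1]
      _ = r * c * r⁻¹ * y := by group
  intro c hc
  have hcT : c ∈ T := (mem_centralizerIn_iff.1 hc).1
  refine ⟨?_, hcT⟩
  by_contra hcR
  have hXS : Q ⊔ centralizerIn T (Q ⊓ T) ≤ S := sup_le hQS (inf_le_left.trans hTS)
  have : Finite ↥(Q ⊔ centralizerIn T (Q ⊓ T)) := Helper88.finite_of_le hXS
  have hne : Q ≠ Q ⊔ centralizerIn T (Q ⊓ T) := fun hh =>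
    hcR (by rw [hh]; exact Subgroup.mem_sup_right hc)
  obtain ⟨x, hxX, hxN, hxR⟩ := exists_normalizer_of_lt (hS.to_le hXS) le_sup_left hne
  obtain ⟨r, hr, d, hd, rfl⟩ := exists_mul_of_mem_sup hnorm hxX
  have hdN : d ∈ Subgroup.normalizer (Q : Set Ω) := by
    have e : d = r⁻¹ * (r * d) := by group
    rw [e]
    exact Subgroup.mul_mem _ (Subgroup.inv_mem _ (Subgroup.le_normalizer hr)) hxN
  exact hxR (Q.mul_mem hr (h d hd hdN))

/-- generic transport of the self-centralizing property along a map of the system -/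
theorem ppi_cent_le_of_map {F : FusionSystem S} {T : Subgroup Ω} (hT : F.StronglyClosed T)
    {N Q : Subgroup Ω} {f : Ω → Ω} (hf : IsMap F N f) (hQN : Q ≤ N) (hCN : centralizerIn T Q ≤ N)
    (h : centralizerIn T (img Q f) ≤ img Q f) : centralizerIn T Q ≤ Q := by
  intro c hc
  obtain ⟨hcT, hcc⟩ := mem_centralizerIn_iff.1 hc
  have hcN : c ∈ N := hCN hc
  have h1 : f c ∈ centralizerIn T (img Q f) := by
    refine mem_centralizerIn_iff.2 ⟨sc_apply_mem hT hf hcN hcT, fun y hy => ?_⟩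
    obtain ⟨x, hx, rfl⟩ := (hf.restrict hQN).mem_img.1 hy
    rw [← hf.map_mul (hQN hx) hcN, ← hf.map_mul hcN (hQN hx), hcc x hx]
  obtain ⟨x, hx, hxc⟩ := (hf.restrict hQN).mem_img.1 (h h1)
  have := hf.inj (hQN hx) hcN hxc
  rw [← this]
  exact hx

/-- a subgroup of `T` with a fully automized receptive conjugate that contains its centralizer in `T`
is `E`-centric -/
theorem ppi_centric_of_cent [Finite S] {p : ℕ} [Fact p.Prime] (hS : IsPGroup p S)
    {F : FusionSystem S} {T : Subgroup Ω} {E : FusionSystem T} (hinv : E.IsInvariantIn F)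
    {U U' : Subgroup Ω} (hUT : U ≤ T) (hconj : F.IsConj U U') (hU'a : F.IsFullyAutomized p U')
    (hU'r : F.IsReceptive U') (h : centralizerIn T U' ≤ U') : E.IsCentric U := by
  have hT := hinv.2.1
  have hTS : T ≤ S := hT.1
  refine ⟨hUT, fun Q hQ => ?_⟩
  have hQF : F.IsConj U Q := by
    obtain ⟨e, he, rfl⟩ := (Helper88.isConj_iff E).1 hQ
    exact (isMap_of_isSubsystemOf hinv.1 he).isConj
  have hQU' : F.IsConj Q U' := Helper88.isConj_trans F (Helper88.isConj_symm F hQF) hconj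
  obtain ⟨ρQ, hρQ, hρQimg⟩ := Helper88.exists_normalizer_map hS hU'a hU'r hQU'
  have hQS : Q ≤ S := Helper88.isConj_le_left hQU'
  refine ppi_cent_le_of_map hT hρQ (le_normalizerIn hQS) ?_ (by rw [hρQimg]; exact h)
  exact (inf_le_inf_right _ hTS).trans (centralizerIn_le_normalizerIn S Q)

/-- the intersection with `T` of a centric radical subgroup is `E`-centric -/
theorem ppi_centric_inf [Finite S] {p : ℕ} [Fact p.Prime] (hS : IsPGroup p S) {F : FusionSystem S}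
    (hF : F.IsSaturated p) {T : Subgroup Ω} {E : FusionSystem T} (hinv : E.IsInvariantIn F)
    {R : Subgroup Ω} (hRc : F.IsCentric R) (hRr : F.IsRadical p R) : E.IsCentric (R ⊓ T) := by
  have hT := hinv.2.1
  have hRS : R ≤ S := hRc.1
  have hUS : R ⊓ T ≤ S := inf_le_left.trans hRS
  obtain ⟨U', hconj, hU'a, hU'r⟩ := hF (R ⊓ T) hUS
  obtain ⟨ρ, hρ, hρimg⟩ := Helper88.exists_normalizer_map hS hU'a hU'r hconj
  have hρR : IsMap F R ρ := hρ.restrict (normalizer_inf_sc hT hRS)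
  have h1 : img R ρ ⊓ T = U' := by rw [img_inf_sc hT hρR]; exact hρimg
  have h2 : centralizerIn T U' ≤ U' := by
    have := ppi_cent_le_of_normalizer hS hT hρR.img_le
      (fun d hd hdN => ppi_mem_of_cent hS hT hRc hRr hρR hd hdN)
    rwa [h1] at this
  exact ppi_centric_of_cent hS hinv inf_le_right hconj hU'a hU'r h2

/-- if `P ⊓ T` is not `E`-centric, some map of the system carries `P` to a subgroup whose intersection
with `T` does not contain its centralizer in `T` -/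
theorem ppi_exists_map_not_cent [Finite S] {p : ℕ} [Fact p.Prime] (hS : IsPGroup p S)
    {F : FusionSystem S} (hF : F.IsSaturated p) {T : Subgroup Ω} {E : FusionSystem T}
    (hinv : E.IsInvariantIn F) {P : Subgroup Ω} (hPS : P ≤ S) (hP : ¬ E.IsCentric (P ⊓ T)) :
    ∃ f, IsMap F P f ∧ ¬ centralizerIn T (img P f ⊓ T) ≤ img P f ⊓ T := by
  have hT := hinv.2.1
  have hUS : P ⊓ T ≤ S := inf_le_left.trans hPS
  obtain ⟨U', hconj, hU'a, hU'r⟩ := hF (P ⊓ T) hUS
  obtain ⟨ρ, hρ, hρimg⟩ := Helper88.exists_normalizer_map hS hU'a hU'r hconj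
  have hρP : IsMap F P ρ := hρ.restrict (normalizer_inf_sc hT hPS)
  refine ⟨ρ, hρP, fun hle => hP ?_⟩
  rw [img_inf_sc hT hρP, hρimg] at hle
  exact ppi_centric_of_cent hS hinv inf_le_right hconj hU'a hU'r hle

/-- a centric subgroup whose intersection with `T` does not contain its centralizer in `T` has an
automorphism induced by `S`, in the largest normal `p`-subgroup of its automizer in any subsystem, that
is not inner -/
theorem ppi_not_le_inn [Finite S] {p : ℕ} [Fact p.Prime] (hS : IsPGroup p S) {F : FusionSystem S}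
    {T : Subgroup Ω} (hT : F.StronglyClosed T) (D : FusionSystem S) (hDF : D ≤ F) {Q : Subgroup Ω}
    (hQc : F.IsCentric Q) (hQ : ¬ centralizerIn T (Q ⊓ T) ≤ Q ⊓ T) :
    ¬ (autInducedBy S Q ⊓ (pCore p (D.autGroup Q)).map (D.autGroup Q).subtype ≤ Inn Q) := by
  have hTS : T ≤ S := hT.1
  have hQS : Q ≤ S := hQc.1
  intro hle
  apply hQ
  refine ppi_cent_le_of_normalizer hS hT hQS (fun d hd hdN => ?_)
  obtain ⟨hdT, hdc⟩ := mem_centralizerIn_iff.1 hd
  obtain ⟨β, hβD, hβS, hβv⟩ := exists_aut_conj D hQS (mem_normalizerIn_iff.2 ⟨hTS hdT, hdN⟩)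
  have hβ1 : β ∈ stabMod Q T := by
    intro x
    have hx : (x : Ω) ∈ Q := x.2
    rw [← autFun_apply β x, hβv x hx]
    have h2 : (x : Ω)⁻¹ * d * ((x : Ω)⁻¹)⁻¹ ∈ T :=
      Helper88.stronglyClosed_conj_mem hT (S.inv_mem (hQS hx)) hdT
    have e : (x : Ω)⁻¹ * (d * x * d⁻¹) = ((x : Ω)⁻¹ * d * ((x : Ω)⁻¹)⁻¹) * d⁻¹ := by group
    rw [e]
    exact T.mul_mem h2 (T.inv_mem hdT)
  have hβ2 : β ∈ fixPt Q T := by
    intro w hw
    apply Subtype.ext
    have hwQ : (w : Ω) ∈ Q := w.2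
    rw [← autFun_apply β w, hβv w hwQ]
    have := hdc _ ⟨hwQ, hw⟩
    calc d * (w : Ω) * d⁻¹ = ((w : Ω) * d) * d⁻¹ := by rw [this]
      _ = w := by group
  have hcore := ppi_stab_le_pCore hS hT D hDF hQS hβD hβ1 hβ2
  obtain ⟨r, hr, hrβ⟩ := (mem_inn_iff β).1 (hle ⟨hβS, hcore⟩)
  have hc : r⁻¹ * d ∈ centralizerIn S Q := by
    refine mem_centralizerIn_iff.2 ⟨S.mul_mem (S.inv_mem (hQS hr)) (hTS hdT), fun y hy => ?_⟩
    have e : d * y * d⁻¹ = r * y * r⁻¹ := by rw [← hβv y hy, hrβ y hy]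
    calc y * (r⁻¹ * d) = r⁻¹ * (r * y * r⁻¹) * d := by group
      _ = r⁻¹ * (d * y * d⁻¹) * d := by rw [e]
      _ = r⁻¹ * d * y := by group
  have hc' := centralizerIn_le_of_isCentric hQc hc
  have e : d = r * (r⁻¹ * d) := by group
  rw [e]
  exact Q.mul_mem hr hc'

end Cfsg.Agent.Helper85
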