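import Cfsg.Agent.Helper85.PpiD

set_option autoImplicit false
set_option maxHeartbeats 1000000

namespace Cfsg.Agent.Helper85

open Cfsg Cfsg.FusionSystem Cfsg.Agent.Helper88

variable {Ω : Type*} [Group Ω] {S : Subgroup Ω}

/-- the maps generated by the kernel maps defined on subgroups meeting `T` in an `E`-centric subgroup -/
inductive PpiGen (F : FusionSystem S) {T : Subgroup Ω} (E : FusionSystem T) {Δ : Type*} [Group Δ]
    (χ : F.autGroup T →* Δ) : Subgroup Ω → (Ω → Ω) → Prop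
  | base {P Q : Subgroup Ω} {f : Ω → Ω} (hQ : E.IsCentric (Q ⊓ T)) (hf : PpiKC F E χ Q f)
      (hP : P ≤ Q) : PpiGen F E χ P f
  | comp {P Q : Subgroup Ω} {f g : Ω → Ω} (hf : PpiGen F E χ P f) (hg : PpiGen F E χ Q g)
      (h : ∀ x ∈ P, f x ∈ Q) : PpiGen F E χ P (g ∘ f)
  | congr {P : Subgroup Ω} {f g : Ω → Ω} (hf : PpiGen F E χ P f) (h : ∀ x ∈ P, g x = f x) :
      PpiGen F E χ P g

section

variable {F : FusionSystem S} {T : Subgroup Ω} {E : FusionSystem T} {Δ : Type*} [Group Δ]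
  {χ : F.autGroup T →* Δ}

theorem PpiGen.isMapF {P : Subgroup Ω} {f : Ω → Ω} (h : PpiGen F E χ P f) : IsMap F P f := by
  induction h with
  | base _ hf hP => exact hf.isMapF.restrict hP
  | comp _ _ h ihf ihg => exact ihf.comp ihg h
  | congr _ h ih => exact ih.congr h

theorem PpiGen.kc (hinv : E.IsInvariantIn F) {P : Subgroup Ω} {f : Ω → Ω} (h : PpiGen F E χ P f) :
    PpiKC F E χ P f := by
  induction h with
  | base _ hf hP => exact hf.restrict hP
  | comp _ _ h ihf ihg => exact ihf.comp hinv ihg h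
  | congr _ h ih => exact ih.congr h

theorem PpiGen.restrict {P : Subgroup Ω} {f : Ω → Ω} (h : PpiGen F E χ P f) :
    ∀ {R : Subgroup Ω}, R ≤ P → PpiGen F E χ R f := by
  induction h with
  | base hQ hf hP => exact fun hR => PpiGen.base hQ hf (hR.trans hP)
  | comp _ hg h ihf _ => exact fun hR => (ihf hR).comp hg (fun x hx => h x (hR hx))
  | congr _ h ih => exact fun hR => (ih hR).congr (fun x hx => h x (hR hx))

theorem PpiGen.exists_inv (hinv : E.IsInvariantIn F) {P : Subgroup Ω} {f : Ω → Ω}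
    (h : PpiGen F E χ P f) : ∃ g, PpiGen F E χ (img P f) g ∧ ∀ x ∈ P, g (f x) = x := by
  have hT := hinv.2.1
  induction h with
  | @base P Q f hQ hf hP =>
    have hfm := hf.isMapF
    obtain ⟨gi, hgi, hgi1, -, -⟩ := hfm.exists_inv
    have hkc : PpiKC F E χ (img Q f) gi := hf.inv hinv hgi hgi1
    have hc : E.IsCentric (img Q f ⊓ T) := by
      rw [img_inf_sc hT hfm]
      exact isCentric_img_of_invariant hinv hQ (hfm.restrict inf_le_left)
    exact ⟨gi, PpiGen.base hc hkc (hfm.img_restrict_le hP), fun x hx => hgi1 x (hP hx)⟩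
  | @comp P Q f g hf hg h ihf ihg =>
    obtain ⟨fi, hfi, hfi1⟩ := ihf
    obtain ⟨gi, hgi, hgi1⟩ := ihg
    have hfm : IsMap F P f := hf.isMapF
    have hgf : IsMap F P (g ∘ f) := (hf.comp hg h).isMapF
    have hle : img P (g ∘ f) ≤ img Q g := by
      unfold img
      apply Subgroup.closure_mono
      rintro _ ⟨x, hx, rfl⟩
      exact ⟨f x, h x hx, rfl⟩
    have h1 : PpiGen F E χ (img P (g ∘ f)) gi := hgi.restrict hle
    have h2 : ∀ z ∈ img P (g ∘ f), gi z ∈ img P f := by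
      intro z hz
      obtain ⟨x, hx, rfl⟩ := hgf.mem_img.mp hz
      show gi (g (f x)) ∈ img P f
      rw [hgi1 _ (h x hx)]
      exact hfm.apply_mem_img hx
    refine ⟨fi ∘ gi, h1.comp hfi h2, fun x hx => ?_⟩
    show fi (gi (g (f x))) = x
    rw [hgi1 _ (h x hx), hfi1 x hx]
  | @congr P f g hf h ih =>
    obtain ⟨fi, hfi, hfi1⟩ := ih
    rw [img_congr h]
    exact ⟨fi, hfi, fun x hx => by rw [h x hx, hfi1 x hx]⟩

/-- the generated class is invariant under conjugation by the elements of `Aut_F(S)` -/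
theorem PpiGen.conj [Finite S] (hinv : E.IsInvariantIn F) {γ : MulAut S} (hγ : γ ∈ F.autGroup S)
    {P : Subgroup Ω} {f : Ω → Ω} (h : PpiGen F E χ P f) :
    PpiGen F E χ (img P (autFun γ)) (autFun γ ∘ f ∘ autFun γ⁻¹) := by
  have hT := hinv.2.1
  have hγm : IsMap F S (autFun γ) := IsMap.of_mem_autGroup le_rfl hγ
  induction h with
  | @base P Q f hQ hf hP =>
    have hQS : Q ≤ S := hf.isMapF.le
    have hγQ : IsMap F Q (autFun γ) := hγm.restrict hQS
    have hc : E.IsCentric (img Q (autFun γ) ⊓ T) := by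
      rw [img_inf_sc hT hγQ]
      exact isCentric_img_of_invariant hinv hQ (hγQ.restrict inf_le_left)
    exact PpiGen.base hc (hf.autConj hinv hγ) (hγQ.img_restrict_le hP)
  | @comp P Q f g hf hg h ihf ihg =>
    have hfm : IsMap F P f := hf.isMapF
    have hPS : P ≤ S := hfm.le
    have hgm : IsMap F Q g := hg.isMapF
    have hQS := hgm.le
    have hγP : IsMap F P (autFun γ) := hγm.restrict hPS
    have hγQ : IsMap F Q (autFun γ) := hγm.restrict hQS
    refine (ihf.comp ihg (fun y hy => ?_)).congr (fun y hy => ?_)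
    · obtain ⟨x, hx, rfl⟩ := hγP.mem_img.mp hy
      show autFun γ (f (autFun γ⁻¹ (autFun γ x))) ∈ img Q (autFun γ)
      rw [autFun_inv_apply γ (hPS hx)]
      exact hγQ.apply_mem_img (h x hx)
    · obtain ⟨x, hx, rfl⟩ := hγP.mem_img.mp hy
      show autFun γ (g (f (autFun γ⁻¹ (autFun γ x)))) =
        autFun γ (g (autFun γ⁻¹ (autFun γ (f (autFun γ⁻¹ (autFun γ x))))))
      rw [autFun_inv_apply γ (hPS hx), autFun_inv_apply γ (hfm.mem hx)]
  | @congr P f g hf h ih =>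
    have hfm : IsMap F P f := hf.isMapF
    have hPS := hfm.le
    have hγP : IsMap F P (autFun γ) := hγm.restrict hPS
    refine ih.congr (fun y hy => ?_)
    obtain ⟨x, hx, rfl⟩ := hγP.mem_img.mp hy
    show autFun γ (g (autFun γ⁻¹ (autFun γ x))) = autFun γ (f (autFun γ⁻¹ (autFun γ x)))
    rw [autFun_inv_apply γ (hPS hx), h x hx]

/-- conjugations by elements of `S` are generated maps -/
theorem ppiGen_conj_mem [Finite S] [Finite Δ] {p : ℕ} [Fact p.Prime] (hS : IsPGroup p S)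
    (hinv : E.IsInvariantIn F) (hΔ : (Nat.card Δ).Coprime p) {Q : Subgroup Ω} (hQ : Q ≤ S) {s : Ω}
    (hs : s ∈ S) : PpiGen F E χ Q (fun x => s * x * s⁻¹) := by
  have hTS : T ≤ S := hinv.2.1.1
  have : Finite T := Helper88.finite_of_le hTS
  have hc : E.IsCentric (S ⊓ T) := by
    rw [inf_eq_right.2 hTS]; exact isCentric_self E
  exact PpiGen.base hc (ppiKC_conj hS hinv hΔ le_rfl hs) hQ

/-- the subsystem generated by the kernel maps, as a fusion system -/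
theorem exists_ppiSys [Finite S] [Finite Δ] {p : ℕ} [Fact p.Prime] (hS : IsPGroup p S)
    (hinv : E.IsInvariantIn F) (hΔ : (Nat.card Δ).Coprime p) :
    ∃ D : FusionSystem S, ∀ (Q : Subgroup Ω) (f : Ω → Ω), IsMap D Q f ↔ PpiGen F E χ Q f := by
  obtain ⟨D, hD⟩ := exists_subsystem_of_pred F (PpiGen F E χ)
    (fun Q f g h hX => hX.congr (fun x hx => (h x hx).symm))
    (fun Q s hQ hs => ppiGen_conj_mem hS hinv hΔ hQ hs)
    (fun Q Q' f g _ _ hmaps hXf hXg => hXf.comp hXg hmaps)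
    (fun Q f g _ hXf _ hgf => by
      obtain ⟨g', hg', hg'1⟩ := hXf.exists_inv hinv
      refine hg'.congr (fun y hy => ?_)
      obtain ⟨x, hx, rfl⟩ := hXf.isMapF.mem_img.1 hy
      rw [hgf x hx, hg'1 x hx])
  refine ⟨D, fun Q f => ⟨?_, fun h => ?_⟩⟩
  · rintro ⟨φ, hφ, hφf⟩
    exact ((hD Q φ).1 hφ).2.congr (fun x hx => by rw [← hφf ⟨x, hx⟩, extHom_apply' φ hx])
  · obtain ⟨φ, hφ, hφf⟩ := h.isMapF
    exact ⟨φ, (hD Q φ).2 ⟨hφ, h.congr (fun x hx => by rw [extHom_apply' φ hx]; exact hφf ⟨x, hx⟩)⟩,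
      hφf⟩

/-- the class of maps that are a generated map followed by an element of `Aut_F(S)` -/
def PpiC (F : FusionSystem S) {T : Subgroup Ω} (E : FusionSystem T) {Δ : Type*} [Group Δ]
    (χ : F.autGroup T →* Δ) (P : Subgroup Ω) (f : Ω → Ω) : Prop :=
  ∃ γ ∈ F.autGroup S, ∃ f₀, PpiGen F E χ P f₀ ∧ ∀ x ∈ P, f x = autFun γ (f₀ x)

theorem PpiC.comp [Finite S] (hinv : E.IsInvariantIn F) {P Q : Subgroup Ω} {f g : Ω → Ω}
    (hQS : Q ≤ S) (hf : PpiC F E χ P f) (hg : PpiC F E χ Q g) (hPQ : ∀ x ∈ P, f x ∈ Q) :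
    PpiC F E χ P (g ∘ f) := by
  obtain ⟨γ, hγ, f₀, hf₀, hfγ⟩ := hf
  obtain ⟨δ, hδ, g₀, hg₀, hgδ⟩ := hg
  have hf₀m : IsMap F P f₀ := hf₀.isMapF
  have hg₀m : IsMap F Q g₀ := hg₀.isMapF
  have hγi : γ⁻¹ ∈ F.autGroup S := Subgroup.inv_mem _ hγ
  have hγim : IsMap F S (autFun γ⁻¹) := IsMap.of_mem_autGroup le_rfl hγi
  have hconj := hg₀.conj hinv hγi
  rw [inv_inv] at hconj
  have hmem : ∀ x ∈ P, f₀ x ∈ img Q (autFun γ⁻¹) := by
    intro x hx
    have h1 : autFun γ⁻¹ (f x) = f₀ x := by rw [hfγ x hx, autFun_inv_apply γ (hf₀m.mem hx)]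
    rw [← h1]
    exact (hγim.restrict hQS).apply_mem_img (hPQ x hx)
  refine ⟨δ * γ, Subgroup.mul_mem _ hδ hγ, _, hf₀.comp hconj hmem, fun x hx => ?_⟩
  show g (f x) = autFun (δ * γ) (autFun γ⁻¹ (g₀ (autFun γ (f₀ x))))
  have h2 : g₀ (autFun γ (f₀ x)) ∈ S := by rw [← hfγ x hx]; exact hg₀m.mem (hPQ x hx)
  rw [autFun_mul δ γ (autFun_mem γ⁻¹ h2), autFun_apply_inv γ h2, ← hfγ x hx, hgδ _ (hPQ x hx)]

/-- the Frattini property: every map of the ambient system is a generated map followed by an element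
of `Aut_F(S)` -/
theorem ppiGen_frattini [Finite S] [Finite Δ] {p : ℕ} [Fact p.Prime] (hS : IsPGroup p S)
    (hF : F.IsSaturated p) (hinv : E.IsInvariantIn F) (hΔ : (Nat.card Δ).Coprime p)
    {P : Subgroup Ω} {f : Ω → Ω} (hf : IsMap F P f) : PpiC F E χ P f :=
  alperin_induction hS hF (PpiC F E χ)
    (fun R _ _ hRc hRrad a ha P hP => by
      obtain ⟨γ, hγ, hkc⟩ := ppiKC_frattini (E := E) (χ := χ) hS hF hinv hΔ
        (IsMap.of_mem_autGroup hRc.1 ha)
      have hc : E.IsCentric (R ⊓ T) := ppi_centric_inf hS hF hinv hRc hRrad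
      refine ⟨γ, hγ, _, PpiGen.base hc hkc hP, fun x hx => ?_⟩
      show autFun a x = autFun γ (autFun γ⁻¹ (autFun a x))
      rw [autFun_apply_inv γ (hRc.1 (autFun_mem a (hP hx)))])
    (fun _ _ _ _ _ hg hCf hCg hPQ => PpiC.comp hinv hg.le hCf hCg hPQ)
    (fun _ _ _ _ hCf hfg => by
      obtain ⟨γ, hγ, f₀, h₀, hfv⟩ := hCf
      exact ⟨γ, hγ, f₀, h₀, fun x hx => (hfg x hx).trans (hfv x hx)⟩) hf

/-- the automorphisms of `p`-power order in the ambient system are generated maps -/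
theorem ppiGen_of_pElement [Finite S] [Finite Δ] {p : ℕ} [Fact p.Prime] (hS : IsPGroup p S)
    (hF : F.IsSaturated p) (hinv : E.IsInvariantIn F) (hΔ : (Nat.card Δ).Coprime p)
    {P : Subgroup Ω} (hPS : P ≤ S) {a : MulAut P} (ha : a ∈ F.autGroup P) {k : ℕ}
    (hk : a ^ p ^ k = 1) : PpiGen F E χ P (autFun a) := by
  obtain ⟨ρ, s, hρ, hs, hρa⟩ := exists_map_conj_of_pElement hS hF hPS ha hk
  obtain ⟨γ, hγ, ρ₁, hρ₁, hργ⟩ := ppiGen_frattini (E := E) (χ := χ) hS hF hinv hΔ hρ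
  have hρ₁m : IsMap F P ρ₁ := hρ₁.isMapF
  have hγi : γ⁻¹ ∈ F.autGroup S := Subgroup.inv_mem _ hγ
  have hγim : IsMap F S (autFun γ⁻¹) := IsMap.of_mem_autGroup le_rfl hγi
  have hkey : ∀ x ∈ P, ρ₁ (autFun a x) = autFun γ⁻¹ s * ρ₁ x * (autFun γ⁻¹ s)⁻¹ := by
    intro x hx
    have hax : autFun a x ∈ P := autFun_mem a hx
    have h1 : autFun γ (ρ₁ (autFun a x)) = s * autFun γ (ρ₁ x) * s⁻¹ := by
      rw [← hργ _ hax, ← hργ x hx]; exact hρa x hx
    have h2 : ρ₁ (autFun a x) = autFun γ⁻¹ (s * autFun γ (ρ₁ x) * s⁻¹) := by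
      rw [← h1, autFun_inv_apply γ (hρ₁m.mem hax)]
    rw [h2, hγim.map_conj hs (autFun_mem γ (hρ₁m.mem hx)), autFun_inv_apply γ (hρ₁m.mem hx)]
  obtain ⟨ρ₁i, hρ₁i, hρ₁i1⟩ := hρ₁.exists_inv hinv
  have hconj : PpiGen F E χ (img P ρ₁) (fun y => autFun γ⁻¹ s * y * (autFun γ⁻¹ s)⁻¹) :=
    ppiGen_conj_mem hS hinv hΔ hρ₁m.img_le (autFun_mem γ⁻¹ hs)
  have h3 : PpiGen F E χ P (ρ₁i ∘ (fun y => autFun γ⁻¹ s * y * (autFun γ⁻¹ s)⁻¹) ∘ ρ₁) :=
    (hρ₁.comp hconj (fun x hx => hρ₁m.apply_mem_img hx)).comp hρ₁i (fun x hx => by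
      show autFun γ⁻¹ s * ρ₁ x * (autFun γ⁻¹ s)⁻¹ ∈ img P ρ₁
      rw [← hkey x hx]
      exact hρ₁m.apply_mem_img (autFun_mem a hx))
  refine h3.congr (fun x hx => ?_)
  show autFun a x = ρ₁i (autFun γ⁻¹ s * ρ₁ x * (autFun γ⁻¹ s)⁻¹)
  rw [← hkey x hx, hρ₁i1 _ (autFun_mem a hx)]

end

section

variable [Finite S] {p : ℕ} [Fact p.Prime] {F : FusionSystem S} {T : Subgroup Ω} {E : FusionSystem T}
  {Δ : Type*} [Group Δ] [Finite Δ] {χ : F.autGroup T →* Δ} {D : FusionSystem S}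

theorem ppiSys_le (hD : ∀ (Q : Subgroup Ω) (f : Ω → Ω), IsMap D Q f ↔ PpiGen F E χ Q f) : D ≤ F := by
  intro P φ hφ
  exact ((hD P _).1 (isMap_extHom hφ)).isMapF.hom_mem (fun x => (extHom_apply φ x).symm)

/-- the subsystem has index prime to `p`, satisfies the Frattini condition and has the same centric
subgroups -/
theorem ppiSys_index (hS : IsPGroup p S) (hF : F.IsSaturated p) (hinv : E.IsInvariantIn F)
    (hΔ : (Nat.card Δ).Coprime p)
    (hD : ∀ (Q : Subgroup Ω) (f : Ω → Ω), IsMap D Q f ↔ PpiGen F E χ Q f) :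
    D.HasPrimeToPIndexIn F p ∧ (∀ (P : Subgroup Ω) (φ : P →* Ω), φ ∈ F.Hom P →
      ∃ α ∈ F.autGroup S, ∃ φ₀ ∈ D.Hom P, ∀ (x : P) (hx : φ₀ x ∈ S),
        φ x = ((α ⟨φ₀ x, hx⟩ : S) : Ω)) ∧ ∀ P : Subgroup Ω, D.IsCentric P ↔ F.IsCentric P :=
  Cfsg.Agent.S5114.result p hS F hF D (ppiSys_le hD) (fun P hP => by
    rintro _ ⟨α, hα, rfl⟩
    have hPS : P ≤ S := hP.1
    have hmem : α ∈ (D.autGroup P).comap (F.autGroup P).subtype := by
      refine (Subgroup.closure_le _).2 (fun a ha => ?_) hα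
      obtain ⟨k, hk⟩ := ha
      have h1 : ((a : F.autGroup P) : MulAut P) ^ p ^ k = 1 := by
        have := pow_orderOf_eq_one a
        rw [hk] at this
        simpa using congrArg Subtype.val this
      show ((a : F.autGroup P) : MulAut P) ∈ D.autGroup P
      exact (Helper88.mem_autGroup_iff D hPS _).2
        ((hD P _).2 (ppiGen_of_pElement hS hF hinv hΔ hPS a.2 h1))
    exact hmem)

end

end Cfsg.Agent.Helper85
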