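import Cfsg.Agent.Helper85.PpiE

set_option autoImplicit false
set_option maxHeartbeats 1000000

namespace Cfsg.Agent.Helper85

open Cfsg Cfsg.FusionSystem Cfsg.Agent.Helper88

variable {Ω : Type*} [Group Ω] {S : Subgroup Ω}

/-- the subsystem generated by the kernel maps is saturated -/
theorem ppiSys_saturated [Finite S] {p : ℕ} [Fact p.Prime] (hS : IsPGroup p S) {F : FusionSystem S}
    (hF : F.IsSaturated p) {T : Subgroup Ω} {E : FusionSystem T} (hEs : E.IsSaturated p)
    (hinv : E.IsInvariantIn F) {Δ : Type*} [Group Δ] [Finite Δ] {χ : F.autGroup T →* Δ}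
    (hΔ : (Nat.card Δ).Coprime p) (hker : (E.autGroup T).subgroupOf (F.autGroup T) ≤ χ.ker)
    {D : FusionSystem S} (hD : ∀ (Q : Subgroup Ω) (f : Ω → Ω), IsMap D Q f ↔ PpiGen F E χ Q f) :
    D.IsSaturated p := by
  have hT := hinv.2.1
  have hTS : T ≤ S := hT.1
  have hle : D ≤ F := ppiSys_le hD
  obtain ⟨-, -, hcent⟩ := ppiSys_index hS hF hinv hΔ hD
  refine Cfsg.Agent.S5110.result p hS D {P | P ≤ S ∧ E.IsCentric (P ⊓ T)} (fun P hP => hP.1)
    ?hconj ?hsat ?hgen ?hstar
  case hconj =>
    intro P hP Q hQ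
    obtain ⟨f, hf, rfl⟩ := (Helper88.isConj_iff D).1 hQ
    have hfF : IsMap F P f := hf.mono hle
    refine ⟨hfF.img_le, ?_⟩
    rw [img_inf_sc hT hfF]
    exact isCentric_img_of_invariant hinv hP.2 (hfF.restrict inf_le_left)
  case hgen =>
    intro E' hE' P φ hφ
    have hg : PpiGen F E χ P (extHom φ) := (hD P _).1 (isMap_extHom hφ)
    have key : ∀ {P : Subgroup Ω} {f : Ω → Ω}, PpiGen F E χ P f → IsMap E' P f := by
      intro P f h
      induction h with
      | @base P Q f hQ hf hP =>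
        have hfD : IsMap D Q f := (hD Q f).2 (PpiGen.base hQ hf le_rfl)
        obtain ⟨φ', hφ', hφ'f⟩ := hfD
        have hm : IsMap E' Q f := ⟨φ', hE' Q ⟨hf.isMapF.le, hQ⟩ hφ', hφ'f⟩
        exact hm.restrict hP
      | comp _ _ h ihf ihg => exact ihf.comp ihg h
      | congr _ h ih => exact ih.congr h
    exact (key hg).hom_mem (fun x => (extHom_apply φ x).symm)
  case hstar =>
    intro P hPc hPn
    have hPF : F.IsCentric P := (hcent P).1 hPc
    have hPS : P ≤ S := hPF.1
    have hP : ¬ E.IsCentric (P ⊓ T) := fun h => hPn ⟨hPS, h⟩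
    obtain ⟨f, hf, hfn⟩ := ppi_exists_map_not_cent hS hF hinv hPS hP
    obtain ⟨γ, hγ, f₀, hf₀, hfγ⟩ := ppiGen_frattini (E := E) (χ := χ) hS hF hinv hΔ hf
    have hf₀D : IsMap D P f₀ := (hD P _).2 hf₀
    have hf₀F : IsMap F P f₀ := hf₀.isMapF
    have hγm : IsMap F S (autFun γ) := IsMap.of_mem_autGroup le_rfl hγ
    have hγim : IsMap F S (autFun γ⁻¹) := IsMap.of_mem_autGroup le_rfl (Subgroup.inv_mem _ hγ)
    have hQS : img P f₀ ≤ S := hf₀F.img_le
    have hQc : F.IsCentric (img P f₀) := isCentric_of_isConj hPF hf₀F.isConj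
    refine ⟨img P f₀, hf₀D.isConj, ppi_not_le_inn hS hT D hle hQc (fun hcl => hfn ?_)⟩
    have himg : img P f = img (img P f₀) (autFun γ) := by
      rw [← img_comp_restrict hf₀F hγm (fun x hx => hf₀F.mem hx)]
      exact img_congr hfγ
    rw [himg]
    have hγQ : IsMap F (img P f₀) (autFun γ) := hγm.restrict hQS
    refine ppi_cent_le_of_map hT hγim (inf_le_left.trans hγQ.img_le) (inf_le_left.trans hTS) ?_
    have e : img (img (img P f₀) (autFun γ) ⊓ T) (autFun γ⁻¹) = img P f₀ ⊓ T := by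
      rw [img_inf_sc hT hγQ]
      exact img_inv_eq hγm (by rw [img_autFun]; exact hγim) (fun x hx => autFun_inv_apply γ hx)
        (inf_le_left.trans hQS)
    rw [e]
    exact hcl
  case hsat =>
    rintro P ⟨hPS, hPc⟩
    obtain ⟨P', hPP', hfa, hrec⟩ := hF P hPS
    obtain ⟨f, hf, hfP'⟩ := (Helper88.isConj_iff F).1 hPP'
    obtain ⟨γ, hγ, f₀, hf₀, hfγ⟩ := ppiGen_frattini (E := E) (χ := χ) hS hF hinv hΔ hf
    have hf₀D : IsMap D P f₀ := (hD P _).2 hf₀
    have hf₀F : IsMap F P f₀ := hf₀.isMapF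
    have hγm : IsMap F S (autFun γ) := IsMap.of_mem_autGroup le_rfl hγ
    have hγim : IsMap F S (autFun γ⁻¹) := IsMap.of_mem_autGroup le_rfl (Subgroup.inv_mem _ hγ)
    have hQS : img P f₀ ≤ S := hf₀F.img_le
    have hQc : E.IsCentric (img P f₀ ⊓ T) := by
      rw [img_inf_sc hT hf₀F]
      exact isCentric_img_of_invariant hinv hPc (hf₀F.restrict inf_le_left)
    have hP'S : P' ≤ S := hfa.1
    have himg : img (img P f₀) (autFun γ) = P' := by
      rw [← img_comp_restrict hf₀F hγm (fun x hx => hf₀F.mem hx), ← hfP']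
      exact (img_congr hfγ).symm
    have himg' : img P' (autFun γ⁻¹) = img P f₀ := by
      rw [← himg]
      exact img_inv_eq hγm (by rw [img_autFun]; exact hγim) (fun x hx => autFun_inv_apply γ hx) hQS
    refine ⟨img P f₀, hf₀D.isConj, ⟨hQS, ?_⟩, ⟨hQS, ?_⟩⟩
    · -- fully automized
      have hfinQ : Finite ↥(img P f₀) := Helper88.finite_of_le hQS
      have hfinP' : Finite ↥P' := Helper88.finite_of_le hP'S
      obtain ⟨e, he, hev⟩ := exists_equiv_of_isMap (hγim.restrict hP'S) himg'
      have hsylP' : SylIn p (autInducedBy S P') (F.autGroup P') := hfa.2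
      have hsylF : SylIn p (autInducedBy S (img P f₀)) (F.autGroup (img P f₀)) := by
        refine hsylP'.transport (MulAut.congr e) (fun y hy => ?_) (fun t ht htB => ⟨?_, ?_⟩)
          ((isPGroup_autInducedBy hS (img P f₀)).to_le inf_le_left)
        · refine (Helper85.mem_autGroup_iff F hP'S).2 ?_
          exact he.trans (((Helper85.mem_autGroup_iff F hQS).1 hy).trans he.symm)
        · obtain ⟨g, hgS, hgt⟩ := (Helper88.mem_autInducedBy_iff S P' t).1 ht
          refine (Helper88.mem_autInducedBy_iff S _ _).2 ⟨autFun γ⁻¹ g, autFun_mem _ hgS, fun z => ?_⟩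
          obtain ⟨w, rfl⟩ := e.surjective z
          show ((e (t (e.symm (e w))) : ↥(img P f₀)) : Ω) = _
          rw [MulEquiv.symm_apply_apply, hev, hev, hgt, hγim.map_conj hgS (hP'S w.2)]
        · refine (Helper85.mem_autGroup_iff F hQS).2 ?_
          exact he.symm.trans (((Helper85.mem_autGroup_iff F hP'S).1 htB).trans he)
      have hEF : D.autGroup (img P f₀) ≤ F.autGroup (img P f₀) := by
        intro α hα
        exact (Helper88.mem_autGroup_iff F hQS α).2
          (((Helper88.mem_autGroup_iff D hQS α).1 hα).mono hle)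
      exact hsylF.of_le hEF (inf_le_left.trans (autInducedBy_le_autGroup D hQS))
    · -- receptive
      intro R φ hφ hrange
      have hφf : ∀ x : R, φ x = extHom φ x := fun x => (extHom_apply φ x).symm
      have hg : IsMap D R (extHom φ) := isMap_extHom hφ
      have hgF : IsMap F R (extHom φ) := hg.mono hle
      have hgQ : img R (extHom φ) = img P f₀ := (img_eq_range hφf).trans hrange
      have hRS : R ≤ S := hgF.le
      have hRc : E.IsCentric (R ⊓ T) := by
        obtain ⟨gi, hgi, -, -, hgi2⟩ := hgF.exists_inv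
        rw [hgQ] at hgi hgi2
        have := isCentric_img_of_invariant hinv hQc (hgi.restrict inf_le_left)
        rwa [← img_inf_sc hT hgi, hgi2] at this
      have hg' : IsMap F R (autFun γ ∘ extHom φ) := hgF.comp hγm (fun x hx => hgF.mem hx)
      have hg'img : img R (autFun γ ∘ extHom φ) = P' := by
        rw [img_comp_restrict hgF hγm (fun x hx => hgF.mem hx), hgQ, himg]
      obtain ⟨f', hf', hf'g⟩ := receptive_extend hrec hg' hg'img (N := extender S R φ)
        (fun n hn => by
          obtain ⟨hnS, hnN, h, hhS, hh⟩ := (mem_extender_iff hφf n).1 hn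
          refine ⟨hnS, hnN, autFun γ h, autFun_mem γ hhS, fun x hx => ?_⟩
          show autFun γ (extHom φ (n * x * n⁻¹)) =
            autFun γ h * autFun γ (extHom φ x) * (autFun γ h)⁻¹
          rw [hh x hx, hγm.map_conj hhS (hgF.mem hx)])
      have hREX : R ≤ extender S R φ :=
        Helper88.le_extender hRS φ (fun x => by rw [hφf x]; exact hgF.mem x.2)
      have hψ₀ : IsMap F (extender S R φ) (autFun γ⁻¹ ∘ f') :=
        (hf'.restrict le_sup_left).comp hγim (fun x hx => hf'.mem (Subgroup.mem_sup_left hx))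
      have hψ₀R : ∀ x ∈ R, (autFun γ⁻¹ ∘ f') x = extHom φ x := by
        intro x hx
        show autFun γ⁻¹ (f' x) = extHom φ x
        rw [hf'g x hx]
        exact autFun_inv_apply γ (hgF.mem hx)
      have hkcR : PpiKC F E χ R (autFun γ⁻¹ ∘ f') := (((hD R _).1 hg).kc hinv).congr hψ₀R
      have hkcN : PpiKC F E χ (extender S R φ) (autFun γ⁻¹ ∘ f') :=
        ppiKC_of_restrict hS hF hEs hinv hΔ hker hψ₀ hREX hRc hkcR
      have hNc : E.IsCentric (extender S R φ ⊓ T) :=
        isCentric_of_le hRc (inf_le_inf_right T hREX) inf_le_right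
      have hC : PpiGen F E χ (extender S R φ) (autFun γ⁻¹ ∘ f') := PpiGen.base hNc hkcN le_rfl
      obtain ⟨ψ, hψ, hψeq⟩ := (hD _ _).2 hC
      refine ⟨ψ, hψ, fun x hP hN => ?_⟩
      rw [hψeq ⟨x, hN⟩, hψ₀R x hP, extHom_apply' φ hP]

end Cfsg.Agent.Helper85
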