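import Cfsg.Agent.Helper85.PpiF

set_option autoImplicit false
set_option maxHeartbeats 1000000

namespace Cfsg.Agent.Helper85

open Cfsg Cfsg.FusionSystem Cfsg.Agent.Helper88

variable {Ω : Type*} [Group Ω] {S : Subgroup Ω}

/-- the subsystem generated by the kernel maps is invariant -/
theorem ppiSys_invariant [Finite S] {p : ℕ} [Fact p.Prime] (hS : IsPGroup p S) {F : FusionSystem S}
    (hF : F.IsSaturated p) {T : Subgroup Ω} {E : FusionSystem T}
    (hinv : E.IsInvariantIn F) {Δ : Type*} [Group Δ] [Finite Δ] {χ : F.autGroup T →* Δ}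
    (hΔ : (Nat.card Δ).Coprime p)
    {D : FusionSystem S} (hD : ∀ (Q : Subgroup Ω) (f : Ω → Ω), IsMap D Q f ↔ PpiGen F E χ Q f) :
    D.IsInvariantIn F := by
  have hDF : D.IsSubsystemOf F := fun P φ h => ppiSys_le hD P h
  have hSsc : F.StronglyClosed S := ⟨le_rfl, fun R _ φ hφ x => (F.le_of_mem hφ).2 x⟩
  refine (Cfsg.Agent.S5119.result p hS F hF D hDF hSsc).2 ?_
  intro P Q hPQ hQS φ hφ hφQ ψ hψ
  have hf : IsMap D P (extHom φ) := isMap_extHom hφ
  have hψQ : IsMap F Q (extHom ψ) := isMap_extHom hψ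
  have hψP : IsMap F P (extHom ψ) := hψQ.restrict hPQ
  have hfQ : ∀ x ∈ P, extHom φ x ∈ Q := fun x hx => by
    rw [extHom_apply' φ hx]; exact hφQ ⟨x, hx⟩
  obtain ⟨γ, hγ, g₀, hg₀, hψγ⟩ := ppiGen_frattini (E := E) (χ := χ) hS hF hinv hΔ hψQ
  have hg₀D : IsMap D Q g₀ := (hD Q g₀).2 hg₀
  have hg₀P : IsMap D P g₀ := hg₀D.restrict hPQ
  obtain ⟨g₀i, hg₀i, hg₀i1, hg₀i2, -⟩ := hg₀P.exists_inv
  have hh : IsMap D (img P g₀) (g₀ ∘ (extHom φ ∘ g₀i)) :=
    (hg₀i.comp hf (fun y hy => (hg₀i2 y hy).1)).comp hg₀D (fun y hy => hfQ _ (hg₀i2 y hy).1)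
  have hconj := (hD _ _).2 (((hD _ _).1 hh).conj hinv hγ)
  have himg1 : img P (extHom ψ) = img (img P g₀) (autFun γ) := by
    rw [img_congr (fun x hx => hψγ x (hPQ hx))]
    exact img_comp (isMap_of_isSubsystemOf hDF hg₀P)
      ((IsMap.of_mem_autGroup le_rfl hγ).restrict hg₀P.img_le)
  have himg : (P.subgroupOf Q).map ψ = img P (extHom ψ) := by
    ext y
    rw [hψP.mem_img]
    constructor
    · rintro ⟨x, hx, rfl⟩
      exact ⟨x, Subgroup.mem_subgroupOf.1 hx, extHom_apply ψ x⟩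
    · rintro ⟨x, hx, rfl⟩
      exact ⟨⟨x, hPQ hx⟩, Subgroup.mem_subgroupOf.2 hx, (extHom_apply' ψ (hPQ hx)).symm⟩
  rw [← himg1, ← himg] at hconj
  obtain ⟨χ', hχ', hχv⟩ := hconj
  refine ⟨χ', hχ', fun x hx => ?_⟩
  rw [hχv ⟨_, hx⟩]
  have hxQ : (x : Ω) ∈ Q := hPQ x.2
  have e1 : ψ (Subgroup.inclusion hPQ x) = autFun γ (g₀ x) := by
    rw [← hψγ x hxQ]; exact (extHom_apply' ψ hxQ).symm
  have hg₀S : g₀ (x : Ω) ∈ S := hg₀D.mem hxQ
  show autFun γ (g₀ (extHom φ (g₀i (autFun γ⁻¹ (ψ (Subgroup.inclusion hPQ x)))))) =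
    ψ ⟨φ x, hφQ x⟩
  rw [e1, autFun_inv_apply _ hg₀S, hg₀i1 _ x.2, extHom_apply φ x, ← hψγ _ (hφQ x),
    extHom_apply' ψ (hφQ x)]

/-- the extension condition for a subsystem over the full group `S` -/
theorem ppiSys_extension [Finite S] {F D : FusionSystem S} (hle : D ≤ F) :
    ∀ α ∈ D.autGroup S, ∃ β ∈ F.autGroup (S ⊔ centralizerIn S S),
      (∀ x : S, ((β (Subgroup.inclusion le_sup_left x) : ↥(S ⊔ centralizerIn S S)) : Ω) =
        ((α x : S) : Ω)) ∧
      ∀ c : ↥(S ⊔ centralizerIn S S), (c : Ω) ∈ centralizerIn S S →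
        (c : Ω)⁻¹ * ((β c : ↥(S ⊔ centralizerIn S S)) : Ω) ∈
          S ⊓ Subgroup.centralizer (S : Set Ω) := by
  intro α hα
  have hαF : α ∈ F.autGroup S := autGroup_mono hle le_rfl hα
  have hαm : IsMap F S (autFun α) := IsMap.of_mem_autGroup le_rfl hαF
  have hle2 : S ⊔ centralizerIn S S ≤ S := sup_le le_rfl inf_le_left
  have hαm' : IsMap F (S ⊔ centralizerIn S S) (autFun α) := hαm.restrict hle2
  have hmaps : ∀ y ∈ S ⊔ centralizerIn S S, autFun α y ∈ S ⊔ centralizerIn S S := fun y hy =>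
    Subgroup.mem_sup_left (autFun_mem α (hle2 hy))
  obtain ⟨β, hβ, hβv⟩ := hαm'.exists_aut (hαm'.img_eq_of_mapsTo hmaps)
  refine ⟨β, hβ, fun x => ?_, fun c hc => ?_⟩
  · have h4 := hβv x (Subgroup.mem_sup_left x.2)
    rw [autFun_apply α x] at h4
    rw [← h4]
    exact (autFun_apply β (Subgroup.inclusion le_sup_left x)).symm
  · have h4 := hβv c c.2
    rw [autFun_apply β c] at h4
    rw [h4]
    have hcS : (c : Ω) ∈ S := hle2 c.2
    have hαc : autFun α c ∈ centralizerIn S S := by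
      refine mem_centralizerIn_iff.2 ⟨autFun_mem α hcS, fun y hy => ?_⟩
      obtain ⟨z, hz, rfl⟩ : ∃ z ∈ S, autFun α z = y :=
        ⟨autFun α⁻¹ y, autFun_mem α⁻¹ hy, autFun_apply_inv α hy⟩
      rw [← hαm.map_mul hz hcS, ← hαm.map_mul hcS hz, (mem_centralizerIn_iff.1 hc).2 z hz]
    have h5 : (c : Ω)⁻¹ * autFun α c ∈ centralizerIn S S :=
      Subgroup.mul_mem _ (Subgroup.inv_mem _ hc) hαc
    exact ⟨Subgroup.mul_mem _ (Subgroup.inv_mem _ hcS) (autFun_mem α hcS),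
      inf_le_right (a := S) h5⟩

/-- the subsystem generated by the kernel maps contains `E` -/
theorem ppiSys_contains [Finite S] {p : ℕ} [Fact p.Prime] (hS : IsPGroup p S) {F : FusionSystem S}
    {T : Subgroup Ω} {E : FusionSystem T} (hEs : E.IsSaturated p)
    (hinv : E.IsInvariantIn F) {Δ : Type*} [Group Δ] {χ : F.autGroup T →* Δ}
    {D : FusionSystem S} (hD : ∀ (Q : Subgroup Ω) (f : Ω → Ω), IsMap D Q f ↔ PpiGen F E χ Q f) :
    E.IsSubsystemOf D := by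
  have hTS : T ≤ S := hinv.2.1.1
  have : Finite T := Helper88.finite_of_le hTS
  have hTp : IsPGroup p T := hS.to_le hTS
  intro P φ hφ
  have hgen : PpiGen F E χ P (extHom φ) :=
    alperin_induction hTp hEs (fun P f => PpiGen F E χ P f)
      (fun R _ _ hRc _ a ha P hP => by
        have hc : E.IsCentric (R ⊓ T) := by rw [inf_eq_left.2 hRc.1]; exact hRc
        have ham : IsMap E R (autFun a) := IsMap.of_mem_autGroup hRc.1 ha
        refine PpiGen.base hc ⟨isMap_of_isSubsystemOf hinv.1 ham, 1, ppiK_one, autFun a,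
          ham.restrict inf_le_left, fun x hx => ?_⟩ hP
        exact (autFun_one (ham.mem hx.1)).symm)
      (fun _ _ _ _ _ _ hCf hCg hPQ => hCf.comp hCg hPQ)
      (fun _ _ _ _ hCf hfg => hCf.congr hfg)
      (isMap_extHom hφ)
  exact ((hD P _).2 hgen).hom_mem (fun x => (extHom_apply φ x).symm)

/-- the automorphisms of `S` in the subsystem generated by the kernel maps -/
theorem ppiSys_aut_iff [Finite S] {F : FusionSystem S}
    {T : Subgroup Ω} {E : FusionSystem T}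
    (hinv : E.IsInvariantIn F) {Δ : Type*} [Group Δ] {χ : F.autGroup T →* Δ}
    (hker : (E.autGroup T).subgroupOf (F.autGroup T) ≤ χ.ker)
    {D : FusionSystem S} (hD : ∀ (Q : Subgroup Ω) (f : Ω → Ω), IsMap D Q f ↔ PpiGen F E χ Q f)
    (hTS : T ≤ S) (α : MulAut S) :
    α ∈ D.autGroup S ↔ α ∈ F.autGroup S ∧ ∃ β : F.autGroup T, χ β = 1 ∧
      ∀ t : T, (((β : MulAut T) t : T) : Ω) = ((α ⟨(t : Ω), hTS t.2⟩ : S) : Ω) := by
  have hT := hinv.2.1
  have : Finite T := Helper88.finite_of_le hTS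
  constructor
  · intro hα
    have hgen : PpiGen F E χ S (autFun α) :=
      (hD S _).1 ((Helper88.mem_autGroup_iff D le_rfl α).1 hα)
    have hαF : α ∈ F.autGroup S := (Helper88.mem_autGroup_iff F le_rfl α).2 hgen.isMapF
    obtain ⟨β, hβ, hβv⟩ := exists_res_aut hT hαF
    obtain ⟨hβ', hχ⟩ := (ppiKC_aut_iff hinv hker hαF hβv).1 (hgen.kc hinv)
    refine ⟨hαF, ⟨β, hβ'⟩, hχ, fun t => ?_⟩
    have := hβv t t.2
    rw [autFun_apply β t, autFun_apply' α (hTS t.2)] at this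
    exact this
  · rintro ⟨hαF, β, hχ, hv⟩
    have hβv : ∀ x ∈ T, autFun (β : MulAut T) x = autFun α x := fun x hx => by
      rw [autFun_apply' (β : MulAut T) hx, autFun_apply' α (hTS hx)]
      exact hv ⟨x, hx⟩
    have hk : ppiK F χ (β : MulAut T) := ⟨β.2, hχ⟩
    have hkc := (ppiKC_aut_iff hinv hker hαF hβv).2 hk
    have hc : E.IsCentric (S ⊓ T) := by rw [inf_eq_right.2 hTS]; exact isCentric_self E
    exact (Helper88.mem_autGroup_iff D le_rfl α).2 ((hD S _).2 (PpiGen.base hc hkc le_rfl))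

/-- the subsystem generated by the kernel maps is proper when the character is onto a nontrivial
group -/
theorem ppiSys_proper [Finite S] {p : ℕ} [Fact p.Prime] (hS : IsPGroup p S) {F : FusionSystem S}
    (hF : F.IsSaturated p) {T : Subgroup Ω} {E : FusionSystem T}
    (hinv : E.IsInvariantIn F) {Δ : Type*} [Group Δ] [Finite Δ] [Nontrivial Δ]
    {χ : F.autGroup T →* Δ} (hΔ : (Nat.card Δ).Coprime p) (hχ : Function.Surjective χ)
    (hker : (E.autGroup T).subgroupOf (F.autGroup T) ≤ χ.ker)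
    {D : FusionSystem S} (hD : ∀ (Q : Subgroup Ω) (f : Ω → Ω), IsMap D Q f ↔ PpiGen F E χ Q f) :
    ¬ (∀ P : Subgroup Ω, D.Hom P = F.Hom P) := by
  have hT := hinv.2.1
  intro hall
  obtain ⟨δ, hδ⟩ := exists_ne (1 : Δ)
  obtain ⟨a, rfl⟩ := hχ δ
  apply hδ
  obtain ⟨γ, hγ, β, hβ, hβγ, hk⟩ := exists_aut_S_ppiK (χ := χ) hS hF hT hΔ a.2
  have hγD : IsMap D S (autFun γ) := by
    obtain ⟨φ, hφ, hφv⟩ := IsMap.of_mem_autGroup le_rfl hγ
    exact ⟨φ, by rw [hall S]; exact hφ, hφv⟩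
  have hkβ : ppiK F χ β := (ppiKC_aut_iff hinv hker hγ hβγ).1 (((hD S _).1 hγD).kc hinv)
  have hka : ppiK F χ (a : MulAut T) := by
    have := hkβ.mul hk
    rwa [mul_inv_cancel_left] at this
  obtain ⟨h1, h2⟩ := hka
  exact h2

end Cfsg.Agent.Helper85
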