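import Cfsg.Agent.S5106
import Cfsg.Agent.S5119
import Cfsg.Agent.S5141
import Cfsg.Agent.Helper85.DirProdB
import Cfsg.Agent.Helper85.SolvConsA
import Cfsg.Agent.Helper85.Constrained
import Cfsg.Agent.Helper84.ZJFusionB
import Cfsg.Agent.Helper84.FusionAut
import Cfsg.Agent.Helper32.PSolvable
import Cfsg.Agent.Helper88.FusionWeakNormal

/-!
# Residual series: the core of an invariant subsystem, and the step through the `p'`-residual (helper85)
-/

set_option autoImplicit false

namespace Cfsg.Agent.Helper85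

open Cfsg Cfsg.FusionSystem

variable {Ω : Type*} [Group Ω] {S : Subgroup Ω}

/-- The largest normal subgroup of a saturated invariant subsystem is normal in the big system. -/
theorem s5156_core_normal [Finite S] (p : ℕ) [Fact p.Prime] (hS : IsPGroup p S) (F : FusionSystem S)
    (hF : F.IsSaturated p) {T : Subgroup Ω} (E : FusionSystem T) (hE : E.IsSaturated p)
    (hinv : E.IsInvariantIn F) : F.IsNormal E.core := by
  have hTS : T ≤ S := hinv.2.1.1
  haveI hfT : Finite T := Helper88.finite_of_le hTS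
  have hpT : IsPGroup p T := hS.to_le hTS
  have hQ : E.IsNormal E.core := Helper88.isNormal_core E
  obtain ⟨Q, hQdef⟩ : ∃ Q, Q = E.core := ⟨_, rfl⟩
  rw [← hQdef] at hQ ⊢
  have hQT : Q ≤ T := hQ.1
  have hQS : Q ≤ S := hQT.trans hTS
  rw [Cfsg.Agent.S5106.result p hS F hF Q hQS]
  intro P hPQ φ hφ
  obtain ⟨α, hα, f₀, hf₀, hfα⟩ :=
    Helper88.frattini_ambient hinv (hPQ.trans hQT) (Helper88.isMap_extHom hφ)
  obtain ⟨φ₀, hφ₀, hφ₀f⟩ := hf₀
  obtain ⟨β, hβ, hβφ⟩ := (Cfsg.Agent.S5106.result p hpT E hE Q hQT).1 hQ P hPQ φ₀ hφ₀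
  have hαm : Helper88.IsMap F T (Helper88.autFun α) := Helper88.IsMap.of_mem_autGroup hTS hα
  have hαQ : Helper88.IsMap F Q (Helper88.autFun α) := hαm.restrict hQT
  have himgN : E.IsNormal (Helper88.img Q (Helper88.autFun α)) :=
    Helper88.isNormal_img_of_invariant hinv hQ hα
  have himgle : Helper88.img Q (Helper88.autFun α) ≤ Q :=
    (le_sSup himgN : Helper88.img Q (Helper88.autFun α) ≤ E.core).trans (le_of_eq hQdef.symm)
  have hmaps : ∀ x ∈ Q, Helper88.autFun α x ∈ Q := fun x hx => himgle (hαQ.apply_mem_img hx)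
  have himg : Helper88.img Q (Helper88.autFun α) = Q := hαQ.img_eq_of_mapsTo hmaps
  obtain ⟨α', hα', hα'f⟩ := hαQ.exists_aut himg
  have hβF : β ∈ F.autGroup Q := by
    rw [Helper84.mem_autGroup_iff F hQS]
    exact hinv.1 Q ((Helper84.mem_autGroup_iff E hQT β).1 hβ)
  refine ⟨α' * β, Subgroup.mul_mem _ hα' hβF, fun x => ?_⟩
  rw [MulAut.mul_apply]
  have h1 : ((α' (β (Subgroup.inclusion hPQ x)) : Q) : Ω) =
      Helper88.autFun α' ((β (Subgroup.inclusion hPQ x) : Q) : Ω) :=
    (Helper88.autFun_apply α' _).symm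
  rw [h1, hα'f _ (β _).2, hβφ x, hφ₀f x, ← hfα x x.2, Helper88.extHom_apply]

/-- A saturated fusion system is invariant in itself. -/
theorem s5156_invariant_self [Finite S] (p : ℕ) [Fact p.Prime] (hS : IsPGroup p S) (F : FusionSystem S)
    (hF : F.IsSaturated p) : F.IsInvariantIn F :=
  dpFull_invariant hS hF ⟨le_rfl, fun _ _ _ hφ x => (F.le_of_mem hφ).2 x⟩ (fun _ _ _ => Iff.rfl)

/-- The `p'`-residual subsystem is its own `p'`-residual subsystem. -/
theorem s5156_pprime_self (p : ℕ) (F E : FusionSystem S) (hE : F.IsPPrimeResidual p E) :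
    E.IsPPrimeResidual p E := by
  obtain ⟨hEs, ⟨hEF, hEidx⟩, hmin⟩ := hE
  refine ⟨hEs, ⟨fun P => subset_rfl, fun P hP => ?_⟩, fun D hDs hD => ?_⟩
  · rintro _ ⟨a, -, rfl⟩
    exact a.2
  · apply hmin D hDs
    refine ⟨fun P => (hD.1 P).trans (hEF P), fun P hP => ?_⟩
    rw [Subgroup.map_le_iff_le_comap, Subgroup.closure_le]
    rintro α ⟨k, hk⟩
    show (α : MulAut P) ∈ D.autGroup P
    have hαE : (α : MulAut P) ∈ E.autGroup P :=
      hEidx P hP ⟨α, Subgroup.subset_closure ⟨k, hk⟩, rfl⟩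
    apply hD.2 P hP
    refine ⟨⟨α, hαE⟩, Subgroup.subset_closure ⟨k, ?_⟩, rfl⟩
    rw [← hk]
    exact (Subgroup.orderOf_coe (⟨(α : MulAut P), hαE⟩ : E.autGroup P)).symm.trans
      (Subgroup.orderOf_coe α)

/-- Automizers of a subsystem are `p`-solvable when those of the system are. -/
theorem s5156_aut_sub {p : ℕ} [Fact p.Prime] {T : Subgroup Ω} (D : FusionSystem T) (E : FusionSystem S)
    (hsub : D.IsSubsystemOf E) {P : Subgroup Ω} (hPT : P ≤ T) (hPS : P ≤ S)
    (h : IsPSolvable p ↥(E.autGroup P)) : IsPSolvable p ↥(D.autGroup P) := by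
  have hle : D.autGroup P ≤ E.autGroup P := by
    intro α hα
    rw [Helper84.mem_autGroup_iff E hPS]
    exact hsub P ((Helper84.mem_autGroup_iff D hPT α).1 hα)
  have h1 := Helper32.isPSolvable_subgroup (Fact.out : p.Prime) h
    ((D.autGroup P).subgroupOf (E.autGroup P))
  exact Helper32.isPSolvable_of_equiv (Subgroup.subgroupOfEquivOfLe hle) h1

/-- If the `p'`-residual subsystem is constrained, so is the system. -/
theorem s5156_cons_pprime [Finite S] (p : ℕ) [Fact p.Prime] (hS : IsPGroup p S) (F : FusionSystem S)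
    (hF : F.IsSaturated p) (E : FusionSystem S) (hE : F.IsPPrimeResidual p E) (hEc : E.IsConstrained p) :
    F.IsConstrained p := by
  have hFinv := s5156_invariant_self p hS F hF
  have hEn : E.IsNormalIn F p := Cfsg.Agent.S5141.result p hS F hF F ⟨hF, hF, hFinv⟩ E hE
  have hQF : F.IsNormal E.core := s5156_core_normal p hS F hF E hE.1 hEn.1.2.2
  obtain ⟨hn, hc⟩ := core_isCentric hEc
  have hcc : centralizerIn S E.core ≤ E.core := Helper88.centralizerIn_le_of_isCentric hc
  exact ⟨hF, E.core, hQF, Helper84.centric_of_normal_of_cent F hQF hcc⟩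

end Cfsg.Agent.Helper85
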