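import Cfsg.Agent.Helper85.RsCore
import Cfsg.Agent.Helper88.RealNormal
import Cfsg.Agent.Helper86.Residual
import Cfsg.Agent.Helper84.Model
import Cfsg.Agent.Helper84.FusionFocal
import Cfsg.Agent.Helper99.PSolvReal
import Cfsg.Agent.Helper10.S5156F3
import Cfsg.Agent.Helper80.S5156F1
import Cfsg.Agent.Helper42.U5156P0
import Cfsg.Agent.Helper91.S5156E2b
import Cfsg.Agent.Helper91.S5156F2
import Cfsg.Agent.Helper85.RsReal

/-!
# Residual series: existence of the `p`-residual subsystem of a realized system, and the hyperfocal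
subgroup of a constrained system with `p`-solvable automizers that is its own `p'`-residual (helper85)
-/

set_option autoImplicit false
universe u

namespace Cfsg.Agent.Helper85

open Cfsg Cfsg.FusionSystem

variable {Ω : Type*} [Group Ω] {S : Subgroup Ω}

/-- A fusion system realized by a finite group on a Sylow subgroup has a `p`-residual subsystem. -/
theorem s5156_exists_pres [Finite S] (p : ℕ) [Fact p.Prime] (E : FusionSystem S) {H : Type*} [Group H]
    [Finite H] (ι : S →* H) (hreal : E.IsRealizedBy ι) (T : Sylow p H) (hT : (T : Subgroup H) = ι.range) :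
    ∃ D : FusionSystem (E.hyperfocalSubgroup p), E.IsPResidual p D := by
  haveI hN : (pResidual p H).Normal := Helper84.pResidual_normal p
  have hco := fun (P : Subgroup Ω) (hP : P ≤ S) (a : MulAut P) (ha : a ∈ E.autGroup P)
    (h : (orderOf a).Coprime p) => Helper42.s5156_real_coprime E ι hreal hP a ha h
  have heq : Helper88.pre ι (pResidual p H) = E.hyperfocalSubgroup p := by
    ext x
    rw [Helper88.mem_pre]
    constructor
    · rintro ⟨hx, hx'⟩
      rw [Helper88.iext_apply ι hx] at hx'
      exact Helper91.s5156_le_hyp E ι hreal T hT ⟨x, hx⟩ hx'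
    · intro hx
      have hxS := Helper86.hyperfocalSubgroup_le E p hx
      refine ⟨hxS, ?_⟩
      rw [Helper88.iext_apply ι hxS]
      exact s5156_hyp_le E ι hreal hco ⟨x, hxS⟩ hx
  have key : ∀ (T' : Subgroup Ω), Helper88.pre ι (pResidual p H) = T' → T' = E.hyperfocalSubgroup p →
      ∃ D : FusionSystem T', D.IsSaturated p ∧ D.HasPPowerIndexIn E p := by
    intro T' hT' hT''
    subst hT'
    exact ⟨Helper88.nsub hreal.1 (pResidual p H), Helper88.nsub_saturated p hreal.1 T hT _,
      s5156_nsub_index E ι hreal hco (le_of_eq hT''.symm)⟩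
  obtain ⟨D, h1, h2⟩ := key _ heq rfl
  exact ⟨D, h1, h2⟩

/-- A constrained system over a nontrivial `p`-group with `p`-solvable automizer of its core that is its own
`p'`-residual has a proper hyperfocal subgroup. -/
theorem s5156_hyp_ne {Ω : Type u} [Group Ω] {S : Subgroup Ω} [Finite S] (p : ℕ) [Fact p.Prime]
    (hS : IsPGroup p S) (E : FusionSystem S)
    (hEc : E.IsConstrained p) (hmin : E.IsPPrimeResidual p E) (hA : IsPSolvable p ↥(E.autGroup E.core))
    (hne : S ≠ ⊥) : E.hyperfocalSubgroup p ≠ S := by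
  obtain ⟨H, _, ι, hM⟩ := Helper84.constrained_exists_model p hS E hEc
  haveI : Finite H := hM.1
  have hH : IsPSolvable p H := Helper99.psr_model_isPSolvable hS E hEc hA ι hM
  have hreal := hM.2.1
  obtain ⟨T, hT⟩ := hM.2.2.1
  haveI : Nontrivial H := by
    obtain ⟨x, hx, hx1⟩ : ∃ x ∈ S, x ≠ 1 := by
      by_contra hcon
      push Not at hcon
      exact hne ((Subgroup.eq_bot_iff_forall _).2 hcon)
    refine ⟨⟨ι ⟨x, hx⟩, 1, fun h => hx1 ?_⟩⟩
    have := hreal.1 (h.trans (map_one ι).symm)
    exact congrArg Subtype.val this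
  have hpp := fun (P : Subgroup Ω) (hP : P ≤ S) (a : MulAut P) (ha : a ∈ E.autGroup P)
    (h : ∃ k : ℕ, orderOf a = p ^ k) => Helper42.s5156_real_ppow E ι hreal hP a ha h
  have hco := fun (P : Subgroup Ω) (hP : P ≤ S) (a : MulAut P) (ha : a ∈ E.autGroup P)
    (h : (orderOf a).Coprime p) => Helper42.s5156_real_coprime E ι hreal hP a ha h
  have h2 := Helper91.s5156_model_pprime hS E hmin ι hM hpp
  rcases Helper80.s5156_psolv_residual hH with h1 | h1
  · intro heq
    apply h1
    apply Helper10.s5156_pResidual_top T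
    rw [hT]
    rintro _ ⟨s, rfl⟩
    exact s5156_hyp_le E ι hreal hco s (by rw [heq]; exact s.2)
  · exact absurd h2 h1

end Cfsg.Agent.Helper85
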