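import Cfsg.Agent.Helper85.RsCore
import Cfsg.Agent.S5120
import Cfsg.Agent.S5124
import Cfsg.Agent.Helper86.Residual
import Cfsg.Agent.Helper88.FusionNormalCrit
import Cfsg.Agent.Helper10.S5156K

/-!
# Residual series: the step through the `p`-residual (helper85)
-/

set_option autoImplicit false

namespace Cfsg.Agent.Helper85

open Cfsg Cfsg.FusionSystem

variable {Ω : Type*} [Group Ω] {S : Subgroup Ω}

/-- automorphisms of `P` fixing the elements of `R` -/
def s5156FixAut (P R : Subgroup Ω) : Subgroup (MulAut P) where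
  carrier := {γ | ∀ y : P, (y : Ω) ∈ R → γ y = y}
  one_mem' := fun _ _ => rfl
  mul_mem' := by
    intro a b ha hb y hy
    rw [MulAut.mul_apply, hb y hy, ha y hy]
  inv_mem' := by
    intro a ha y hy
    rw [MulAut.inv_apply, MulEquiv.symm_apply_eq]
    exact (ha y hy).symm

theorem s5156_mem_fixAut {P R : Subgroup Ω} {γ : MulAut P} :
    γ ∈ s5156FixAut P R ↔ ∀ y : P, (y : Ω) ∈ R → γ y = y := Iff.rfl

/-- A `p'`-automorphism in `Aut_E(P)` fixing a subgroup `R ≤ P` that is normalized by `S` and contains its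
centralizer in the hyperfocal subgroup is trivial. -/
theorem s5156_coprime_fix_trivial [Finite S] {p : ℕ} [Fact p.Prime] (hS : IsPGroup p S) (E : FusionSystem S)
    {R : Subgroup Ω} (hRn : ∀ s ∈ S, ∀ r ∈ R, s * r * s⁻¹ ∈ R)
    (hcent : centralizerIn (E.hyperfocalSubgroup p) R ≤ R)
    (hTsc : E.StronglyClosed (E.hyperfocalSubgroup p))
    {P : Subgroup Ω} (hPS : P ≤ S) (hRP : R ≤ P) (γ : MulAut P) (hγ : γ ∈ E.autGroup P)
    (hco : (orderOf γ).Coprime p) (hfix : ∀ y : P, (y : Ω) ∈ R → γ y = y) : γ = 1 := by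
  haveI : Finite P := Helper88.finite_of_le hPS
  have hpP : IsPGroup p P := hS.to_le hPS
  have hγm : Helper88.IsMap E P (Helper88.autFun γ) := Helper88.IsMap.of_mem_autGroup hPS hγ
  have step1 : ∀ x : P, (x : Ω) ∈ E.hyperfocalSubgroup p → γ x = x := by
    intro x hxT
    apply Helper10.s5156_fix_of_coprime hpP γ hco x
    apply hfix
    apply hcent
    rw [Helper88.mem_centralizerIn_iff]
    have hγxT : ((γ x : P) : Ω) ∈ E.hyperfocalSubgroup p := by
      have := sc_apply_mem hTsc hγm x.2 hxT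
      rwa [Helper88.autFun_apply] at this
    refine ⟨Subgroup.mul_mem _ (Subgroup.inv_mem _ hxT) hγxT, fun r hr => ?_⟩
    have hxr : (x : Ω) * r * (x : Ω)⁻¹ ∈ R := hRn x (hPS x.2) r hr
    have h1 := hfix (x * ⟨r, hRP hr⟩ * x⁻¹) hxr
    rw [map_mul, map_mul, map_inv, hfix ⟨r, hRP hr⟩ hr] at h1
    have h2 : ((γ x : P) : Ω) * r * ((γ x : P) : Ω)⁻¹ = (x : Ω) * r * (x : Ω)⁻¹ :=
      congrArg Subtype.val h1
    show r * (((x⁻¹ * γ x : P) : P) : Ω) = (((x⁻¹ * γ x : P) : P) : Ω) * r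
    have e1 : (((x⁻¹ * γ x : P) : P) : Ω) = (x : Ω)⁻¹ * ((γ x : P) : Ω) := rfl
    rw [e1]
    calc r * ((x : Ω)⁻¹ * ((γ x : P) : Ω))
        = (x : Ω)⁻¹ * ((x : Ω) * r * (x : Ω)⁻¹) * ((γ x : P) : Ω) := by group
      _ = (x : Ω)⁻¹ * (((γ x : P) : Ω) * r * ((γ x : P) : Ω)⁻¹) * ((γ x : P) : Ω) := by rw [h2]
      _ = (x : Ω)⁻¹ * ((γ x : P) : Ω) * r := by group
  ext x
  have hres : (⟨γ, hγ⟩ : E.autGroup P) ∈ pResidual p (E.autGroup P) := by
    apply Subgroup.subset_closure
    show (orderOf (⟨γ, hγ⟩ : E.autGroup P)).Coprime p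
    rw [← Subgroup.orderOf_coe]
    exact hco
  have hgen : (x : Ω)⁻¹ * ((γ x : P) : Ω) ∈ E.hyperfocalSubgroup p :=
    Subgroup.subset_closure ⟨P, ⟨γ, hγ⟩, x, hPS, hres, rfl⟩
  have h3 := Helper10.s5156_fix_of_coprime hpP γ hco x (step1 (x⁻¹ * γ x) hgen)
  rw [h3]
  rfl

/-- If the `p`-residual subsystem is constrained, so is the system. -/
theorem s5156_cons_ppower [Finite S] (p : ℕ) [Fact p.Prime] (hS : IsPGroup p S) (E : FusionSystem S)
    (hE : E.IsSaturated p) (D : FusionSystem (E.hyperfocalSubgroup p)) (hD : E.IsPResidual p D)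
    (hDc : D.IsConstrained p) : E.IsConstrained p := by
  have hTsc := Cfsg.Agent.S5124.result p hS E hE
  have hTS : E.hyperfocalSubgroup p ≤ S := hTsc.1
  haveI : Finite ↥(E.hyperfocalSubgroup p) := Helper88.finite_of_le hTS
  have hTn : ((E.hyperfocalSubgroup p).subgroupOf S).Normal := by
    refine ⟨fun x hx g => ?_⟩
    rw [Subgroup.mem_subgroupOf] at hx ⊢
    exact Helper87.stronglyClosed_conj_mem E hTsc g.2 hx
  have hDn : D.IsNormalIn E p :=
    Cfsg.Agent.S5120.result p hS E hE _ hTS hTn le_rfl D hD.1 hD.2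
  have hinv : D.IsInvariantIn E := hDn.1.2.2
  obtain ⟨hRD, hRc⟩ := core_isCentric hDc
  have hRE : E.IsNormal D.core := s5156_core_normal p hS E hE D hD.1 hinv
  obtain ⟨R, hRdef⟩ : ∃ R, R = D.core := ⟨_, rfl⟩
  rw [← hRdef] at hRD hRc hRE
  have hRS : R ≤ S := hRE.1
  have hRsc : E.StronglyClosed R := Helper88.stronglyClosed_of_isNormal hRE
  have hRn : ∀ s ∈ S, ∀ r ∈ R, s * r * s⁻¹ ∈ R := fun s hs r hr =>
    Helper87.stronglyClosed_conj_mem E hRsc hs hr
  have hcent : centralizerIn (E.hyperfocalSubgroup p) R ≤ R := Helper88.centralizerIn_le_of_isCentric hRc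
  have hCsc : E.StronglyClosed (centralizerIn S R) := sc_centralizerIn_of_isNormal hRE
  have hCn : E.IsNormal (centralizerIn S R) := by
    refine Helper88.isNormal_of_le_radicals hS hE hCsc (fun P hPa hPr hPc hPrad => ?_)
    have hPS : P ≤ S := hPc.1
    haveI hfinP : Finite P := Helper88.finite_of_le hPS
    have hRP : R ≤ P := Helper84.normal_le_of_centric_radical hS E hRE hPc hPrad
    by_contra hCP
    have hPC : P ⊔ centralizerIn S R ≤ S := sup_le hPS hCsc.1
    haveI hfinPC : Finite ↥(P ⊔ centralizerIn S R) := Helper88.finite_of_le hPC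
    have hne : P ≠ P ⊔ centralizerIn S R := fun h => hCP (le_sup_right.trans (le_of_eq h.symm))
    obtain ⟨g, hg, hgN, hgP⟩ :=
      Helper88.exists_normalizer_of_lt (R := P ⊔ centralizerIn S R) (hS.to_le hPC) le_sup_left hne
    obtain ⟨r, hr, d, hd, rfl⟩ := exists_mul_of_mem_sup (fun r hr t ht =>
      Helper87.stronglyClosed_conj_mem E hCsc (hPS hr) ht) hg
    have hdN : d ∈ Subgroup.normalizer (P : Set Ω) := by
      have e : d = r⁻¹ * (r * d) := by group
      rw [e]
      exact Subgroup.mul_mem _ (Subgroup.inv_mem _ (Subgroup.le_normalizer hr)) hgN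
    have hdP : d ∉ P := fun h => hgP (P.mul_mem hr h)
    have hdS : d ∈ S := hCsc.1 hd
    obtain ⟨β, hβ, -, hβv⟩ := Helper88.exists_aut_conj E hPS (Helper88.mem_normalizerIn_iff.2 ⟨hdS, hdN⟩)
    have hβfix : β ∈ s5156FixAut P R := by
      intro y hy
      apply Subtype.ext
      rw [← Helper88.autFun_apply β y, hβv y y.2]
      have := (Helper88.mem_centralizerIn_iff.1 hd).2 y hy
      rw [← this, mul_inv_cancel_right]
    have hinvR : ∀ α ∈ E.autGroup P, ∀ y : P, (y : Ω) ∈ R → ((α y : P) : Ω) ∈ R := by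
      intro α hα y hy
      rw [← Helper88.autFun_apply α y]
      exact sc_apply_mem hRsc (Helper88.IsMap.of_mem_autGroup hPS hα) y.2 hy
    have hd_in : d ∈ P := by
      refine Helper88.mem_of_radical_centric hPc hPrad (E.autGroup P ⊓ s5156FixAut P R) inf_le_left
        ?_ ?_ hdS ⟨hβ, hβfix⟩ hβv
      · intro α hα γ hγ
        have hα' : α⁻¹ ∈ E.autGroup P := Subgroup.inv_mem _ hα
        refine ⟨Subgroup.mul_mem _ (Subgroup.mul_mem _ hα hγ.1) hα', fun y hy => ?_⟩
        rw [MulAut.mul_apply, MulAut.mul_apply, hγ.2 (α⁻¹ y) (hinvR α⁻¹ hα' y hy),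
          MulAut.apply_inv_self]
      · refine Helper10.s5156_ppow_of_coprime_trivial (p := p) (E.autGroup P ⊓ s5156FixAut P R) (fun γ hγ hco => ?_)
        exact s5156_coprime_fix_trivial hS E hRn hcent hTsc hPS hRP γ hγ.1 hco hγ.2
    exact hdP hd_in
  have hR_le : R ≤ E.core := le_sSup hRE
  have hC_le : centralizerIn S R ≤ E.core := le_sSup hCn
  have hcc : centralizerIn S E.core ≤ E.core := by
    intro x hx
    apply hC_le
    rw [Helper88.mem_centralizerIn_iff] at hx ⊢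
    exact ⟨hx.1, fun y hy => hx.2 y (hR_le hy)⟩
  exact ⟨hE, E.core, Helper88.isNormal_core E,
    Helper84.centric_of_normal_of_cent E (Helper88.isNormal_core E) hcc⟩

end Cfsg.Agent.Helper85
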