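import Cfsg.Agent.Helper85.Sat3

set_option autoImplicit false

namespace Cfsg.Agent.Helper85

open Cfsg Cfsg.FusionSystem
open scoped Pointwise

variable {Ω : Type*} [Group Ω] {S : Subgroup Ω}

/-- Stancu's criterion, key step: if `S` is fully automized and every fully normalized subgroup is receptive,
then every fully normalized subgroup is fully automized. -/
theorem fullyAutomized_of_fullyNormalized_aux {p : ℕ} [Fact p.Prime] [Finite S] (hS : IsPGroup p S)
    (F : FusionSystem S) (hSa : F.IsFullyAutomized p S)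
    (hrec : ∀ P : Subgroup Ω, F.IsFullyNormalized P → F.IsReceptive P) :
    ∀ (n : ℕ) (Q : Subgroup Ω), F.IsFullyNormalized Q → Nat.card S ≤ Nat.card Q + n →
      F.IsFullyAutomized p Q := by
  intro n
  induction n with
  | zero =>
    intro Q hQ hcard
    have hQS : Q = S := Subgroup.eq_of_le_of_card_ge hQ.1 (by simpa using hcard)
    subst hQS
    exact hSa
  | succ n ih =>
    intro Q hQ hcard
    by_cases hQS : Q = S
    · subst hQS; exact hSa
    have hQle : Q ≤ S := hQ.1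
    have hQfin : Finite Q := finite_of_le hQle
    refine ⟨hQle, ?_⟩
    by_contra hns
    have hB : IsPGroup p ((autInducedBy S Q).subgroupOf (F.autGroup Q)) :=
      (isPGroup_autInducedBy hS Q).comap_subtype
    obtain ⟨a, haB, ⟨j, haj⟩, hanorm⟩ := exists_normalizing_of_not_sylow _ hB hns
    have haI : IsIso F (a : MulAut Q) := (mem_autGroup_iff F hQle).1 a.2
    have haB' : (a : MulAut Q) ∉ autInducedBy S Q := fun h => haB (Subgroup.mem_subgroupOf.2 h)
    have haj' : (a : MulAut Q) ^ p ^ j = 1 := by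
      have := congrArg Subtype.val haj
      simpa using this
    have hanorm' : ∀ b ∈ autInducedBy S Q, (a : MulAut Q) * b * (a : MulAut Q)⁻¹ ∈ autInducedBy S Q := by
      intro b hb
      have hbA : b ∈ F.autGroup Q := autInducedBy_le_autGroup F hQle hb
      have h1 := hanorm ⟨b, hbA⟩ (Subgroup.mem_subgroupOf.2 hb)
      exact Subgroup.mem_subgroupOf.1 h1
    -- `N_S(Q)` lies in the extender of `a`
    have hχ : Q.subtype.comp (a : MulAut Q).toMonoidHom ∈ F.Hom Q := haI
    have hχr : (Q.subtype.comp (a : MulAut Q).toMonoidHom).range = Q := by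
      ext y
      constructor
      · rintro ⟨x, rfl⟩
        exact ((a : MulAut Q) x).2
      · intro hy
        refine ⟨(a : MulAut Q).symm ⟨y, hy⟩, ?_⟩
        show (((a : MulAut Q) ((a : MulAut Q).symm ⟨y, hy⟩) : Q) : Ω) = y
        rw [MulEquiv.apply_symm_apply]
    have hNE : normalizerIn S Q ≤ extender S Q (Q.subtype.comp (a : MulAut Q).toMonoidHom) := by
      intro g hg
      obtain ⟨h, hh, hkey⟩ := mem_autInducedBy_iff.1
        (hanorm' _ (normalizerMonoidHom_mem_autInducedBy hg.1 hg.2))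
      refine mem_extender_of hg.1 hg.2 h hh (fun x hx => ?_)
      have h3 := hkey ((a : MulAut Q) x)
      show (((a : MulAut Q) ⟨g * (x : Ω) * g⁻¹, hx⟩ : Q) : Ω) = h * (((a : MulAut Q) x : Q) : Ω) * h⁻¹
      rw [← h3]
      show _ = (((a : MulAut Q) (Q.normalizerMonoidHom ⟨g, hg.2⟩
        ((a : MulAut Q)⁻¹ ((a : MulAut Q) x))) : Q) : Ω)
      have h4 : (a : MulAut Q)⁻¹ ((a : MulAut Q) x) = x := MulEquiv.symm_apply_apply _ _
      rw [h4]
      rfl
    obtain ⟨ψ₀, hψ₀, hext⟩ := (hrec Q hQ).2 Q _ hχ hχr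
    have hQN : Q ≤ normalizerIn S Q := fun x hx => ⟨hQle hx, Subgroup.le_normalizer hx⟩
    have hNS : normalizerIn S Q ≤ S := inf_le_left
    have hNfin : Finite ↥(normalizerIn S Q) := finite_of_le hNS
    -- the extension of `a` to `N_S(Q)`
    have hab : ψ₀.comp (Subgroup.inclusion hNE) ∈ F.Hom (normalizerIn S Q) := restrict_mem F hψ₀ hNE
    have habQ : ∀ x : Q, (ψ₀.comp (Subgroup.inclusion hNE)) (Subgroup.inclusion hQN x)
        = (((a : MulAut Q) x : Q) : Ω) := fun x => hext x x.2 (hNE (hQN x.2))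
    have habN : ∀ x, (ψ₀.comp (Subgroup.inclusion hNE)) x ∈ normalizerIn S Q := by
      intro x
      refine ⟨(F.le_of_mem hab).2 x, map_mem_normalizer F (R := Q) (Q := Q) ?_ ?_ x x.2.2⟩
      · intro y hy
        refine ⟨Subgroup.inclusion hQN ((a : MulAut Q).symm ⟨y, hy⟩), Subtype.coe_prop _, ?_⟩
        rw [habQ]
        show (((a : MulAut Q) ((a : MulAut Q).symm ⟨y, hy⟩) : Q) : Ω) = y
        rw [MulEquiv.apply_symm_apply]
      · intro x hx
        have h1 := habQ ⟨x, hx⟩
        rw [show Subgroup.inclusion hQN ⟨(x : Ω), hx⟩ = x from rfl] at h1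
        rw [h1]
        exact Subtype.coe_prop _
    have habr : (ψ₀.comp (Subgroup.inclusion hNE)).range = normalizerIn S Q := by
      have hle : (ψ₀.comp (Subgroup.inclusion hNE)).range ≤ normalizerIn S Q := by
        rintro _ ⟨x, rfl⟩
        exact habN x
      apply Subgroup.eq_of_le_of_card_ge hle
      have hrfin : Finite ↥(ψ₀.comp (Subgroup.inclusion hNE)).range := finite_of_le (hle.trans hNS)
      exact Nat.card_le_card_of_injective
        (fun x => (⟨(ψ₀.comp (Subgroup.inclusion hNE)) x, ⟨x, rfl⟩⟩ : (ψ₀.comp (Subgroup.inclusion hNE)).range))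
        (fun x y h => F.injective_of_mem hab (congrArg Subtype.val h))
    obtain ⟨γ₀, hγ₀, hγ₀v⟩ := exists_isIso_of_hom F hab habr
    have hγ₀A : γ₀ ∈ F.autGroup (normalizerIn S Q) := (mem_autGroup_iff F hNS).2 hγ₀
    -- pass to the `p`-part
    have hord : orderOf γ₀ ≠ 0 := (orderOf_pos γ₀).ne'
    obtain ⟨k, m, hpm, hkm⟩ := Nat.exists_eq_pow_mul_and_not_dvd hord p (Fact.out : p.Prime).ne_one
    have hγA : γ₀ ^ m ∈ F.autGroup (normalizerIn S Q) := Subgroup.pow_mem _ hγ₀A m
    have hγI : IsIso F (γ₀ ^ m) := (mem_autGroup_iff F hNS).1 hγA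
    have hγp : (γ₀ ^ m) ^ p ^ k = 1 := by
      rw [← pow_mul, mul_comm, ← hkm]
      exact pow_orderOf_eq_one γ₀
    have hγQ : ∀ x : Q, (((γ₀ ^ m) (Subgroup.inclusion hQN x) : ↥(normalizerIn S Q)) : Ω)
        = ((((a : MulAut Q) ^ m) x : Q) : Ω) :=
      pow_restrict hQN γ₀ (a : MulAut Q) (fun x => (hγ₀v _).trans (habQ x)) m
    have ham : (a : MulAut Q) ^ m ∉ autInducedBy S Q := by
      intro h
      have hcop : m.Coprime (orderOf (a : MulAut Q)) := by
        have hdvd : orderOf (a : MulAut Q) ∣ p ^ j := orderOf_dvd_of_pow_eq_one haj'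
        have h1 : m.Coprime (p ^ j) :=
          Nat.Coprime.pow_right _ ((Nat.Prime.coprime_iff_not_dvd Fact.out).2 hpm).symm
        exact Nat.Coprime.coprime_dvd_right hdvd h1
      obtain ⟨t, ht⟩ := exists_pow_eq_self_of_coprime hcop
      apply haB'
      rw [← ht]
      exact Subgroup.pow_mem _ h t
    -- a fully normalized conjugate of `N_S(Q)`
    have hlt := card_lt_card_normalizerIn hS hQle hQS
    obtain ⟨N', hNN', hN'⟩ := exists_fullyNormalized_conj F hNS
    obtain ⟨e, he⟩ := (isConj_iff F).1 hNN'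
    have hcardN' : Nat.card N' = Nat.card (normalizerIn S Q) := (Nat.card_congr e.toEquiv).symm
    have hN'a : F.IsFullyAutomized p N' := ih N' hN' (by omega)
    obtain ⟨hN'S, R₁, hR₁⟩ := hN'a
    have hN'fin : Finite N' := finite_of_le hN'S
    have hβI : IsIso F (MulAut.congr e (γ₀ ^ m)) := he.symm.trans (hγI.trans he)
    have hβA : MulAut.congr e (γ₀ ^ m) ∈ F.autGroup N' := (mem_autGroup_iff F hN'S).2 hβI
    have hβp : (MulAut.congr e (γ₀ ^ m)) ^ p ^ k = 1 := by
      rw [← map_pow, hγp, map_one]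
    have hβp' : (⟨MulAut.congr e (γ₀ ^ m), hβA⟩ : F.autGroup N') ^ p ^ k = 1 := Subtype.ext hβp
    have hzp : IsPGroup p (Subgroup.zpowers (⟨MulAut.congr e (γ₀ ^ m), hβA⟩ : F.autGroup N')) := by
      rintro ⟨g, hg⟩
      obtain ⟨z, rfl⟩ := Subgroup.mem_zpowers_iff.1 hg
      refine ⟨k, Subtype.ext ?_⟩
      show ((⟨MulAut.congr e (γ₀ ^ m), hβA⟩ : F.autGroup N') ^ z) ^ p ^ k = 1
      rw [← zpow_natCast, ← zpow_mul, mul_comm, zpow_mul, zpow_natCast, hβp', one_zpow]
    obtain ⟨P₁, hP₁⟩ := hzp.exists_le_sylow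
    obtain ⟨δ, hδ⟩ := MulAction.exists_smul_eq (F.autGroup N') P₁ R₁
    have hδI : IsIso F (δ : MulAut N') := (mem_autGroup_iff F hN'S).1 δ.2
    obtain ⟨y, hyS, hy⟩ : ∃ y ∈ S, ∀ z : N',
        ((((δ : MulAut N') * MulAut.congr e (γ₀ ^ m) * (δ : MulAut N')⁻¹) z : N') : Ω)
          = y * (z : Ω) * y⁻¹ := by
      have h1 : (⟨MulAut.congr e (γ₀ ^ m), hβA⟩ : F.autGroup N') ∈ (P₁ : Subgroup (F.autGroup N')) :=
        hP₁ (Subgroup.mem_zpowers _)
      have h2 : MulAut.conj δ • (⟨MulAut.congr e (γ₀ ^ m), hβA⟩ : F.autGroup N')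
          ∈ MulAut.conj δ • (P₁ : Subgroup (F.autGroup N')) :=
        Subgroup.smul_mem_pointwise_smul _ _ _ h1
      rw [← Sylow.coe_subgroup_smul, hδ, hR₁, Subgroup.mem_subgroupOf] at h2
      exact mem_autInducedBy_iff.1 h2
    have he' : IsIso F (e.trans (δ : MulAut N')) := he.trans hδI
    have hstar : ∀ x : ↥(normalizerIn S Q), (((e.trans (δ : MulAut N')) ((γ₀ ^ m) x) : N') : Ω)
        = y * (((e.trans (δ : MulAut N')) x : N') : Ω) * y⁻¹ := by
      intro x
      rw [← hy]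
      show (((δ : MulAut N') (e ((γ₀ ^ m) x)) : N') : Ω) = (((δ : MulAut N') (e ((γ₀ ^ m)
        (e.symm ((δ : MulAut N')⁻¹ ((δ : MulAut N') (e x))))))) : Ω)
      have h4 : (δ : MulAut N')⁻¹ ((δ : MulAut N') (e x)) = e x := MulEquiv.symm_apply_apply _ _
      rw [h4, MulEquiv.symm_apply_apply]
    -- the image of `Q`
    have hψ' : N'.subtype.comp (e.trans (δ : MulAut N')).toMonoidHom ∈ F.Hom (normalizerIn S Q) := he'
    have hQ'mem : ∀ x : ↥(normalizerIn S Q), (x : Ω) ∈ Q →
        (N'.subtype.comp (e.trans (δ : MulAut N')).toMonoidHom) x ∈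
          (Q.subgroupOf (normalizerIn S Q)).map (N'.subtype.comp (e.trans (δ : MulAut N')).toMonoidHom) :=
      fun x hx => ⟨x, hx, rfl⟩
    have hQ'surj : ∀ z ∈ (Q.subgroupOf (normalizerIn S Q)).map
        (N'.subtype.comp (e.trans (δ : MulAut N')).toMonoidHom),
        ∃ x : ↥(normalizerIn S Q), (x : Ω) ∈ Q ∧
          (N'.subtype.comp (e.trans (δ : MulAut N')).toMonoidHom) x = z := by
      rintro z ⟨x, hx, rfl⟩
      exact ⟨x, hx, rfl⟩
    have hQ'S : (Q.subgroupOf (normalizerIn S Q)).map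
        (N'.subtype.comp (e.trans (δ : MulAut N')).toMonoidHom) ≤ S := by
      rintro z ⟨x, hx, rfl⟩
      exact (F.le_of_mem hψ').2 x
    have hQ'fin : Finite ↥((Q.subgroupOf (normalizerIn S Q)).map
        (N'.subtype.comp (e.trans (δ : MulAut N')).toMonoidHom)) := finite_of_le hQ'S
    have hQQ' : F.IsConj Q ((Q.subgroupOf (normalizerIn S Q)).map
        (N'.subtype.comp (e.trans (δ : MulAut N')).toMonoidHom)) := by
      refine ⟨(N'.subtype.comp (e.trans (δ : MulAut N')).toMonoidHom).comp (Subgroup.inclusion hQN),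
        restrict_mem F hψ' hQN, ?_⟩
      ext z
      constructor
      · rintro ⟨x, rfl⟩
        exact ⟨Subgroup.inclusion hQN x, x.2, rfl⟩
      · rintro ⟨x, hx, rfl⟩
        exact ⟨⟨x, hx⟩, rfl⟩
    have hcard2 := hQ.2 _ hQQ'
    have hN'le : N' ≤ normalizerIn S ((Q.subgroupOf (normalizerIn S Q)).map
        (N'.subtype.comp (e.trans (δ : MulAut N')).toMonoidHom)) := by
      intro n' hn'
      refine ⟨hN'S hn', ?_⟩
      have h1 := map_mem_normalizer F hQ'surj hQ'mem ((e.trans (δ : MulAut N')).symm ⟨n', hn'⟩)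
        (Subtype.coe_prop ((e.trans (δ : MulAut N')).symm ⟨n', hn'⟩)).2
      have h5 : (N'.subtype.comp (e.trans (δ : MulAut N')).toMonoidHom)
          ((e.trans (δ : MulAut N')).symm ⟨n', hn'⟩) = n' := by
        show (((e.trans (δ : MulAut N')) ((e.trans (δ : MulAut N')).symm ⟨n', hn'⟩) : N') : Ω) = n'
        rw [MulEquiv.apply_symm_apply]
      rwa [h5] at h1
    have hNQ'fin : Finite ↥(normalizerIn S ((Q.subgroupOf (normalizerIn S Q)).map
        (N'.subtype.comp (e.trans (δ : MulAut N')).toMonoidHom))) := finite_of_le inf_le_left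
    have hN'eq : N' = normalizerIn S ((Q.subgroupOf (normalizerIn S Q)).map
        (N'.subtype.comp (e.trans (δ : MulAut N')).toMonoidHom)) :=
      Subgroup.eq_of_le_of_card_ge hN'le (by rw [hcardN']; exact hcard2)
    have hyN : y ∈ normalizerIn S ((Q.subgroupOf (normalizerIn S Q)).map
        (N'.subtype.comp (e.trans (δ : MulAut N')).toMonoidHom)) := by
      refine ⟨hyS, mem_normalizer_of_conj_mem ?_⟩
      intro z hz
      obtain ⟨x, hx, rfl⟩ := hQ'surj z hz
      have h6 := hstar x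
      show y * (((e.trans (δ : MulAut N')) x : N') : Ω) * y⁻¹ ∈ _
      rw [← h6]
      apply hQ'mem ((γ₀ ^ m) x)
      have h7 := hγQ ⟨x, hx⟩
      rw [show Subgroup.inclusion hQN ⟨(x : Ω), hx⟩ = x from rfl] at h7
      rw [h7]
      exact Subtype.coe_prop _
    have hyN' : y ∈ N' := by
      rw [hN'eq]
      exact hyN
    have hn : (((e.trans (δ : MulAut N')) ((e.trans (δ : MulAut N')).symm ⟨y, hyN'⟩) : N') : Ω) = y := by
      rw [MulEquiv.apply_symm_apply]
    have hγn : ∀ x : ↥(normalizerIn S Q), (γ₀ ^ m) x = (e.trans (δ : MulAut N')).symm ⟨y, hyN'⟩ * x *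
        ((e.trans (δ : MulAut N')).symm ⟨y, hyN'⟩)⁻¹ := by
      intro x
      apply (e.trans (δ : MulAut N')).injective
      apply Subtype.ext
      rw [hstar x, map_mul, map_mul, map_inv]
      show _ = (((e.trans (δ : MulAut N')) ((e.trans (δ : MulAut N')).symm ⟨y, hyN'⟩) : N') : Ω) *
        (((e.trans (δ : MulAut N')) x : N') : Ω) *
        (((e.trans (δ : MulAut N')) ((e.trans (δ : MulAut N')).symm ⟨y, hyN'⟩) : N') : Ω)⁻¹
      rw [hn]
    apply ham
    refine mem_autInducedBy_iff.2 ⟨(((e.trans (δ : MulAut N')).symm ⟨y, hyN'⟩ : ↥(normalizerIn S Q)) : Ω),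
      (Subtype.coe_prop ((e.trans (δ : MulAut N')).symm ⟨y, hyN'⟩)).1, fun x => ?_⟩
    rw [← hγQ x, hγn]
    rfl

end Cfsg.Agent.Helper85
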