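import Cfsg.Agent.Helper85.WkDefs
import Cfsg.Agent.Helper85.WkHB
import Cfsg.Agent.Helper86.FusTransfer

set_option autoImplicit false

/-!
# S5271 piece B1 (helper85): if every map of a saturated system defined on a subgroup containing the strongly
closed subgroup `X` is a conjugation by an element of `S`, then the hyperfocal subgroup lies in `X`.
-/

namespace Cfsg.Agent.Helper85

open Cfsg Cfsg.FusionSystem

variable {Ω : Type*} [Group Ω] {S : Subgroup Ω}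

theorem wk_hyp_le [Finite S] {p : ℕ} [Fact p.Prime] (hS : IsPGroup p S) (F : FusionSystem S)
    (hF : F.IsSaturated p) (X : Subgroup Ω) (hX : F.StronglyClosed X)
    (hinn : ∀ (A : Subgroup Ω), X ≤ A → ∀ ψ ∈ F.Hom A, ∃ g ∈ S, ∀ x : A, ψ x = g * (x : Ω) * g⁻¹) :
    F.hyperfocalSubgroup p ≤ X := by
  haveI : (X.subgroupOf S).Normal := Helper86.stronglyClosed_subgroupOf_normal F hX
  obtain ⟨E, hE, -, hEhyp⟩ := wk_quot hS F hF X hX
  obtain ⟨hXS, hker, -, hHom⟩ := hE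
  have hEinn : ∀ (P' : Subgroup (S ⧸ X.subgroupOf S)) (φ' : P' →* (S ⧸ X.subgroupOf S)), φ' ∈ E.Hom P' →
      ∃ g ∈ (⊤ : Subgroup (S ⧸ X.subgroupOf S)), ∀ x : P', φ' x = g * (x : S ⧸ X.subgroupOf S) * g⁻¹ := by
    intro P' φ' hφ'
    obtain ⟨-, φ, hφ, hP, hφS, hP', hind⟩ := (hHom P' φ').1 hφ'
    have hXpre : X ≤ preimageAlong (QuotientGroup.mk' (X.subgroupOf S)) P' := by
      intro x hx
      refine ⟨⟨x, hXS hx⟩, ?_, rfl⟩
      show QuotientGroup.mk' (X.subgroupOf S) ⟨x, hXS hx⟩ ∈ P'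
      have h1 : QuotientGroup.mk' (X.subgroupOf S) ⟨x, hXS hx⟩ = 1 := (hker ⟨x, hXS hx⟩).2 hx
      rw [h1]
      exact P'.one_mem
    obtain ⟨g, hg, hgx⟩ := hinn _ hXpre φ hφ
    refine ⟨QuotientGroup.mk' (X.subgroupOf S) ⟨g, hg⟩, Subgroup.mem_top _, ?_⟩
    rintro ⟨x'v, hx'v⟩
    obtain ⟨s, rfl⟩ := QuotientGroup.mk'_surjective (X.subgroupOf S) x'v
    have hsP : (s : Ω) ∈ preimageAlong (QuotientGroup.mk' (X.subgroupOf S)) P' := ⟨s, hx'v, rfl⟩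
    have h1 := hind ⟨(s : Ω), hsP⟩
    refine h1.trans ?_
    show QuotientGroup.mk' (X.subgroupOf S) ⟨φ ⟨(s : Ω), hsP⟩, hφS ⟨(s : Ω), hsP⟩⟩ =
      QuotientGroup.mk' (X.subgroupOf S) ⟨g, hg⟩ * QuotientGroup.mk' (X.subgroupOf S) s *
        (QuotientGroup.mk' (X.subgroupOf S) ⟨g, hg⟩)⁻¹
    rw [← map_inv, ← map_mul, ← map_mul]
    congr 1
    exact Subtype.ext (hgx ⟨(s : Ω), hsP⟩)
  have hS' : IsPGroup p (⊤ : Subgroup (S ⧸ X.subgroupOf S)) :=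
    (hS.to_quotient (X.subgroupOf S)).to_subgroup ⊤
  have hbot := wk_hyp_bot_of_inner hS' E hEinn
  rw [hbot] at hEhyp
  intro y hy
  have hyS : y ∈ S := (Cfsg.Agent.S5124.result p hS F hF).1 hy
  have h2 : QuotientGroup.mk' (X.subgroupOf S) ⟨y, hyS⟩ ∈
      ((F.hyperfocalSubgroup p).subgroupOf S).map (QuotientGroup.mk' (X.subgroupOf S)) :=
    ⟨⟨y, hyS⟩, hy, rfl⟩
  rw [← hEhyp, Subgroup.mem_bot] at h2
  exact (hker ⟨y, hyS⟩).1 h2

end Cfsg.Agent.Helper85
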