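import Cfsg.Agent.Helper85.WkDefs
import Cfsg.Agent.Helper85.Normal2
import Cfsg.Agent.Helper85.Frattini
import Cfsg.Agent.Helper84.FusionNormal

set_option autoImplicit false

/-!
# S5271 piece B2 (helper85): if the normalizer systems of the fully normalized subgroups of order `d` are inner,
then every map of the system defined on a subgroup containing a strongly closed subgroup of order `d` is a
conjugation by an element of `S`.
-/

namespace Cfsg.Agent.Helper85

open Cfsg Cfsg.FusionSystem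

variable {Ω : Type*} [Group Ω] {S : Subgroup Ω}

theorem wk_inner_above [Finite S] {p : ℕ} [Fact p.Prime] (hS : IsPGroup p S) (F : FusionSystem S)
    (hF : F.IsSaturated p) {d : ℕ} (hnorm : WkNorm F d) (X : Subgroup Ω) (hX : F.StronglyClosed X)
    (hXd : Nat.card ↥X = d) (A : Subgroup Ω) (hXA : X ≤ A) (ψ : A →* Ω) (hψ : ψ ∈ F.Hom A) :
    ∃ g ∈ S, ∀ x : A, ψ x = g * (x : Ω) * g⁻¹ := by
  have hXS : X ≤ S := hX.1
  have hAS : A ≤ S := (F.le_of_mem hψ).1
  have hconj : ∀ Q : Subgroup Ω, F.IsConj X Q → Q = X := by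
    rintro Q ⟨φ, hφ, rfl⟩
    have h := stronglyClosed_map_eq hX le_rfl hφ
    rw [MonoidHom.range_eq_map]
    rw [Subgroup.subgroupOf_self] at h
    exact h
  have hfn : F.IsFullyNormalized X := ⟨hXS, fun Q hQ => by rw [hconj Q hQ]⟩
  obtain ⟨N, hN⟩ := Helper84.exists_normalizerSystem F X hXS
  have hSn : ∀ s ∈ S, s ∈ normalizerIn S X := by
    intro s hs
    refine Subgroup.mem_inf.2 ⟨hs, ?_⟩
    rw [Subgroup.mem_normalizer_iff]
    intro t
    constructor
    · intro ht
      exact stronglyClosed_conj_mem hX hs ht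
    · intro ht
      have h2 := stronglyClosed_conj_mem hX (S.inv_mem hs) ht
      have e : s⁻¹ * (s * t * s⁻¹) * s⁻¹⁻¹ = t := by group
      rwa [e] at h2
  have hle : A ⊔ X ≤ A := sup_le le_rfl hXA
  have hmem : ψ ∈ F.normalizerHom X A := by
    refine ⟨hψ, fun a ha => hSn a (hAS ha), fun x => hSn _ ((F.le_of_mem hψ).2 x), ?_⟩
    refine ⟨ψ.comp (Subgroup.inclusion hle), restrict_mem F hψ hle, fun x => rfl, ?_⟩
    exact stronglyClosed_map_eq hX le_sup_right (restrict_mem F hψ hle)
  have h1 : ψ ∈ N.Hom A := by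
    rw [hN A]
    exact hmem
  rw [hnorm X hfn hXd N hN A] at h1
  obtain ⟨-, g, hg, hgx⟩ := h1
  exact ⟨g, (Subgroup.mem_inf.1 hg).1, hgx⟩

end Cfsg.Agent.Helper85
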