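import Cfsg.Agent.Helper85.WkDefs
import Cfsg.Agent.Helper86.FrattiniMod
import Cfsg.Agent.Helper86.FusTransfer

set_option autoImplicit false

/-!
# S5271 piece F (helper85): if the hyperfocal subgroup of a saturated system lies in every subgroup of index `p`
containing the strongly closed subgroup `T`, then it lies in `T` (Tate's theorem modulo `T`).
-/

namespace Cfsg.Agent.Helper85

open Cfsg Cfsg.FusionSystem

variable {Ω : Type*} [Group Ω] {S : Subgroup Ω}

theorem wk_tate_mod [Finite S] {p : ℕ} [Fact p.Prime] (hS : IsPGroup p S) (F : FusionSystem S)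
    (hF : F.IsSaturated p) (T : Subgroup Ω) (hT : F.StronglyClosed T)
    (hmax : ∀ M : Subgroup Ω, T ≤ M → M ≤ S → Nat.card ↥M * p = Nat.card ↥S →
      F.hyperfocalSubgroup p ≤ M) : F.hyperfocalSubgroup p ≤ T := by
  haveI : (T.subgroupOf S).Normal := Helper86.stronglyClosed_subgroupOf_normal F hT
  obtain ⟨E, hE, hEsat, hEhyp⟩ := wk_quot hS F hF T hT
  obtain ⟨hTS, hker, -, -⟩ := hE
  have hS' : IsPGroup p (⊤ : Subgroup (S ⧸ T.subgroupOf S)) :=
    (hS.to_quotient (T.subgroupOf S)).to_subgroup ⊤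
  have hYS : F.hyperfocalSubgroup p ≤ S := (Cfsg.Agent.S5124.result p hS F hF).1
  have hcp : Nat.card (Multiplicative (ZMod p)) = p :=
    (Nat.card_congr (Multiplicative.toAdd (α := ZMod p))).trans (Nat.card_zmod p)
  have hkill : ∀ (ν : (⊤ : Subgroup (S ⧸ T.subgroupOf S)) →* Multiplicative (ZMod p)) (y : Ω)
      (hy : y ∈ F.hyperfocalSubgroup p),
      ν ⟨QuotientGroup.mk' (T.subgroupOf S) ⟨y, hYS hy⟩, Subgroup.mem_top _⟩ = 1 := by
    intro ν y hy
    by_contra hne
    let κ : S →* Multiplicative (ZMod p) :=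
      ν.comp ((QuotientGroup.mk' (T.subgroupOf S)).codRestrict ⊤ (fun _ => Subgroup.mem_top _))
    have hκy : κ ⟨y, hYS hy⟩ ≠ 1 := hne
    have hrange : κ.range = ⊤ := by
      haveI : Fact (Nat.card (Multiplicative (ZMod p))).Prime := ⟨by rw [hcp]; exact Fact.out⟩
      rcases Subgroup.eq_bot_or_eq_top_of_prime_card κ.range with h | h
      · exfalso
        apply hκy
        have h1 : κ ⟨y, hYS hy⟩ ∈ κ.range := ⟨_, rfl⟩
        rw [h] at h1
        exact Subgroup.mem_bot.1 h1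
      · exact h
    have hcard : Nat.card ↥(κ.ker.map S.subtype) * p = Nat.card ↥S := by
      have h1 : Nat.card ↥(κ.ker.map S.subtype) = Nat.card ↥κ.ker :=
        Subgroup.card_map_of_injective (Subgroup.subtype_injective S)
      have h2 := Subgroup.card_mul_index κ.ker
      have h3 : κ.ker.index = p := by
        rw [Subgroup.index_ker, hrange, Subgroup.card_top, hcp]
      rw [h1, ← h2, h3]
    have hTM : T ≤ κ.ker.map S.subtype := by
      intro x hx
      refine ⟨⟨x, hTS hx⟩, ?_, rfl⟩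
      rw [SetLike.mem_coe, MonoidHom.mem_ker]
      show ν ⟨QuotientGroup.mk' (T.subgroupOf S) ⟨x, hTS hx⟩, Subgroup.mem_top _⟩ = 1
      have h1 : QuotientGroup.mk' (T.subgroupOf S) ⟨x, hTS hx⟩ = 1 := (hker ⟨x, hTS hx⟩).2 hx
      have h2 : (⟨QuotientGroup.mk' (T.subgroupOf S) ⟨x, hTS hx⟩, Subgroup.mem_top _⟩ :
          (⊤ : Subgroup (S ⧸ T.subgroupOf S))) = 1 := Subtype.ext h1
      rw [h2, map_one]
    have hMS : κ.ker.map S.subtype ≤ S := by
      rintro _ ⟨x, -, rfl⟩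
      exact x.2
    have h4 := hmax _ hTM hMS hcard hy
    obtain ⟨x, hx, hxy⟩ := h4
    have hxe : x = ⟨y, hYS hy⟩ := Subtype.ext hxy
    rw [hxe] at hx
    exact hκy (MonoidHom.mem_ker.1 hx)
  have hle : E.hyperfocalSubgroup p ≤ ⊥ := by
    apply Helper86.hyperfocal_le_of_le_frattini_sup hS' E hEsat ⊥
    · intro s _ u hu
      rw [Subgroup.mem_bot] at hu ⊢
      rw [hu]
      group
    · exact bot_le
    · refine le_trans ?_ (le_sup_left.trans le_sup_left)
      rw [hEhyp]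
      rintro _ ⟨⟨y, hyS⟩, hy, rfl⟩
      refine ⟨⟨QuotientGroup.mk' (T.subgroupOf S) ⟨y, hyS⟩, Subgroup.mem_top _⟩, ?_, rfl⟩
      have hz : Subgroup.zpowers (⟨QuotientGroup.mk' (T.subgroupOf S) ⟨y, hyS⟩, Subgroup.mem_top _⟩ :
          (⊤ : Subgroup (S ⧸ T.subgroupOf S))) ≤ frattini ↥(⊤ : Subgroup (S ⧸ T.subgroupOf S)) := by
        refine le_iInf₂ (fun M hM => ?_)
        obtain ⟨ν, hν⟩ := Helper86.exists_hom_ker_eq_of_isCoatom hS' M hM
        rw [← hν, Subgroup.zpowers_le]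
        exact MonoidHom.mem_ker.2 (hkill ν y (Subgroup.mem_subgroupOf.1 hy))
      exact hz (Subgroup.mem_zpowers _)
  intro y hy
  have h2 : QuotientGroup.mk' (T.subgroupOf S) ⟨y, hYS hy⟩ ∈
      ((F.hyperfocalSubgroup p).subgroupOf S).map (QuotientGroup.mk' (T.subgroupOf S)) :=
    ⟨⟨y, hYS hy⟩, hy, rfl⟩
  rw [← hEhyp] at h2
  have h3 := hle h2
  rw [Subgroup.mem_bot] at h3
  exact (hker ⟨y, hYS hy⟩).1 h3

end Cfsg.Agent.Helper85
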