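import Cfsg.Agent.Helper85.WkDefs
import Cfsg.Agent.Helper85.WkHB
import Cfsg.Agent.Helper85.WkB1
import Cfsg.Agent.Helper85.WkB2
import Cfsg.Agent.Helper85.WkF
import Cfsg.Agent.Helper33.WkP
import Cfsg.Agent.Helper33.WkA
import Cfsg.Agent.Helper33.WkD
import Cfsg.Agent.Helper33.WkH
import Cfsg.Agent.Helper86.FrattiniMod
import Cfsg.Agent.Helper84.FusionSat2
import Cfsg.Agent.Helper84.FusionSeries

set_option autoImplicit false

/-!
# S5271, backward direction (helper85): a saturated fusion system with a subgroup `1 < D < S` such that every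
subgroup of order `|D|` is weakly embedded and the normalizer systems of the fully normalized subgroups of order
`|D|` are inner is the inner fusion system.

Pieces: `wk_chain`, `wk_star`, `wk_card_mul_le`, `wk_caseb` (helper33), `wk_cyclic_hyp`, `wk_pchain` (helper78),
`wk_hyp_le`, `wk_inner_above`, `wk_tate_mod`, `wk_hyp_bot_of_inner` (helper85).
-/

namespace Cfsg.Agent.Helper85

open Cfsg Cfsg.FusionSystem

variable {Ω : Type*} [Group Ω] {S : Subgroup Ω}

theorem wk_backward [Finite S] (p : ℕ) [Fact p.Prime] (hS : IsPGroup p S) (F : FusionSystem S)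
    (hF : F.IsSaturated p) (D : Subgroup Ω) (hD1 : ⊥ < D) (hD2 : D < S)
    (hemb : WkEmb F (Nat.card ↥D)) (hnorm : WkNorm F (Nat.card ↥D)) :
    ∀ P : Subgroup Ω, F.Hom P = (innerFusionSystem S).Hom P := by
  apply Helper86.inner_of_hyperfocal_eq_bot hS F hF
  by_contra hY
  have hDS : D ≤ S := hD2.le
  have hYsc : F.StronglyClosed (F.hyperfocalSubgroup p) := Cfsg.Agent.S5124.result p hS F hF
  have hSsc : F.StronglyClosed S := ⟨le_rfl, fun R hR φ hφ x => (F.le_of_mem hφ).2 x⟩
  -- strongly closed subgroups of order `d` contain the hyperfocal subgroup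
  have s2 : ∀ X : Subgroup Ω, F.StronglyClosed X → Nat.card ↥X = Nat.card ↥D →
      F.hyperfocalSubgroup p ≤ X := fun X hX hXd =>
    wk_hyp_le hS F hF X hX (fun A hXA ψ hψ => wk_inner_above hS F hF hnorm X hX hXd A hXA ψ hψ)
  have s1 : ∀ T : Subgroup Ω, F.StronglyClosed T → Nat.card ↥D ≤ Nat.card ↥T →
      F.hyperfocalSubgroup p ≤ T := by
    intro T hT hc
    obtain ⟨X, hX, hXT, hXd⟩ := Helper33.WkA.wk_chain hS F hF hDS hemb T hT hc
    exact (s2 X hX hXd).trans hXT
  -- maps defined on `S` are inner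
  have hinnS : ∀ (A : Subgroup Ω), S ≤ A → ∀ ψ ∈ F.Hom A,
      ∃ g ∈ S, ∀ x : A, ψ x = g * (x : Ω) * g⁻¹ := by
    intro A hSA ψ hψ
    obtain ⟨X, hX, hXS, hXd⟩ :=
      Helper33.WkA.wk_chain hS F hF hDS hemb S hSsc (Subgroup.card_le_of_le hDS)
    exact wk_inner_above hS F hF hnorm X hX hXd A (hXS.trans hSA) ψ hψ
  -- a strongly closed subgroup of maximal order not containing the hyperfocal subgroup
  obtain ⟨T, ⟨hT, hYT⟩, hTmax⟩ := Helper84.exists_max_nat (fun T : Subgroup Ω => Nat.card ↥T)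
    (fun T => F.StronglyClosed T ∧ ¬ F.hyperfocalSubgroup p ≤ T)
    ⟨⊥, Helper84.stronglyClosed_bot F, fun h => hY (le_bot_iff.1 h)⟩ (Nat.card ↥S)
    (fun T hT => Subgroup.card_le_of_le hT.1.1)
  have hTd : Nat.card ↥T < Nat.card ↥D := by
    by_contra h
    exact hYT (s1 T hT (not_lt.1 h))
  have hW : F.StronglyClosed (F.hyperfocalSubgroup p ⊔ T) :=
    Cfsg.Agent.S5128.result p hS F hF _ _ hYsc hT
  have hmin : ∀ T' : Subgroup Ω, F.StronglyClosed T' → T ≤ T' → T' ≠ T →
      F.hyperfocalSubgroup p ⊔ T ≤ T' := by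
    intro T' hT' hTT' hne
    refine sup_le ?_ hTT'
    by_contra hYT'
    have h1 := hTmax T' ⟨hT', hYT'⟩
    have hfin : Finite ↥T' :=
      Finite.of_injective (Subgroup.inclusion hT'.1) (Subgroup.inclusion_injective _)
    have h2 : T = T' := Subgroup.eq_of_le_of_card_ge hTT' h1
    exact hne h2.symm
  by_cases hall : ∀ M : Subgroup Ω, T ≤ M → M ≤ S → Nat.card ↥M * p = Nat.card ↥S →
      F.hyperfocalSubgroup p ≤ M
  · exact hYT (wk_tate_mod hS F hF T hT hall)
  · push Not at hall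
    obtain ⟨M, hTM, hMS, hMp, hYM⟩ := hall
    have hDM : Nat.card ↥D ≤ Nat.card ↥M := by
      have h1 := Helper33.WkP.wk_card_mul_le hS hD2
      rw [← hMp] at h1
      exact Nat.le_of_mul_le_mul_right h1 (Fact.out : p.Prime).pos
    rcases Helper33.WkD.wk_star hS F hF hDS hemb T (F.hyperfocalSubgroup p ⊔ T) M hT hTd hW
      le_sup_right hmin hTM hMS hDM with h | h
    · exact hYM (le_sup_left.trans h)
    · exact hYT (Helper33.WkH.wk_caseb hS F hF T hT hinnS M hTM hMS hMp h)

end Cfsg.Agent.Helper85
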